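import Cfsg.Agent.Lib.Characterizations.TwoTimesSymmetric.Frame

/-!
# Actions on the elementary subgroup of a frame, and the Sylow subgroup of the centralizer
-/

set_option autoImplicit false
set_option linter.unusedSectionVars false
set_option linter.style.haveILetI false
set_option maxRecDepth 4000

namespace CfsgLib.Characterizations.TwoTimesSymmetric

open Subgroup CfsgLib.Characterizations.TwoTimesSymmetric.Count

/-- A linear map of the coordinate space, given by the images of the basis. -/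
abbrev Act := Fin 16 × Fin 16 × Fin 16 × Fin 16

/-- The value of a linear map. -/
def app (L : Act) (v : Fin 16) : Fin 16 :=
  (bif v.val.testBit 0 then L.1 else 0) ^^^ (bif v.val.testBit 1 then L.2.1 else 0) ^^^
    (bif v.val.testBit 2 then L.2.2.1 else 0) ^^^ (bif v.val.testBit 3 then L.2.2.2 else 0)

/-- Composition of linear maps. -/
def comp (L M : Act) : Act := (app L M.1, app L M.2.1, app L M.2.2.1, app L M.2.2.2)

/-- The identity. -/
def idA : Act := (1, 2, 4, 8)

/-- The exchange of the first two generators. -/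
def S : Act := (1, 4, 2, 8)

/-- The cycle of the three generators. -/
def R : Act := (1, 4, 8, 2)

/-- The permutations of the three generators. -/
def perms : List Act := [idA, R, comp R R, S, comp S R, comp S (comp R R)]

/-- The parity of a vector. -/
def par (v : Fin 16) : Bool :=
  xor (xor (v.val.testBit 0) (v.val.testBit 1)) (xor (v.val.testBit 2) (v.val.testBit 3))

/-- The parity without the first coordinate. -/
def par' (v : Fin 16) : Bool := xor (v.val.testBit 1) (xor (v.val.testBit 2) (v.val.testBit 3))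

/-- The central vectors of the Sylow subgroup. -/
def ZT : List (Fin 16) := [0, 1, 6, 7, 8, 9, 14, 15]

/-- A Boolean as an element of the group of order two. -/
def toC2 (b : Bool) : C2 := bif b then C2.one' else 1

theorem toC2_xor : ∀ b c : Bool, toC2 (xor b c) = toC2 b * toC2 c := by decide

theorem toC2_inj : ∀ b c : Bool, toC2 b = toC2 c → b = c := by decide

theorem app_idA : ∀ v : Fin 16, app idA v = v := by decide +kernel

theorem app_S : ∀ v : Fin 16, app S (app S v) = v := by decide +kernel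

theorem app_S_mem : ∀ v : Fin 16, app S v = v ↔ v ∈ ZT := by decide +kernel

theorem zero_xor16 : ∀ v : Fin 16, (0 : Fin 16) ^^^ v = v ∧ v ^^^ (0 : Fin 16) = v := by
  decide +kernel

theorem app_basis (L : Act) : app L 1 = L.1 ∧ app L 2 = L.2.1 ∧ app L 4 = L.2.2.1 ∧ app L 8 = L.2.2.2 := by
  simp +decide [app, Nat.testBit_eq_decide_div_mod_eq, zero_xor16]

namespace Frame

variable {G : Type*} [Group G] {t : G} (f : Frame t)

/-- `g` normalises `E` inducing `L`. -/
def Acts (g : G) (L : Act) : Prop := ∀ v : Fin 16, g * f.emb v * g⁻¹ = f.emb (app L v)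

theorem emb_pw (w : Fin 16) (b : Bool) : f.emb (bif b then w else 0) = pw (f.emb w) b := by
  cases b
  · exact f.emb_zero
  · rfl

theorem emb_app (L : Act) (v : Fin 16) : f.emb (app L v) =
    pw (f.emb L.1) (v.val.testBit 0) * pw (f.emb L.2.1) (v.val.testBit 1) *
      pw (f.emb L.2.2.1) (v.val.testBit 2) * pw (f.emb L.2.2.2) (v.val.testBit 3) := by
  rw [app, emb_mul, emb_mul, emb_mul, emb_pw, emb_pw, emb_pw, emb_pw]

theorem acts_mk {g : G} {L : Act} (h0 : g * t * g⁻¹ = f.emb L.1)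
    (h1 : g * f.a1 * g⁻¹ = f.emb L.2.1) (h2 : g * f.a2 * g⁻¹ = f.emb L.2.2.1)
    (h3 : g * f.a3 * g⁻¹ = f.emb L.2.2.2) : f.Acts g L := by
  intro v
  rw [emb_app]
  have hp : ∀ (x : G) (b : Bool), g * pw x b * g⁻¹ = pw (g * x * g⁻¹) b := fun x b => by
    cases b
    · simp [pw]
    · rfl
  rw [← h0, ← h1, ← h2, ← h3, ← hp, ← hp, ← hp, ← hp, emb]
  group

theorem acts_of_norm {g : G} (h : ∀ v : Fin 16, ∃ w, g * f.emb v * g⁻¹ = f.emb w) :
    ∃ L, f.Acts g L := by
  obtain ⟨w0, h0⟩ := h 1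
  obtain ⟨w1, h1⟩ := h 2
  obtain ⟨w2, h2⟩ := h 4
  obtain ⟨w3, h3⟩ := h 8
  rw [emb_one] at h0; rw [emb_a1] at h1; rw [emb_a2] at h2; rw [emb_a3] at h3
  exact ⟨(w0, w1, w2, w3), f.acts_mk h0 h1 h2 h3⟩

theorem emb_inj {v w : Fin 16} (h : f.emb v = f.emb w) : v = w := by
  have h0 : f.emb (v ^^^ w) = 1 := by rw [emb_mul, h, emb_sq]
  have key : ∀ u : Fin 16, u.val.testBit 0 = false → u.val.testBit 1 = false →
      u.val.testBit 2 = false → u.val.testBit 3 = false → u = 0 := by decide +kernel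
  obtain ⟨e0, e1, e2, e3⟩ := f.inj _ _ _ _ h0
  have := key _ e0 e1 e2 e3
  have hx : ∀ a b : Fin 16, a ^^^ b = 0 → a = b := by decide +kernel
  exact hx _ _ this

variable {f}

theorem Acts.eq {g : G} {L M : Act} (hL : f.Acts g L) (hM : f.Acts g M) : L = M := by
  have h : ∀ v, app L v = app M v := fun v => f.emb_inj ((hL v).symm.trans (hM v))
  obtain ⟨p, q, r, s⟩ := app_basis L
  obtain ⟨p', q', r', s'⟩ := app_basis M
  refine Prod.ext (p ▸ p' ▸ h 1) (Prod.ext (q ▸ q' ▸ h 2) (Prod.ext (r ▸ r' ▸ h 4) (s ▸ s' ▸ h 8)))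

theorem Acts.mul {g h : G} {L M : Act} (hL : f.Acts g L) (hM : f.Acts h M) :
    f.Acts (g * h) (comp L M) := by
  have key : ∀ (x : G) (w : Fin 16), h * x * h⁻¹ = f.emb w →
      g * h * x * (g * h)⁻¹ = f.emb (app L w) := fun x w e => by
    rw [show g * h * x * (g * h)⁻¹ = g * (h * x * h⁻¹) * g⁻¹ by group, e, hL]
  refine f.acts_mk (key _ _ ?_) (key _ _ ?_) (key _ _ ?_) (key _ _ ?_)
  · have := hM 1; rwa [(app_basis M).1, emb_one] at this
  · have := hM 2; rwa [(app_basis M).2.1, emb_a1] at this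
  · have := hM 4; rwa [(app_basis M).2.2.1, emb_a2] at this
  · have := hM 8; rwa [(app_basis M).2.2.2, emb_a3] at this

theorem Acts.injective {g : G} {L : Act} (hL : f.Acts g L) {v w : Fin 16}
    (h : app L v = app L w) : v = w := by
  have := (hL v).trans ((congrArg f.emb h).trans (hL w).symm)
  exact f.emb_inj (mul_left_cancel (mul_right_cancel this))

theorem Acts.inv [Finite G] {g : G} {L : Act} (hL : f.Acts g L) : ∃ M, f.Acts g⁻¹ M := by
  have hb : Function.Bijective (app L) :=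
    Finite.injective_iff_bijective.1 fun _ _ h => hL.injective h
  refine f.acts_of_norm fun v => ?_
  obtain ⟨w, hw⟩ := hb.2 v
  refine ⟨w, ?_⟩
  rw [← hw, ← hL w, inv_inv]
  group

variable (f)

theorem acts_one : f.Acts 1 idA := fun v => by rw [app_idA]; group

theorem acts_emb (w : Fin 16) : f.Acts (f.emb w) idA := fun v => by
  rw [app_idA, (f.emb_comm w v).eq, mul_inv_cancel_right]

theorem acts_s : f.Acts f.s S := by
  refine f.acts_mk ?_ ?_ ?_ ?_
  · show f.s * t * f.s⁻¹ = f.emb 1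
    rw [← (tcomm f.s_mem).eq, mul_inv_cancel_right, emb_one]
  · show f.s * f.a1 * f.s⁻¹ = f.emb 4
    rw [f.s_inv, f.s1, emb_a2]
  · show f.s * f.a2 * f.s⁻¹ = f.emb 2
    rw [f.s_inv, f.s2, emb_a1]
  · show f.s * f.a3 * f.s⁻¹ = f.emb 8
    rw [f.s3.eq, mul_inv_cancel_right, emb_a3]

theorem acts_X : f.Acts f.X R := by
  refine f.acts_mk ?_ ?_ ?_ ?_
  · show f.X * t * f.X⁻¹ = f.emb 1
    rw [← (tcomm f.X_mem).eq, mul_inv_cancel_right, emb_one]
  · show f.X * f.a1 * f.X⁻¹ = f.emb 4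
    rw [f.X1, emb_a2]
  · show f.X * f.a2 * f.X⁻¹ = f.emb 8
    rw [f.X2, emb_a3]
  · show f.X * f.a3 * f.X⁻¹ = f.emb 2
    rw [f.X3c, emb_a1]

theorem acts_pow_X : ∀ {M : Act}, M ∈ [idA, R, comp R R] → ∃ g ∈ ({1, f.X, f.X * f.X} : Set G),
    f.Acts g M := by
  intro M hM
  simp only [List.mem_cons, List.not_mem_nil, or_false] at hM
  rcases hM with rfl | rfl | rfl
  · exact ⟨1, by simp, f.acts_one⟩
  · exact ⟨_, by simp, f.acts_X⟩
  · exact ⟨_, by simp, f.acts_X.mul f.acts_X⟩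

/-- The value of `θ` on all of `G`. -/
noncomputable def th (x : G) : C2 := val f.θ x

/-- The value of `ψ` on all of `G`. -/
noncomputable def ps (x : G) : C2 := val f.ψ x

theorem val_mul' {H : Subgroup G} (φ : H →* C2) {x y : G} (hx : x ∈ H) (hy : y ∈ H) :
    val φ (x * y) = val φ x * val φ y := by
  rw [val_of_mem φ hx, val_of_mem φ hy, val_of_mem φ (mul_mem hx hy), ← map_mul]; rfl

theorem val_conj' {H : Subgroup G} (φ : H →* C2) {g : G} (hg : g ∈ H) (x : G) :
    val φ (g * x * g⁻¹) = val φ x := by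
  conv_lhs => rw [← inv_inv g]
  rw [inv_inv g⁻¹]
  exact val_conj φ (inv_mem hg) x ▸ by simp

theorem val_emb (φ : ↥(centralizer ({t} : Set G)) →* C2) {p : Bool}
    (ht : φ ⟨t, mem_centralizer_singleton_iff.2 rfl⟩ = toC2 p)
    (h1 : φ ⟨f.a1, f.a1_mem⟩ = C2.one') (v : Fin 16) :
    val φ (f.emb v) = toC2 (xor (p && v.val.testBit 0) (par' v)) := by
  have v1 : val φ f.a1 = C2.one' := (val_of_mem φ f.a1_mem).trans h1
  have v2 : val φ f.a2 = C2.one' := by rw [← f.X1, val_conj' φ f.X_mem, v1]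
  have v3 : val φ f.a3 = C2.one' := by rw [← f.X2, val_conj' φ f.X_mem, v2]
  have v0 : val φ t = toC2 p := (val_of_mem φ f.t_mem).trans ht
  have hp : ∀ (x : G) (b : Bool), x ∈ centralizer ({t} : Set G) →
      pw x b ∈ centralizer ({t} : Set G) := fun x b hx => by cases b; exacts [one_mem _, hx]
  have hv : ∀ (x : G) (b : Bool), val φ (pw x b) = bif b then val φ x else 1 := fun x b => by
    cases b
    · show val φ (1 : G) = 1
      rw [val_of_mem φ (one_mem _)]; exact map_one φ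
    · rfl
  rw [emb, val_mul' φ (mul_mem (mul_mem (hp _ _ f.t_mem) (hp _ _ f.a1_mem)) (hp _ _ f.a2_mem))
      (hp _ _ f.a3_mem), val_mul' φ (mul_mem (hp _ _ f.t_mem) (hp _ _ f.a1_mem)) (hp _ _ f.a2_mem),
    val_mul' φ (hp _ _ f.t_mem) (hp _ _ f.a1_mem), hv, hv, hv, hv, v0, v1, v2, v3, par']
  cases p <;> cases v.val.testBit 0 <;> cases v.val.testBit 1 <;> cases v.val.testBit 2 <;>
    cases v.val.testBit 3 <;> decide

theorem th_emb (v : Fin 16) : f.th (f.emb v) = toC2 (par v) := by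
  rw [th, f.val_emb f.θ (p := true) f.θt f.θ1, par, par']
  simp

theorem ps_emb (v : Fin 16) : f.ps (f.emb v) = toC2 (par' v) := by
  rw [ps, f.val_emb f.ψ (p := false) f.ψt f.ψ1]
  simp

theorem th_s : f.th f.s = 1 := (val_of_mem f.θ f.s_mem).trans f.θs

theorem ps_s : f.ps f.s = 1 := (val_of_mem f.ψ f.s_mem).trans f.ψs

theorem th_conj {g : G} (hg : g ∈ centralizer ({t} : Set G)) (x : G) :
    f.th (g * x * g⁻¹) = f.th x := val_conj' f.θ hg x

theorem ps_conj {g : G} (hg : g ∈ centralizer ({t} : Set G)) (x : G) :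
    f.ps (g * x * g⁻¹) = f.ps x := val_conj' f.ψ hg x

theorem b1_eq : f.s * f.a3 = f.emb 8 * f.s := by rw [emb_a3, f.s3.eq]

/-- `a₃` and `b₃` are not conjugate, nor are any of their conjugates. -/
theorem sep_conj {g p q : G} (hg : g ∈ centralizer ({t} : Set G))
    (hp : p ∈ centralizer ({t} : Set G)) (hq : q ∈ centralizer ({t} : Set G)) :
    g * (p * f.a3 * p⁻¹) * g⁻¹ ≠ q * f.emb 14 * q⁻¹ := by
  intro h
  rw [emb_b3] at h
  refine f.sep (q⁻¹ * g * p) (mul_mem (mul_mem (inv_mem hq) hg) hp) ?_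
  calc q⁻¹ * g * p * f.a3 * (q⁻¹ * g * p)⁻¹ = q⁻¹ * (g * (p * f.a3 * p⁻¹) * g⁻¹) * q := by group
    _ = f.a1 * f.a2 * f.a3 := by rw [h]; group

theorem gens_conj (v : Fin 16) (hv : v = 2 ∨ v = 4 ∨ v = 8) :
    ∃ p ∈ centralizer ({t} : Set G), f.emb v = p * f.a3 * p⁻¹ := by
  rcases hv with rfl | rfl | rfl
  · exact ⟨f.X, f.X_mem, by rw [emb_a1, f.X3c]⟩
  · exact ⟨f.X⁻¹, inv_mem f.X_mem, by rw [emb_a2, ← f.X2]; group⟩
  · exact ⟨1, one_mem _, by rw [emb_a3]; group⟩

/-- An element of the centralizer normalising `E` permutes the generators. -/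
theorem perms_of_fix {g : G} {L : Act} (hg : g ∈ centralizer ({t} : Set G)) (hL : f.Acts g L) :
    L ∈ perms := by
  have h0 : L.1 = 1 := by
    have h := hL 1
    rw [(app_basis L).1, emb_one, ← (tcomm hg).eq, mul_inv_cancel_right] at h
    exact f.emb_inj (h.symm.trans f.emb_one.symm)
  have key : ∀ v, (v = 2 ∨ v = 4 ∨ v = 8) → app L v = 2 ∨ app L v = 4 ∨ app L v = 8 := by
    intro v hv
    have e1 := f.th_conj hg (f.emb v)
    have e2 := f.ps_conj hg (f.emb v)
    rw [hL v, th_emb, th_emb] at e1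
    rw [hL v, ps_emb, ps_emb] at e2
    have hd : ∀ u w : Fin 16, (w = 2 ∨ w = 4 ∨ w = 8) → par u = par w → par' u = par' w →
        u = 2 ∨ u = 4 ∨ u = 8 ∨ u = 14 := by decide +kernel
    rcases hd _ v hv (toC2_inj _ _ e1) (toC2_inj _ _ e2) with h | h | h | h
    · exact Or.inl h
    · exact Or.inr (Or.inl h)
    · exact Or.inr (Or.inr h)
    · obtain ⟨p, hp, hpe⟩ := f.gens_conj v hv
      refine absurd ?_ (f.sep_conj hg hp (one_mem _))
      rw [← hpe, hL v, h]; group
  have hi : app L 2 ≠ app L 4 ∧ app L 2 ≠ app L 8 ∧ app L 4 ≠ app L 8 :=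
    ⟨fun e => absurd (hL.injective e) (by decide), fun e => absurd (hL.injective e) (by decide),
      fun e => absurd (hL.injective e) (by decide)⟩
  obtain ⟨-, q, r, s⟩ := app_basis L
  have k1 := key 2 (Or.inl rfl)
  have k2 := key 4 (Or.inr (Or.inl rfl))
  have k3 := key 8 (Or.inr (Or.inr rfl))
  rw [q] at k1 hi; rw [r] at k2 hi; rw [s] at k3 hi
  obtain ⟨p0, p1, p2, p3⟩ := L
  simp only at h0 k1 k2 k3 hi ⊢
  subst h0
  rcases k1 with rfl | rfl | rfl <;> rcases k2 with rfl | rfl | rfl <;>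
    rcases k3 with rfl | rfl | rfl <;> simp at hi <;> decide

/-- An element of the centralizer with trivial action lies in `E`. -/
theorem eq_emb_of_acts_id {g : G} (hL : f.Acts g idA) : ∃ v, g = f.emb v := by
  have h : ∀ v, Commute g (f.emb v) := fun v => by
    have := hL v
    rw [app_idA, mul_inv_eq_iff_eq_mul] at this
    exact this
  have hg : g ∈ centralizer ({t} : Set G) := mem_centralizer_singleton_iff.2 (by
    have := h 1; rw [emb_one] at this; exact this.eq)
  obtain ⟨b0, b1, b2, b3, hb⟩ := f.centE g hg (f.emb_a1 ▸ h 2) (f.emb_a2 ▸ h 4) (f.emb_a3 ▸ h 8)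
  exact ⟨ofBits b0 b1 b2 b3, by rw [emb_ofBits]; exact hb⟩

/-- Two elements with equal action differ by an element of `E`. -/
theorem eq_mul_of_acts [Finite G] {g h : G} {L : Act} (hg : f.Acts g L) (hh : f.Acts h L) :
    ∃ v, g = h * f.emb v := by
  obtain ⟨v, hv⟩ := f.eq_emb_of_acts_id (g := h⁻¹ * g) fun v => by
    rw [app_idA, show h⁻¹ * g * f.emb v * (h⁻¹ * g)⁻¹ = h⁻¹ * (g * f.emb v * g⁻¹) * h by group, hg v,
      ← hh v]
    group
  exact ⟨v, by rw [← hv]; group⟩

/-- The Sylow subgroup of the centralizer. -/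
def T : Subgroup G where
  carrier := {x | ∃ (v : Fin 16), x = f.emb v ∨ x = f.emb v * f.s}
  one_mem' := ⟨0, Or.inl f.emb_zero.symm⟩
  mul_mem' := by
    rintro _ _ ⟨v, rfl | rfl⟩ ⟨w, rfl | rfl⟩
    · exact ⟨v ^^^ w, Or.inl (f.emb_mul v w).symm⟩
    · exact ⟨v ^^^ w, Or.inr (by rw [emb_mul, mul_assoc])⟩
    · refine ⟨v ^^^ app S w, Or.inr ?_⟩
      rw [emb_mul, ← f.acts_s w]; group
    · refine ⟨v ^^^ app S w, Or.inl ?_⟩
      rw [emb_mul, ← f.acts_s w, mul_assoc (f.emb v), mul_assoc, ← mul_assoc f.s (f.emb w) f.s]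
      congr 1
      rw [f.s_inv, mul_assoc]
  inv_mem' := by
    rintro _ ⟨v, rfl | rfl⟩
    · exact ⟨v, Or.inl (f.emb_inv v)⟩
    · refine ⟨app S v, Or.inr ?_⟩
      rw [mul_inv_rev, emb_inv, ← f.acts_s v]; group
      rw [zpow_neg_one, f.s_inv]

theorem emb_mem_T (v : Fin 16) : f.emb v ∈ f.T := ⟨v, Or.inl rfl⟩

theorem s_mem_T : f.s ∈ f.T := ⟨0, Or.inr (by rw [emb_zero, one_mul])⟩

theorem T_le : f.T ≤ centralizer ({t} : Set G) := by
  rintro _ ⟨v, rfl | rfl⟩
  · exact f.emb_mem_C v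
  · exact mul_mem (f.emb_mem_C v) f.s_mem

theorem s_ne (v : Fin 16) : f.s ≠ f.emb v := fun h => by
  have h2 := (h ▸ f.acts_emb v : f.Acts f.s idA)
  exact absurd (h2.eq f.acts_s) (by decide)

theorem card_T : Nat.card f.T = 32 := by
  let F : Fin 16 × Bool → f.T := fun p => ⟨f.emb p.1 * pw f.s p.2,
    mul_mem (f.emb_mem_T _) (by cases p.2; exacts [one_mem _, f.s_mem_T])⟩
  have hF : Function.Bijective F := by
    refine ⟨fun ⟨v, b⟩ ⟨w, c⟩ h => ?_, ?_⟩
    · have h' : f.emb v * pw f.s b = f.emb w * pw f.s c := congrArg Subtype.val h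
      cases b <;> cases c <;> simp only [pw, cond_true, cond_false, mul_one] at h'
      · rw [f.emb_inj h']
      · exact absurd (by rw [emb_mul, h']; rw [← mul_assoc, emb_sq, one_mul])
          (f.s_ne (w ^^^ v)).symm
      · exact absurd (by rw [emb_mul, ← h']; rw [← mul_assoc, emb_sq, one_mul])
          (f.s_ne (v ^^^ w)).symm
      · rw [f.emb_inj (mul_right_cancel h')]
    · rintro ⟨x, v, rfl | rfl⟩
      · exact ⟨(v, false), Subtype.ext (mul_one _)⟩
      · exact ⟨(v, true), rfl⟩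
  rw [← Nat.card_eq_of_bijective F hF, Nat.card_eq_fintype_card]
  decide

theorem T_sq {x : G} (hx : x ∈ f.T) : x * x = 1 ∨ x * x = f.emb 6 := by
  obtain ⟨v, rfl | rfl⟩ := hx
  · exact Or.inl (f.emb_sq v)
  · have h : f.emb v * f.s * (f.emb v * f.s) = f.emb (v ^^^ app S v) := by
      rw [emb_mul, ← f.acts_s v, f.s_inv]; group
    have hd : ∀ v : Fin 16, v ^^^ app S v = 0 ∨ v ^^^ app S v = 6 := by decide +kernel
    rcases hd v with e | e <;> rw [h, e]
    · exact Or.inl f.emb_zero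
    · exact Or.inr rfl

/-- The Sylow subgroup is self normalising in the centralizer. -/
theorem mem_T_of_norm [Finite G] {g : G} (hg : g ∈ centralizer ({t} : Set G))
    (hn : ∀ x ∈ f.T, g * x * g⁻¹ ∈ f.T) : g ∈ f.T := by
  -- the generators go to generators
  have hgen : ∀ v, (v = 2 ∨ v = 4 ∨ v = 8) → ∃ w, g * f.emb v * g⁻¹ = f.emb w := by
    intro v hv
    obtain ⟨p, hp, hpe⟩ := f.gens_conj v hv
    obtain ⟨w, e | e⟩ := hn _ (f.emb_mem_T v)
    · exact ⟨w, e⟩
    · exfalso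
      have e1 := f.th_conj hg (f.emb v)
      have e2 := f.ps_conj hg (f.emb v)
      rw [e, th, val_mul' f.θ (f.emb_mem_C w) f.s_mem] at e1
      rw [e, ps, val_mul' f.ψ (f.emb_mem_C w) f.s_mem] at e2
      rw [show val f.θ (f.emb w) = f.th (f.emb w) from rfl,
        show val f.θ f.s = f.th f.s from rfl, th_emb, th_s, mul_one, th_emb] at e1
      rw [show val f.ψ (f.emb w) = f.ps (f.emb w) from rfl,
        show val f.ψ f.s = f.ps f.s from rfl, ps_emb, ps_s, mul_one, ps_emb] at e2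
      have hsq : f.emb w * f.s * (f.emb w * f.s) = 1 := by
        rw [← e, show g * f.emb v * g⁻¹ * (g * f.emb v * g⁻¹) = g * (f.emb v * f.emb v) * g⁻¹ by group,
          emb_sq]
        group
      have hw : f.emb (w ^^^ app S w) = 1 := by
        rw [emb_mul, ← f.acts_s w, f.s_inv, ← hsq]; group
      have hd : ∀ u v : Fin 16, (v = 2 ∨ v = 4 ∨ v = 8) → par u = par v → par' u = par' v →
          u ^^^ app S u = 0 → u = 8 ∨ u = 14 := by decide +kernel
      have hb : f.s * f.a1 * f.a2 * f.a3 = f.X' * (f.s * f.a3) * f.X'⁻¹ := f.X'1.symm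
      rcases hd w v hv (toC2_inj _ _ e1) (toC2_inj _ _ e2)
          (f.emb_inj (hw.trans f.emb_zero.symm)) with rfl | rfl
      · rw [← b1_eq] at e
        refine f.sep_conj hg hp (inv_mem (mul_mem f.X'_mem f.X'_mem)) ?_
        rw [← hpe, e, emb_b3, ← f.X'2, ← f.X'1]
        group
      · refine f.sep_conj hg hp (inv_mem f.X'_mem) ?_
        have h14 : f.emb 14 * f.s = f.s * f.a1 * f.a2 * f.a3 := by
          calc f.emb 14 * f.s = f.s * f.emb (app S 14) := by
                rw [← f.acts_s 14, f.s_inv, ← mul_assoc, ← mul_assoc, f.ss, one_mul]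
            _ = f.s * f.a1 * f.a2 * f.a3 := by
                rw [show app S 14 = 14 by decide +kernel, emb_b3, ← mul_assoc, ← mul_assoc]
        rw [← hpe, e, h14, emb_b3, ← f.X'2]
        group
  obtain ⟨w1, h1⟩ := hgen 2 (Or.inl rfl)
  obtain ⟨w2, h2⟩ := hgen 4 (Or.inr (Or.inl rfl))
  obtain ⟨w3, h3⟩ := hgen 8 (Or.inr (Or.inr rfl))
  rw [emb_a1] at h1; rw [emb_a2] at h2; rw [emb_a3] at h3
  have hL : f.Acts g (1, w1, w2, w3) := f.acts_mk (L := (1, w1, w2, w3))
    (by rw [← (tcomm hg).eq, mul_inv_cancel_right]; exact f.emb_one.symm) h1 h2 h3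
  -- `g` fixes `z`
  have hz : g * f.emb 6 * g⁻¹ = f.emb 6 := by
    have hxm : f.emb 2 * f.s ∈ f.T := ⟨2, Or.inr rfl⟩
    have hx2 : f.emb 2 * f.s * (f.emb 2 * f.s) = f.emb 6 := by
      rw [show (6 : Fin 16) = 2 ^^^ app S 2 by decide +kernel, emb_mul, ← f.acts_s 2, f.s_inv]
      group
    rcases f.T_sq (hn _ hxm) with e | e
    · exfalso
      rw [show g * (f.emb 2 * f.s) * g⁻¹ * (g * (f.emb 2 * f.s) * g⁻¹)
        = g * (f.emb 2 * f.s * (f.emb 2 * f.s)) * g⁻¹ by group, hx2, conj_eq_one_iff] at e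
      exact absurd (f.emb_inj (e.trans f.emb_zero.symm)) (by decide)
    · rw [← hx2] at e ⊢
      calc g * (f.emb 2 * f.s * (f.emb 2 * f.s)) * g⁻¹
          = g * (f.emb 2 * f.s) * g⁻¹ * (g * (f.emb 2 * f.s) * g⁻¹) := by group
        _ = _ := e
  rw [hL 6] at hz
  have h6 := f.emb_inj hz
  have hd : ∀ L ∈ perms, app L 6 = 6 → L = idA ∨ L = S := by decide +kernel
  rcases hd _ (f.perms_of_fix hg hL) h6 with e | e <;> rw [e] at hL
  · obtain ⟨v, rfl⟩ := f.eq_emb_of_acts_id hL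
    exact f.emb_mem_T v
  · obtain ⟨v, rfl⟩ := f.eq_mul_of_acts hL f.acts_s
    exact mul_mem f.s_mem_T (f.emb_mem_T v)

end Frame

end CfsgLib.Characterizations.TwoTimesSymmetric
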