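import Cfsg.Agent.Lib.Characterizations.TwoTimesSymmetric.Cycle

/-!
# Coordinates in the subgroup `T⟨r⟩` and the maps induced on it
-/

set_option autoImplicit false
set_option maxRecDepth 4000
set_option maxHeartbeats 4000000
set_option Elab.async false

namespace CfsgLib.Characterizations.TwoTimesSymmetric

namespace Coord

/-- Coordinates of the elements `e sᵇ rⁱ`. -/
abbrev Co := Fin 16 × Bool × Bool

/-- The identity. -/
def one : Co := (0, false, false)

/-- Evaluates a vector before passing it on. -/
def nrm16 {α : Type} (v : Fin 16) (k : Fin 16 → α) : α :=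
  bif v.val.testBit 0 then (bif v.val.testBit 1 then (bif v.val.testBit 2 then (bif v.val.testBit 3 then (k 15) else (k 7)) else (bif v.val.testBit 3 then (k 11) else (k 3))) else (bif v.val.testBit 2 then (bif v.val.testBit 3 then (k 13) else (k 5)) else (bif v.val.testBit 3 then (k 9) else (k 1)))) else (bif v.val.testBit 1 then (bif v.val.testBit 2 then (bif v.val.testBit 3 then (k 14) else (k 6)) else (bif v.val.testBit 3 then (k 10) else (k 2))) else (bif v.val.testBit 2 then (bif v.val.testBit 3 then (k 12) else (k 4)) else (bif v.val.testBit 3 then (k 8) else (k 0))))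

/-- Evaluates coordinates before passing them on. -/
def nrm {α : Type} (p : Co) (k : Co → α) : α :=
  nrm16 p.1 fun v => bif p.2.1 then (bif p.2.2 then k (v, true, true) else k (v, true, false))
    else (bif p.2.2 then k (v, false, true) else k (v, false, false))

theorem nrm16_eq {α : Type} (v : Fin 16) (k : Fin 16 → α) : nrm16 v k = k v := by
  fin_cases v <;> rfl

theorem nrm_eq {α : Type} (p : Co) (k : Co → α) : nrm p k = k p := by
  obtain ⟨v, b, c⟩ := p
  rw [nrm, nrm16_eq]
  cases b <;> cases c <;> rfl

/-- The product of evaluated coordinates. -/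
def muRaw (p q : Co) : Co :=
  (p.1 ^^^ (bif p.2.1 then app S (bif p.2.2 then app (pure 6) q.1 else q.1)
    else (bif p.2.2 then app (pure 6) q.1 else q.1)), xor p.2.1 q.2.1, xor p.2.2 q.2.2)

/-- The product. -/
def mu (p q : Co) : Co := nrm p fun p => nrm q fun q => muRaw p q

theorem mu_eq (p q : Co) : mu p q = muRaw p q := by rw [mu, nrm_eq, nrm_eq]

/-- The inverse. -/
def cinv (p : Co) : Co := mu p (mu p p)

/-- Conjugation. -/
def cj (h x : Co) : Co := mu (mu h x) (cinv h)

/-- Six generators. -/
def genCo : List Co :=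
  [(1, false, false), (2, false, false), (4, false, false), (8, false, false), (0, true, false),
    (0, false, true)]

/-- A map given on `E`, on `s` and on `r`. -/
def ext3 (F : Fin 16 → Co) (cs cr : Co) (p : Co) : Co :=
  nrm p fun p => mu (mu (F p.1) (bif p.2.1 then cs else one)) (bif p.2.2 then cr else one)

/-- The map induced by the rotated element. -/
def Am (k : Bool) (v1 : Fin 16) : Co → Co :=
  ext3 (fun v => (app (pure 12) v, false, false)) (v1, true, true)
    (bif k then 10 else 0, false, true)

/-- The map induced by the cycle. -/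
def Nm (w ρ : Fin 16) : Co → Co :=
  ext3 (fun v => if v ∈ ZT then (app nu v, false, false)
      else mu (app nu (v ^^^ 2), false, false) (w, true, false))
    (app nu w ^^^ 4, false, false) (app (pure 6) (ρ ^^^ app nu ρ), false, true)

/-- The coordinates of the square of the cycle. -/
def qc (ρ : Fin 16) : Co := (app (pure 6) ρ, false, true)

/-- The map induced by the conjugate of the rotated element by the cycle. -/
def Bm (w ρ v1 : Fin 16) (x : Co) : Co :=
  Nm w ρ (Am false v1 (Nm w ρ (cj (cinv (qc ρ)) x)))

/-- Marks. -/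
def mkb (k : Bool) (p : Co) : Bool := xor (par p.1) (k && p.2.2)

/-- The characters. -/
def ev (g j : Bool) (p : Co) : Bool := xor (bif g then p.1.val.testBit 0 else par p.1) (j && p.2.2)

/-- The conjugations by the generators. -/
def baseMaps : List (Co → Co) := genCo.map cj

/-- Every entry but the first is an image of an earlier one. -/
def Chain (gens : List (Co → Co)) (O : List Co) : Prop :=
  ∀ i : Fin O.length, i.val = 0 ∨ ∃ j : Fin O.length, j.val < i.val ∧ ∃ F ∈ gens, F (O.get j) = O.get i

instance (gens : List (Co → Co)) (O : List Co) : Decidable (Chain gens O) := by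
  unfold Chain; infer_instance

/-- The conditions on the classes, given by their lists of elements. -/
def OrbitsOK (gens : List (Co → Co)) (heads : List Co) (orb : Co → List Co) (k g j : Bool) (m : ℕ) :
    Prop :=
  (∀ h ∈ heads, mu h h = one ∧ h ≠ one ∧ mkb k h = true ∧ ev g j h = true ∧
      (orb h).length ≤ m ∧ (orb h).head? = some h ∧ Chain gens (orb h) ∧
      ((orb h).all fun p => gens.all fun F => (orb h).contains (F p)) = true) ∧
    (∀ h ∈ heads, ∀ h' ∈ heads, h' ∈ orb h → h = h') ∧
    ∀ p : Co, mu p p = one → mkb k p = true → ev g j p = true → ∃ h ∈ heads, p ∈ orb h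

set_option synthInstance.maxSize 4096 in
instance (gens : List (Co → Co)) (heads : List Co) (orb : Co → List Co) (k g j : Bool) (m : ℕ) :
    Decidable (OrbitsOK gens heads orb k g j m) := by unfold OrbitsOK; infer_instance

/-- The classes when the cycle squares to the nontrivial type. -/
def orbS (w : Fin 16) (h : Co) : List Co :=
  if h.1 = 1 then [(1, false, false), (8, false, false), (7, false, false), (14, false, false)]
  else if h.1 = 2 then [(2, false, false), (4, false, false), (w, true, false), (w ^^^ 6, true, false)]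
  else [(11, false, false), (13, false, false), (w ^^^ 15, true, false), (w ^^^ 9, true, false)]

/-- The single class of the group of order 512. -/
def orbD (w ρ v1 : Fin 16) (_ : Co) : List Co :=
  let L0 : List Co := [(1, false, false), (8, false, false), (7, false, false), (14, false, false)]
  let L1 := L0.map (Am false v1)
  let L2 := L1.map (Nm w ρ)
  L0 ++ L1 ++ L2 ++ L2.map (Am false v1)

/-- The classes when `r` is a mark. -/
def orbM (v1 : Fin 16) (h : Co) : List Co :=
  if h.1 = 1 ∧ h.2.1 = false then
    [(1, false, false), (7, false, false), (13, false, false), (11, false, false)]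
  else if h.2.2 = false then
    [(1, true, false), (7, true, false), Am true v1 (1, true, false), Am true v1 (7, true, false)]
  else [h, cj (1, false, false) h, Am true v1 h, Am true v1 (cj (1, false, false) h)]

/-- Marks of the cycle parameter. -/
def oddZ : List (Fin 16) := [1, 7, 8, 14]

/-- Non-marks of the centre. -/
def evenZ : List (Fin 16) := [0, 6, 9, 15]

theorem ev_mul : ∀ g j, ∀ p q : Co, ev g j (mu p q) = xor (ev g j p) (ev g j q) := by
  decide +kernel

theorem mu_cinv : ∀ p : Co, mu p (cinv p) = one := by decide +kernel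

theorem oddZ_cases : ∀ v : Fin 16, v ∈ ZT → par v = true → v ∈ oddZ := by decide +kernel

theorem evenZ_cases : ∀ v : Fin 16, v ∈ ZT → par v = false → v ∈ evenZ := by decide +kernel

theorem inv_N : ∀ w ∈ oddZ, ∀ ρ ∈ ZT, ∀ p,
    ev false (par ρ) (Nm w ρ p) = ev false (par ρ) p := by decide +kernel

theorem inv_A0 : ∀ v1 ∈ evenZ, ∀ p, ev false false (Am false v1 p) = ev false false p := by
  decide +kernel

theorem inv_A1 : ∀ v1 ∈ ([2, 4, 11, 13] : List (Fin 16)), ∀ p,
    ev true (v1.val.testBit 0) (Am true v1 p) = ev true (v1.val.testBit 0) p := by decide +kernel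

theorem single_orbits : ∀ w ∈ oddZ, ∀ ρ ∈ oddZ,
    OrbitsOK (baseMaps ++ [Nm w ρ]) [(1, false, false), (2, false, false), (11, false, false)]
      (orbS w) false false true 4 := by decide +kernel

theorem single_outside : ∀ w ∈ oddZ, ∀ ρ ∈ oddZ, ∀ h : Co,
    ∃ p ∈ genCo, cj h (Nm w ρ (cj h (Nm w ρ p))) ≠ p := by decide +kernel

theorem double_orbits : ∀ w ∈ oddZ, ∀ ρ ∈ evenZ, ∀ v1 ∈ evenZ,
    OrbitsOK (baseMaps ++ [Nm w ρ, Am false v1]) [(1, false, false)] (orbD w ρ v1)
      false false false 16 := by
  decide +kernel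

/-- The seven nontrivial coset maps. -/
def outerMaps (w ρ v1 : Fin 16) : List (Co → Co) :=
  [Am false v1, Bm w ρ v1, fun x => Am false v1 (Bm w ρ v1 x), Nm w ρ,
    fun x => Am false v1 (Nm w ρ x), fun x => Bm w ρ v1 (Nm w ρ x),
    fun x => Am false v1 (Bm w ρ v1 (Nm w ρ x))]

set_option synthInstance.maxSize 4096 in
theorem double_outside : ∀ w ∈ oddZ, ∀ ρ ∈ evenZ, ∀ v1 ∈ evenZ, ∀ h : Co, ev false false h = true →
    ((outerMaps w ρ v1).all fun F => genCo.any fun p => cj h (F (cj h (F p))) != p) = true := by
  decide +kernel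

set_option synthInstance.maxSize 4096 in
theorem double_square : ∀ w ∈ oddZ, ∀ ρ ∈ evenZ, ∀ v1 ∈ evenZ,
    (∃ p0, ∀ p ∈ genCo, Am false v1 (Bm w ρ v1 (Am false v1 (Bm w ρ v1 p))) = cj p0 p) ∧
    ∀ p0, (∀ p ∈ genCo, Am false v1 (Bm w ρ v1 (Am false v1 (Bm w ρ v1 p))) = cj p0 p) →
      ev false false p0 = false := by decide +kernel

set_option synthInstance.maxSize 4096 in
theorem double_fresh : ∀ w ∈ oddZ, ∀ ρ ∈ evenZ, ∀ v1 ∈ evenZ, ∀ h : Co,
    (∃ p ∈ genCo, cj h p ≠ Bm w ρ v1 p) ∧
    (∃ p ∈ genCo, cj h (Am false v1 p) ≠ Bm w ρ v1 p) ∧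
    (∃ p ∈ genCo, cj h p ≠ Nm w ρ p) ∧
    (∃ p ∈ genCo, cj h (Am false v1 p) ≠ Nm w ρ p) ∧
    (∃ p ∈ genCo, cj h (Bm w ρ v1 p) ≠ Nm w ρ p) ∧
    ∃ p ∈ genCo, cj h (Am false v1 (Bm w ρ v1 p)) ≠ Nm w ρ p := by decide +kernel

theorem A_fresh : ∀ k, ∀ v1, ∀ h : Co, cj h (1, false, false) ≠ Am k v1 (1, false, false) := by
  decide +kernel

theorem N_fresh : ∀ w ρ, ∀ h : Co, cj h (1, false, false) ≠ Nm w ρ (1, false, false) := by
  decide +kernel

/-- The rotated head in the coset of `r`. -/
def headR (v1 : Fin 16) : Co := (bif v1.val.testBit 0 then 0 else 3, false, true)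

theorem marked_orbits : ∀ v1 ∈ ([2, 4, 11, 13] : List (Fin 16)),
    OrbitsOK (baseMaps ++ [Am true v1]) [(1, false, false), (1, true, false), headR v1] (orbM v1)
      true true (v1.val.testBit 0) 4 := by decide +kernel

/-- Conjugates in the outer coset, by first coordinates. -/
def outerClass (v1 : Fin 16) (h : Co) : List Co :=
  ((genCo ++ [(6, false, false), (10, false, false), (0, true, true), one]).flatMap fun k =>
    [mu (mu k h) (Am true v1 (cinv k)), mu (mu k (Am true v1 h)) (Am true v1 (cinv k))]).dedup

set_option synthInstance.maxSize 4096 in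
theorem marked_outside : ∀ v1 ∈ ([2, 4, 11, 13] : List (Fin 16)), ∀ h : Co,
    mu h (Am true v1 h) = one → ev true (v1.val.testBit 0) h = true →
      5 ≤ (outerClass v1 h).length := by decide +kernel

end Coord

end CfsgLib.Characterizations.TwoTimesSymmetric
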