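import Cfsg.Agent.Lib.LocalEven.Yoshida

/-!
# Transfer of an involution into a subgroup, computed by classes
-/

set_option autoImplicit false
set_option linter.unusedSectionVars false
set_option linter.style.haveILetI false

namespace CfsgLib.Characterizations.TwoTimesSymmetric.Count

open Subgroup

theorem two_cases : ∀ a b : Multiplicative (ZMod 2), a ≠ 1 → b ≠ 1 → a = b := by decide

theorem sq_eq_one : ∀ a : Multiplicative (ZMod 2), a ^ 2 = 1 := by decide

variable {G : Type*} [Group G]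

/-- A homomorphism to a group of order two which is not trivial gives a subgroup of index two. -/
theorem exists_index_two [Finite G] (V : G →* Multiplicative (ZMod 2)) {g : G} (h : V g ≠ 1) :
    ∃ H : Subgroup G, H.index = 2 := by
  refine ⟨V.ker, ?_⟩
  rw [index_ker]
  have h1 : V.range ≠ ⊥ := fun hb => h (by
    have : V g ∈ V.range := ⟨g, rfl⟩
    rw [hb] at this
    exact this)
  have h2 : Nat.card V.range ∣ 2 := by
    have := card_subgroup_dvd_card V.range
    rwa [Nat.card_congr Multiplicative.toAdd, Nat.card_zmod] at this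
  rcases (Nat.dvd_prime Nat.prime_two).1 h2 with h3 | h3
  · exact absurd (Subgroup.card_eq_one.1 h3) h1
  · exact h3

/-- The value of `φ` at an element of `G`, trivial outside `H`. -/
noncomputable def val {H : Subgroup G} (φ : H →* Multiplicative (ZMod 2)) (y : G) :
    Multiplicative (ZMod 2) :=
  open scoped Classical in if h : y ∈ H then φ ⟨y, h⟩ else 1

theorem val_of_mem {H : Subgroup G} (φ : H →* Multiplicative (ZMod 2)) {y : G} (h : y ∈ H) :
    val φ y = φ ⟨y, h⟩ := by simp [val, h]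

theorem mem_of_val_ne {H : Subgroup G} {φ : H →* Multiplicative (ZMod 2)} {y : G} (h : val φ y ≠ 1) :
    y ∈ H := by
  by_contra hn; exact h (by simp [val, hn])

theorem val_conj {H : Subgroup G} (φ : H →* Multiplicative (ZMod 2)) {k : G} (hk : k ∈ H) (y : G) :
    val φ (k⁻¹ * y * k) = val φ y := by
  by_cases hy : y ∈ H
  · have hy' : k⁻¹ * y * k ∈ H := mul_mem (mul_mem (inv_mem hk) hy) hk
    rw [val_of_mem φ hy, val_of_mem φ hy',
      show (⟨k⁻¹ * y * k, hy'⟩ : H) = (⟨k, hk⟩ : H)⁻¹ * ⟨y, hy⟩ * ⟨k, hk⟩ from rfl, map_mul,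
      map_mul, map_inv, mul_comm (φ ⟨k, hk⟩)⁻¹, inv_mul_cancel_right]
  · have hy' : k⁻¹ * y * k ∉ H := fun h => hy (by
      have := mul_mem (mul_mem hk h) (inv_mem hk)
      simpa [mul_assoc] using this)
    simp [val, hy, hy']

/-- The transfer of an involution is the product of the values at the conjugates in `H`. -/
theorem transfer_involution [Finite G] {H : Subgroup G} [Fintype (G ⧸ H)] (φ : H →* Multiplicative (ZMod 2))
    {t : G} (ht : orderOf t = 2) :
    MonoidHom.transfer φ t = ∏ c : G ⧸ H, val φ (c.out⁻¹ * t * c.out) := by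
  classical
  rw [CfsgLib.LocalEven.Yoshida.transfer_eq_fixed φ t 1 ?_, one_pow, one_mul]
  · exact Finset.prod_congr rfl fun c _ => by simp only [val, div_one]
  · intro g l hl hl1 h
    rw [ht] at hl
    rcases (Nat.dvd_prime Nat.prime_two).1 hl with rfl | rfl
    · omega
    · rw [one_pow, ← map_one φ]
      refine congrArg φ (Subtype.ext ?_)
      show g⁻¹ * t ^ 2 * g = 1
      rw [← ht, pow_orderOf_eq_one]; group

/-- Orbit counting: a set of cosets of odd size gives a subgroup of index two of `G`. -/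
theorem exists_index_two_of_odd [Finite G] {H : Subgroup G} (φ : H →* Multiplicative (ZMod 2)) {t : G}
    (ht : orderOf t = 2) (h : Odd (Nat.card {c : G ⧸ H // val φ (c.out⁻¹ * t * c.out) ≠ 1})) :
    ∃ H : Subgroup G, H.index = 2 := by
  classical
  haveI := Fintype.ofFinite (G ⧸ H)
  refine exists_index_two (MonoidHom.transfer φ) (g := t) ?_
  rw [transfer_involution φ ht]
  set f : G ⧸ H → Multiplicative (ZMod 2) := fun c => val φ (c.out⁻¹ * t * c.out) with hf
  rw [← Finset.prod_filter_ne_one, Finset.prod_congr rfl (g := fun _ => Multiplicative.ofAdd (1 : ZMod 2))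
    (fun c hc => two_cases _ _ (Finset.mem_filter.1 hc).2 (by decide)), Finset.prod_const]
  rw [Nat.card_eq_fintype_card, Fintype.card_subtype] at h
  obtain ⟨m, hm⟩ := h
  rw [hm, pow_add, pow_mul, sq_eq_one, one_pow, one_mul, pow_one]
  decide

/-- The main counting lemma: an odd number of classes of conjugates of `t` in `H` carrying the
nontrivial value and having centralizer order divisible by the full `2`-part. -/
theorem exists_index_two_of_classes [Finite G] {t : G} (ht : orderOf t = 2) {T : Subgroup G}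
    (hTC : T ≤ centralizer ({t} : Set G)) (hT : Nat.card T = 32)
    (hC : ¬ 64 ∣ Nat.card (centralizer ({t} : Set G)))
    {H : Subgroup G} (φ : H →* Multiplicative (ZMod 2)) {ι : Type*} [Finite ι] (r : ι → G)
    (hodd : Odd (Nat.card ι))
    (hr : ∀ i, IsConj t (r i) ∧ val φ (r i) ≠ 1 ∧
      32 ∣ Nat.card (H ⊓ centralizer ({r i} : Set G) : Subgroup G))
    (hsep : ∀ i j, ∀ h ∈ H, h⁻¹ * r i * h = r j → i = j)
    (hcov : ∀ x ∈ H, IsConj t x → val φ x ≠ 1 →
      32 ∣ Nat.card (H ⊓ centralizer ({x} : Set G) : Subgroup G) → ∃ i, ∃ h ∈ H, h⁻¹ * r i * h = x) :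
    ∃ H : Subgroup G, H.index = 2 := by
  classical
  haveI : Fact (Nat.Prime 2) := ⟨Nat.prime_two⟩
  set C := centralizer ({t} : Set G) with hCdef
  set w : G ⧸ H → G := fun c => c.out⁻¹ * t * c.out with hw
  set Φ := {c : G ⧸ H // val φ (w c) ≠ 1}
  have hwk : ∀ g : G, ∃ k ∈ H, w (g : G ⧸ H) = k⁻¹ * (g⁻¹ * t * g) * k := fun g => by
    obtain ⟨k, hk⟩ := QuotientGroup.mk_out_eq_mul H g
    exact ⟨k, k.2, by rw [hw]; simp only; rw [hk]; group⟩
  have hwd : ∀ g : G, val φ (w (g : G ⧸ H)) = val φ (g⁻¹ * t * g) := fun g => by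
    obtain ⟨k, hk, he⟩ := hwk g
    rw [he, val_conj φ hk]
  have hcg : ∀ a ∈ C, ∀ g : G, (a * g)⁻¹ * t * (a * g) = g⁻¹ * t * g := fun a ha g => by
    rw [show (a * g)⁻¹ * t * (a * g) = g⁻¹ * (a⁻¹ * (t * a)) * g by group,
      ← mem_centralizer_singleton_iff.1 ha, inv_mul_cancel_left]
  let _act : MulAction C Φ :=
    { smul := fun a c => ⟨(a : G) • c.1, by
        obtain ⟨⟨g⟩, hc⟩ := c
        change val φ (w ((a : G) * g : G)) ≠ 1
        rw [hwd, hcg a a.2, ← hwd]; exact hc⟩
      one_smul := fun c => Subtype.ext (one_smul G c.1)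
      mul_smul := fun a b c => Subtype.ext (mul_smul (a : G) (b : G) c.1) }
  -- the classes of the cosets
  let cls : Φ → Option ι := fun c =>
    if h : ∃ i, ∃ k ∈ H, k⁻¹ * r i * k = w c.1 then some h.choose else none
  have hcls : ∀ c i, cls c = some i ↔ ∃ k ∈ H, k⁻¹ * r i * k = w c.1 := by
    intro c i
    by_cases h : ∃ i, ∃ k ∈ H, k⁻¹ * r i * k = w c.1
    · simp only [cls, dif_pos h, Option.some.injEq]
      refine ⟨fun e => e ▸ h.choose_spec, fun ⟨k, hk, e⟩ => ?_⟩
      obtain ⟨k', hk', e'⟩ := h.choose_spec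
      refine hsep _ _ (k' * k⁻¹) (mul_mem hk' (inv_mem hk)) ?_
      rw [show (k' * k⁻¹)⁻¹ * r h.choose * (k' * k⁻¹) = k * (k'⁻¹ * r h.choose * k') * k⁻¹ by group,
        e', ← e]
      group
    · simp only [cls, dif_neg h]
      exact ⟨fun e => by simp at e, fun e => absurd ⟨i, e⟩ h⟩
  have hclsinv : ∀ (a : C) c, cls (a • c) = cls c := by
    intro a c
    obtain ⟨⟨g⟩, hc⟩ := c
    refine Option.ext fun i => ?_
    refine (hcls _ _).trans (Iff.trans ?_ (hcls _ _).symm)
    change (∃ k ∈ H, k⁻¹ * r i * k = w ((a : G) * g : G)) ↔ ∃ k ∈ H, k⁻¹ * r i * k = w (g : G ⧸ H)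
    obtain ⟨k1, hk1, e1⟩ := hwk ((a : G) * g)
    obtain ⟨k2, hk2, e2⟩ := hwk g
    rw [e1, e2, hcg a a.2]
    constructor
    · rintro ⟨k, hk, e⟩
      refine ⟨k * k1⁻¹ * k2, mul_mem (mul_mem hk (inv_mem hk1)) hk2, ?_⟩
      rw [show (k * k1⁻¹ * k2)⁻¹ * r i * (k * k1⁻¹ * k2) = k2⁻¹ * k1 * (k⁻¹ * r i * k) * k1⁻¹ * k2 by
        group, e]
      group
    · rintro ⟨k, hk, e⟩
      refine ⟨k * k2⁻¹ * k1, mul_mem (mul_mem hk (inv_mem hk2)) hk1, ?_⟩
      rw [show (k * k2⁻¹ * k1)⁻¹ * r i * (k * k2⁻¹ * k1) = k1⁻¹ * k2 * (k⁻¹ * r i * k) * k2⁻¹ * k1 by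
        group, e]
      group
  have htwo : IsPGroup 2 T := IsPGroup.of_card (n := 5) (by rw [hT]; norm_num)
  -- each class is odd, the remaining cosets are even
  have hfib : ∀ i, Odd (Nat.card {c : Φ // cls c = some i}) := by
    intro i
    obtain ⟨hcj, hv, hd⟩ := hr i
    obtain ⟨g0, hg0'⟩ := isConj_iff.1 hcj
    set g := g0⁻¹ with hgdef
    have hg : g⁻¹ * t * g = r i := by rw [hgdef, inv_inv]; exact hg0'
    have hc0 : val φ (w (g : G ⧸ H)) ≠ 1 := by rw [hwd, hg]; exact hv
    set c0 : Φ := ⟨g, hc0⟩ with hc0def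
    have hcl0 : cls c0 = some i := by
      rw [hcls]
      obtain ⟨k, hk, e⟩ := hwk g
      exact ⟨k, hk, by rw [e, hg]⟩
    have horb : ∀ c, cls c = some i ↔ c ∈ MulAction.orbit C c0 := by
      intro c
      refine ⟨fun hc => ?_, fun ⟨a, ha⟩ => by rw [← ha, hclsinv, hcl0]⟩
      obtain ⟨⟨g'⟩, hc'⟩ := c
      rw [hcls] at hc
      obtain ⟨k, hk, e⟩ := hc
      obtain ⟨k', hk', e'⟩ := hwk g'
      change k⁻¹ * r i * k = w (g' : G ⧸ H) at e
      rw [e', ← hg] at e
      have ha : g' * k' * k⁻¹ * g⁻¹ ∈ C := by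
        rw [mem_centralizer_singleton_iff]
        calc g' * k' * k⁻¹ * g⁻¹ * t
            = g' * k' * (k⁻¹ * (g⁻¹ * t * g) * k) * k⁻¹ * g⁻¹ := by group
          _ = g' * k' * (k'⁻¹ * (g'⁻¹ * t * g') * k') * k⁻¹ * g⁻¹ := by rw [e]
          _ = t * (g' * k' * k⁻¹ * g⁻¹) := by group
      refine ⟨⟨_, ha⟩, Subtype.ext ?_⟩
      change ((g' * k' * k⁻¹ * g⁻¹ * g : G) : G ⧸ H) = (g' : G ⧸ H)
      rw [QuotientGroup.eq, show (g' * k' * k⁻¹ * g⁻¹ * g)⁻¹ * g' = k * k'⁻¹ by group]
      exact mul_mem hk (inv_mem hk')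
    rw [Nat.card_congr (Equiv.subtypeEquivRight horb),
      Nat.card_congr (MulAction.orbitEquivQuotientStabilizer C c0), ← Subgroup.index_eq_card]
    have hst : 32 ∣ Nat.card (MulAction.stabilizer C c0) := by
      refine hd.trans (dvd_of_eq (Nat.card_congr
        { toFun := fun h => ⟨⟨g * (h : G) * g⁻¹, by
            rw [hCdef, mem_centralizer_singleton_iff]
            have h2 := mem_centralizer_singleton_iff.1 h.2.2
            calc g * (h : G) * g⁻¹ * t = g * ((h : G) * (g⁻¹ * t * g)) * g⁻¹ := by group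
              _ = g * ((g⁻¹ * t * g) * (h : G)) * g⁻¹ := by rw [hg, h2]
              _ = t * (g * (h : G) * g⁻¹) := by group⟩, Subtype.ext (by
            show ((g * (h : G) * g⁻¹ * g : G) : G ⧸ H) = (g : G ⧸ H)
            rw [QuotientGroup.eq, show (g * (h : G) * g⁻¹ * g)⁻¹ * g = ((h : G))⁻¹ by group]
            exact inv_mem h.2.1)⟩
          invFun := fun a => ⟨g⁻¹ * (a : C) * g, by
            have h1 : (((a : C) : G) * g : G ⧸ H) = (g : G ⧸ H) := congrArg Subtype.val a.2
            rw [QuotientGroup.eq] at h1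
            simpa [mul_assoc] using inv_mem h1, by
            refine mem_centralizer_singleton_iff.2 ?_
            rw [← hg]
            calc g⁻¹ * (a : C) * g * (g⁻¹ * t * g) = g⁻¹ * (((a : C) : G) * t) * g := by group
              _ = g⁻¹ * (t * (a : C)) * g := by rw [mem_centralizer_singleton_iff.1 (a : C).2]
              _ = g⁻¹ * t * g * (g⁻¹ * (a : C) * g) := by group⟩
          left_inv := fun h => Subtype.ext (by simp [mul_assoc])
          right_inv := fun a => Subtype.ext (Subtype.ext (by simp [mul_assoc])) }))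
    rw [Nat.odd_iff, ← Nat.not_even_iff, even_iff_two_dvd]
    intro h2
    exact hC (by
      rw [← (MulAction.stabilizer C c0).card_mul_index]
      exact mul_dvd_mul hst h2)
  have hnone : Even (Nat.card {c : Φ // cls c = none}) := by
    let _actT : MulAction T {c : Φ // cls c = none} :=
      { smul := fun a c => ⟨(⟨(a : G), hTC a.2⟩ : C) • c.1, by rw [hclsinv]; exact c.2⟩
        one_smul := fun c => Subtype.ext (one_smul C c.1)
        mul_smul := fun a b c => Subtype.ext (mul_smul (⟨(a : G), hTC a.2⟩ : C) ⟨b, hTC b.2⟩ c.1) }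
    have hmod := htwo.card_modEq_card_fixedPoints {c : Φ // cls c = none}
    have hempty : Nat.card (MulAction.fixedPoints T {c : Φ // cls c = none}) = 0 := by
      rw [Nat.card_eq_zero]
      refine Or.inl ⟨?_⟩
      rintro ⟨⟨⟨c, hc⟩, hno⟩, hfix⟩
      set g := c.out with hgdef
      have hfix' : ∀ a ∈ T, g⁻¹ * a * g ∈ H ∧ (g⁻¹ * a * g) * (w c) = (w c) * (g⁻¹ * a * g) := by
        intro a ha
        have h1 : a • c = c := congrArg (fun q => q.1.1) (hfix ⟨a, ha⟩)
        have h1' : ((a * g : G) : G ⧸ H) = (g : G ⧸ H) := by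
          rw [hgdef, QuotientGroup.out_eq']
          conv_rhs => rw [← h1]
          conv_rhs => rw [← QuotientGroup.out_eq' c]
          rfl
        rw [QuotientGroup.eq] at h1'
        refine ⟨by simpa [mul_assoc] using inv_mem h1', ?_⟩
        show g⁻¹ * a * g * (g⁻¹ * t * g) = g⁻¹ * t * g * (g⁻¹ * a * g)
        have := mem_centralizer_singleton_iff.1 (hTC ha)
        calc g⁻¹ * a * g * (g⁻¹ * t * g) = g⁻¹ * (a * t) * g := by group
          _ = g⁻¹ * (t * a) * g := by rw [this]
          _ = _ := by group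
      have hd : 32 ∣ Nat.card (H ⊓ centralizer ({w c} : Set G) : Subgroup G) := by
        refine (dvd_of_eq hT.symm).trans
          ((dvd_of_eq (Nat.card_congr (T.equivMapOfInjective (MulAut.conj g⁻¹).toMonoidHom
            (MulEquiv.injective _)).toEquiv)).trans (Subgroup.card_dvd_of_le ?_))
        rintro _ ⟨a, ha, rfl⟩
        simp only [MulEquiv.coe_toMonoidHom, MulAut.conj_apply, inv_inv]
        exact ⟨(hfix' a ha).1, mem_centralizer_singleton_iff.2 (hfix' a ha).2⟩
      have hmem : w c ∈ H := mem_of_val_ne hc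
      obtain ⟨i, k, hk, e⟩ := hcov _ hmem (isConj_iff.2 ⟨g⁻¹, by simp [hw, hgdef]⟩) hc hd
      rw [(hcls ⟨c, hc⟩ i).2 ⟨k, hk, e⟩] at hno
      exact Option.some_ne_none i hno
    rw [hempty] at hmod
    exact Nat.even_iff.2 hmod
  refine exists_index_two_of_odd φ ht ?_
  change Odd (Nat.card Φ)
  haveI := Fintype.ofFinite ι
  haveI := Fintype.ofFinite Φ
  rw [← Nat.card_congr (Equiv.sigmaFiberEquiv cls), Nat.card_sigma, Fintype.sum_option]
  refine Even.add_odd hnone ?_
  rw [Nat.odd_iff, Finset.sum_nat_mod, Finset.sum_congr rfl (g := fun _ => 1)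
    (fun i _ => Nat.odd_iff.1 (hfib i))]
  rw [Finset.sum_const, smul_eq_mul, mul_one, Finset.card_univ, ← Nat.card_eq_fintype_card]
  exact Nat.odd_iff.1 hodd

end CfsgLib.Characterizations.TwoTimesSymmetric.Count
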