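import Cfsg.Agent.Lib.Characterizations.TwoTimesSymmetric.Four

/-!
# Four central conjugates, `E` not normal in `N(T)`: normal forms
-/

set_option autoImplicit false
set_option linter.unusedSectionVars false
set_option linter.style.haveILetI false
set_option maxRecDepth 4000
set_option maxHeartbeats 1000000

namespace CfsgLib.Characterizations.TwoTimesSymmetric

open Subgroup CfsgLib.Characterizations.TwoTimesSymmetric.Count

/-- The map induced on the centre by an element cycling the four marks. -/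
def nu : Act := (8, 2, 4, 7)

/-- Words for elements of order three fixing two marks. -/
def words5 : List (List (Fin 3)) := [[0,0,1,2,0], [0,0,2,1,0]]

/-- Words for the second type of action. -/
def words7 : List (List (Fin 3)) := [[1,0,1,0,1], [1,0,1,1,0,1]]

theorem order3_fix : ∀ q q2 : Fin 16, par q = true → par q2 = true →
    let L : Act := (7 ^^^ q ^^^ q2, q, q2, 14 ^^^ q ^^^ q2)
    comp L (comp L L) = idA → L = idA ∨ (L.1 = 1 ∧ L ∉ perms) ∨ Escapes L words5 ∨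
      ∃ w ∈ words5, (wordAct L w).1 = 7 ∧ comp (wordAct L w) S = comp S (wordAct L w) := by
  decide +kernel

theorem fix_eight : ∀ L ∈ perms, app L 8 = 8 → comp L (comp L L) = idA → L = idA := by decide +kernel

theorem fix_seven_fourteen : ∀ p q q2 r : Fin 16, p ^^^ q ^^^ q2 = 7 → q ^^^ q2 ^^^ r = 14 →
    p = 7 ^^^ q ^^^ q2 ∧ r = 14 ^^^ q ^^^ q2 := by decide +kernel

theorem cands_eight : ∀ L ∈ cands, L.1 = 8 → L.2.2.2 = 1 := fun L hL =>
  of_decide_eq_true (p := L.1 = 8 → L.2.2.2 = 1) (List.all_eq_true.1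
    (by decide +kernel : (cands.all fun L => decide (L.1 = 8 → L.2.2.2 = 1)) = true) L hL)

theorem cands_seven : ∀ L ∈ cands, L.1 = 7 → L.2.2.2 = 14 ∧
    (L = pure 6 ∨ L = (7, 2, 4, 14) ∨ L = (7, 11, 13, 14) ∨ L = (7, 13, 11, 14)) := fun L hL =>
  of_decide_eq_true (p := L.1 = 7 → L.2.2.2 = 14 ∧
    (L = pure 6 ∨ L = (7, 2, 4, 14) ∨ L = (7, 11, 13, 14) ∨ L = (7, 13, 11, 14))) (List.all_eq_true.1
    (by decide +kernel : (cands.all fun L => decide (L.1 = 7 → L.2.2.2 = 14 ∧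
      (L = pure 6 ∨ L = (7, 2, 4, 14) ∨ L = (7, 11, 13, 14) ∨ L = (7, 13, 11, 14)))) = true) L hL)

theorem second_type : ∀ L ∈ [((7, 11, 13, 14) : Act), (7, 13, 11, 14)], ∃ w ∈ words7,
    ((wordAct L w).1 = 8 ∨ (wordAct L w).1 = 14) ∧ comp (wordAct L w) S = comp S (wordAct L w) := by
  intro L hL
  simp only [List.mem_cons, List.not_mem_nil, or_false] at hL
  rcases hL with rfl | rfl
  · exact ⟨[1,0,1,0,1], by simp [words7], Or.inl (by decide +kernel), by decide +kernel⟩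
  · exact ⟨[1,0,1,1,0,1], by simp [words7], Or.inl (by decide +kernel), by decide +kernel⟩

theorem tz_image : ∀ ρ u : Fin 16, app (7, 2, 4, 14) u ^^^ ρ ^^^ u = 0 → ρ = 0 ∨ ρ = 6 := by
  decide +kernel

theorem pure6_fixed : ∀ ρ : Fin 16, ρ ∈ ZT → app (pure 6) ρ = ρ → par ρ = false := by decide +kernel

set_option synthInstance.maxSize 1024 in
theorem square_type : ∀ v w : Fin 16, ∀ b : Bool, w ∈ ZT → par w = true →
    Frame.esm (v, b) (w, true) = Frame.esm (app (pure 6) (bif b then w else (w ^^^ 6)), true) (v, b) →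
    ((b = false ∧ v ∈ ZT) ∨ (b = true ∧ v ∉ ZT)) := by decide +kernel

namespace Frame

variable {G : Type*} [Group G] [Finite G] {t : G} (f : Frame t)

theorem Fx_inv {g : G} (h : f.Fx g) : f.Fx g⁻¹ := by
  obtain ⟨L, hL⟩ := f.acts_of_norm h
  obtain ⟨M, hM⟩ := hL.inv
  exact fun v => ⟨_, hM v⟩

theorem Fx_mul {g h : G} (hg : f.Fx g) (hh : f.Fx h) : f.Fx (g * h) := by
  obtain ⟨L, hL⟩ := f.acts_of_norm hg
  obtain ⟨M, hM⟩ := f.acts_of_norm hh
  exact fun v => ⟨_, hL.mul hM v⟩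

theorem Fx_T {g : G} (hg : g ∈ f.T) : f.Fx g := fun v =>
  (mem_normalizer_iff.1 (f.T_le_NE hg) _).1 (f.emb_mem_E v)

/-- Two elements of `N(T)` with equal image of `t` are congruent modulo `T`. -/
theorem Fx_congr {g h : G} (hg : g ∈ f.NT) (hh : h ∈ f.NT) (he : g * t * g⁻¹ = h * t * h⁻¹)
    (hF : f.Fx g) : f.Fx h := by
  have hT : g⁻¹ * h ∈ f.T := f.NT_fix_t (mul_mem (inv_mem hg) hh) (by
    calc g⁻¹ * h * t * (g⁻¹ * h)⁻¹ = g⁻¹ * (h * t * h⁻¹) * g := by group
      _ = t := by rw [← he]; group)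
  have := f.Fx_mul hF (f.Fx_T hT)
  rwa [mul_inv_cancel_left] at this

theorem real_word {g : G} {L : Act} (hL : f.Acts g L) (w : List (Fin 3)) :
    ∃ x, f.Acts x (wordAct L w) := by
  induction w with
  | nil => exact ⟨1, f.acts_one⟩
  | cons i w ih =>
    obtain ⟨x, hx⟩ := ih
    fin_cases i
    · exact ⟨_, hL.mul hx⟩
    · exact ⟨_, f.acts_X.mul hx⟩
    · exact ⟨_, f.acts_s.mul hx⟩

theorem acts_fst {g : G} {L : Act} (h : f.Acts g L) : g * t * g⁻¹ = f.emb L.1 := by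
  rw [← (app_basis L).1, ← h 1]
  exact congrArg (fun y => g * y * g⁻¹) f.emb_one.symm

/-- An element of `N(E)` with the given word as action. -/
theorem Fx_of_word {g : G} {L : Act} (hL : f.Acts g L) (w : List (Fin 3))
    (hc : comp (wordAct L w) S = comp S (wordAct L w)) :
    ∃ k ∈ f.NT, f.Fx k ∧ k * t * k⁻¹ = f.emb (wordAct L w).1 := by
  obtain ⟨x, hx⟩ := f.real_word hL w
  exact ⟨x, f.mem_NT_of_acts hx hc, fun v => ⟨_, hx v⟩, f.acts_fst hx⟩

variable (hmk : ∀ v, f.Mk v ↔ par v = true)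
include hmk

/-- Marks stay marks. -/
theorem img_par {g : G} {L : Act} (hL : f.Acts g L) {v : Fin 16} (hv : par v = true) :
    par (app L v) = true := (hmk _).1 (by
  show IsConj t _
  rw [← hL v]; exact isConj_conj ((hmk v).2 hv))

/-- An element moving `E` exchanges the two central non-marks. -/
theorem nonFx_nine {n : G} (hn : n ∈ f.NT) (hF : ¬ f.Fx n) :
    n * f.emb 9 * n⁻¹ = f.emb 15 := by
  -- the possible images
  obtain ⟨p, hp, hpm, hpe⟩ := f.NT_mark hn (v := 1) (by decide) f.mk_one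
  rw [emb_one] at hpe
  have hp' := (hmk p).1 hpm
  have hd : ∀ p ∈ ZT, par p = true → p = 1 ∨ p = 7 ∨ p = 8 ∨ p = 14 := by decide +kernel
  have hp1 : p ≠ 1 := by
    rintro rfl
    exact hF (f.Fx_T (f.NT_fix_t hn (hpe.trans f.emb_one)))
  -- the case where `t` and `a₃` are exchanged
  have hnine : ∀ m ∈ f.NT, ¬ f.Fx m → ∀ v ∈ ZT, par v = true → m * t * m⁻¹ = f.emb v →
      m * f.emb 9 * m⁻¹ = f.emb 9 →
      ∃ L, f.Acts (m⁻¹ * f.X' * m) L ∧ comp L (comp L L) = idA ∧ L ≠ idA ∧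
        app L v = v ∧ app L (v ^^^ 9) = v ^^^ 9 := by
    intro m hm hmF v hv hvp hmt hm9
    obtain ⟨L, hL⟩ := f.exists_acts (f.conj_X'_mem_NE hm hmF)
    have hm6 := f.NT_six hm
    have hm15 : m * f.emb 15 * m⁻¹ = f.emb 15 := by
      rw [show (15 : Fin 16) = 9 ^^^ 6 from rfl, emb_mul,
        show m * (f.emb 9 * f.emb 6) * m⁻¹ = m * f.emb 9 * m⁻¹ * (m * f.emb 6 * m⁻¹) by group, hm9, hm6]
    have hmv : m * f.emb v * m⁻¹ = t := by
      have hd : ∀ v ∈ ZT, par v = true → v ≠ 1 → v = 1 ^^^ 6 ∨ v = 1 ^^^ 9 ∨ v = 1 ^^^ 15 := by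
        decide +kernel
      have hv1 : v ≠ 1 := by
        rintro rfl
        exact hmF (f.Fx_T (f.NT_fix_t hm (hmt.trans f.emb_one)))
      have key : ∀ u, v = 1 ^^^ u → m * f.emb u * m⁻¹ = f.emb u → m * f.emb v * m⁻¹ = t := by
        intro u hu he
        rw [hu, emb_mul, show m * (f.emb 1 * f.emb u) * m⁻¹ = m * f.emb 1 * m⁻¹ * (m * f.emb u * m⁻¹) by
          group, he, show m * f.emb 1 * m⁻¹ = f.emb v from
            (congrArg (fun y => m * y * m⁻¹) f.emb_one).trans hmt, ← emb_mul, hu]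
        refine (congrArg f.emb ?_).trans f.emb_one
        rw [xor_assoc16]
        have : ∀ u : Fin 16, (1 : Fin 16) ^^^ (u ^^^ u) = 1 := by decide +kernel
        exact this u
      rcases hd v hv hvp hv1 with h | h | h
      exacts [key 6 h hm6, key 9 h hm9, key 15 h hm15]
    have hmv9 : m * f.emb (v ^^^ 9) * m⁻¹ = f.emb 8 := by
      rw [emb_mul, show m * (f.emb v * f.emb 9) * m⁻¹ = m * f.emb v * m⁻¹ * (m * f.emb 9 * m⁻¹) by group,
        hmv, hm9, t_mul]
      rfl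
    have hfix8 : f.X' * f.emb 8 * f.X'⁻¹ = f.emb 8 := by
      have e : f.emb 8 = f.dual.emb 14 := by rw [f.dual_emb_ZT (by decide)]; rfl
      rw [e]
      exact (f.dual.acts_X 14).trans (by rw [show app R 14 = 14 by decide +kernel])
    have hcube : m⁻¹ * f.X' * m * (m⁻¹ * f.X' * m * (m⁻¹ * f.X' * m)) = 1 := by
      rw [show m⁻¹ * f.X' * m * (m⁻¹ * f.X' * m * (m⁻¹ * f.X' * m)) = m⁻¹ * f.X' ^ 3 * m by
        rw [pow_three]; group, f.X'3]
      group
    refine ⟨L, hL, ?_, ?_, ?_, ?_⟩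
    · have h := hL.mul (hL.mul hL)
      rw [hcube] at h
      exact h.eq f.acts_one
    · rintro rfl
      obtain ⟨e, he⟩ := f.eq_emb_of_acts_id hL
      rw [he, emb_sq, mul_one, ← emb_zero f] at hcube
      obtain rfl := f.emb_inj hcube
      rw [emb_zero] at he
      have hX1 : f.X' = 1 := by
        calc f.X' = m * (m⁻¹ * f.X' * m) * m⁻¹ := by group
          _ = 1 := by rw [he]; group
      have h := f.dual.acts_X
      change f.dual.Acts f.X' R at h
      rw [hX1] at h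
      exact absurd (h.eq f.dual.acts_one) (by decide)
    · refine f.emb_inj ((hL v).symm.trans ?_)
      calc m⁻¹ * f.X' * m * f.emb v * (m⁻¹ * f.X' * m)⁻¹
          = m⁻¹ * (f.X' * (m * f.emb v * m⁻¹) * f.X'⁻¹) * m := by group
        _ = m⁻¹ * (m * f.emb v * m⁻¹) * m := by
            simp only [hmv]
            exact congrArg (fun y => m⁻¹ * y * m) (conj_t f.X'_mem)
        _ = f.emb v := by group
    · refine f.emb_inj ?_
      rw [← hL (v ^^^ 9), show m⁻¹ * f.X' * m * f.emb (v ^^^ 9) * (m⁻¹ * f.X' * m)⁻¹ =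
        m⁻¹ * (f.X' * (m * f.emb (v ^^^ 9) * m⁻¹) * f.X'⁻¹) * m by group, hmv9, hfix8, ← hmv9]
      group
  have height : ∀ m ∈ f.NT, ¬ f.Fx m → m * t * m⁻¹ = f.emb 8 → m * f.emb 9 * m⁻¹ ≠ f.emb 9 := by
    intro m hm hmF hmt hm9
    obtain ⟨L, hL, h3, hne, h8, h1⟩ := hnine m hm hmF 8 (by decide) (by decide) hmt hm9
    rw [show (8 : Fin 16) ^^^ 9 = 1 from rfl] at h1
    have hC : m⁻¹ * f.X' * m ∈ centralizer ({t} : Set G) :=
      mem_centralizer_singleton_iff.2 (mul_inv_eq_iff_eq_mul.1 (by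
        rw [f.acts_fst hL, ← (app_basis L).1, h1, emb_one]))
    exact hne (fix_eight L (f.perms_of_fix hC hL) h8 h3)
  obtain ⟨w, hw, hwe⟩ := f.NT_ZT hn (v := 9) (by decide)
  have hw' : w = 9 ∨ w = 15 := by
    have hwp : par w = false := Bool.eq_false_iff.2 fun h => by
      have h' : IsConj t (f.emb 9) := isConj_of_conj (g := n) (hwe ▸ (hmk w).2 h)
      exact absurd ((hmk 9).1 h') (by decide)
    have hw0 : w ≠ 0 := by
      rintro rfl
      rw [emb_zero, conj_eq_one_iff] at hwe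
      exact absurd (f.emb_inj (hwe.trans f.emb_zero.symm)) (by decide)
    have hw6 : w ≠ 6 := by
      rintro rfl
      exact absurd (f.emb_inj (mul_left_cancel (mul_right_cancel (hwe.trans (f.NT_six hn).symm))))
        (by decide)
    revert hw hwp hw0 hw6
    clear hwe
    revert w
    decide +kernel
  rcases hw' with rfl | rfl
  swap
  · exact hwe
  exfalso
  have hp7 : p = 7 ∨ p = 14 := by
    rcases hd p hp hp' with h | h | h | h
    · exact absurd h hp1
    · exact Or.inl h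
    · exact absurd hwe (height n hn hF (h ▸ hpe))
    · exact Or.inr h
  obtain ⟨L, hL, h3, hne, hfp, hfp9⟩ := hnine n hn hF p hp hp' hpe hwe
  obtain ⟨h7, h14⟩ : app L 7 = 7 ∧ app L 14 = 14 := by
    rcases hp7 with rfl | rfl
    · exact ⟨hfp, hfp9⟩
    · exact ⟨hfp9, hfp⟩
  obtain ⟨l, q, q2, r⟩ := L
  obtain ⟨b1, b2, b3, b4⟩ := app_basis (l, q, q2, r)
  rw [show (7 : Fin 16) = 1 ^^^ 2 ^^^ 4 from rfl, app_xor, app_xor, b1, b2, b3] at h7
  rw [show (14 : Fin 16) = 2 ^^^ 4 ^^^ 8 from rfl, app_xor, app_xor, b2, b3, b4] at h14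
  have hq : par q = true := (congrArg par b2).symm.trans (f.img_par hmk hL (v := 2) (by decide))
  have hq2 : par q2 = true := (congrArg par b3).symm.trans (f.img_par hmk hL (v := 4) (by decide))
  obtain ⟨rfl, rfl⟩ := fix_seven_fourteen l q q2 r h7 h14
  rcases order3_fix q q2 hq hq2 h3 with h | ⟨h1, h2⟩ | h | ⟨wd, -, hw7, hwc⟩
  · exact hne h
  · exact h2 (f.perms_of_fix (mem_centralizer_singleton_iff.2 (mul_inv_eq_iff_eq_mul.1 (by
      rw [f.acts_fst hL]; exact (congrArg f.emb h1).trans f.emb_one))) hL)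
  · exact f.not_escapes hL _ h
  obtain ⟨k, hk, hkF, hkt⟩ := f.Fx_of_word hL wd hwc
  rw [hw7] at hkt
  rcases hp7 with rfl | rfl
  · exact hF (f.Fx_congr hk hn (hkt.trans hpe.symm) hkF)
  obtain ⟨m, hmt, hmT⟩ := f.exists_norm (v := 8) (by decide) ((hmk 8).2 (by decide))
  have hm : m ∈ f.NT := f.mem_NT.2 hmT
  have hm7 : m * f.emb 7 * m⁻¹ = f.emb 14 := by
    rw [show (7 : Fin 16) = 1 ^^^ 6 from rfl, emb_mul,
      show m * (f.emb 1 * f.emb 6) * m⁻¹ = m * f.emb 1 * m⁻¹ * (m * f.emb 6 * m⁻¹) by group,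
      f.NT_six hm, show m * f.emb 1 * m⁻¹ = f.emb 8 from
        (congrArg (fun y => m * y * m⁻¹) f.emb_one).trans hmt, ← emb_mul]
    rfl
  have hmk14 : m * k * t * (m * k)⁻¹ = n * t * n⁻¹ := by
    rw [hpe, show m * k * t * (m * k)⁻¹ = m * (k * t * k⁻¹) * m⁻¹ by group, hkt, hm7]
  by_cases hmF : f.Fx m
  · exact hF (f.Fx_congr (mul_mem hm hk) hn hmk14 (f.Fx_mul hmF hkF))
  · obtain ⟨w, hw, hwe'⟩ := f.NT_ZT hm (v := 9) (by decide)
    obtain ⟨Lk, hLk⟩ := f.acts_of_norm hkF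
    have hk1 : Lk.1 = 7 := f.emb_inj ((f.acts_fst hLk).symm.trans hkt)
    have hk14 := (cands_seven Lk (f.nt_act hmk hk hLk (by rw [hk1]; decide)) hk1).1
    have hk9 : k * f.emb 9 * k⁻¹ = f.emb 9 := by
      rw [hLk 9, show (9 : Fin 16) = 1 ^^^ 8 from rfl, app_xor, (app_basis Lk).1, (app_basis Lk).2.2.2,
        hk1, hk14]
      rfl
    have hT : (m * k)⁻¹ * n ∈ f.T := f.NT_fix_t (mul_mem (inv_mem (mul_mem hm hk)) hn) (by
      calc (m * k)⁻¹ * n * t * ((m * k)⁻¹ * n)⁻¹ = (m * k)⁻¹ * (n * t * n⁻¹) * (m * k) := by group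
        _ = t := by rw [← hmk14]; group)
    have hc := (f.commute_emb_ZT (v := 9) (by decide) hT).symm
    refine height m hm hmF hmt ?_
    calc m * f.emb 9 * m⁻¹ = m * (k * f.emb 9 * k⁻¹) * m⁻¹ := by rw [hk9]
      _ = m * k * (((m * k)⁻¹ * n) * f.emb 9 * ((m * k)⁻¹ * n)⁻¹) * (m * k)⁻¹ := by
          rw [hc.eq, mul_inv_cancel_right]; group
      _ = n * f.emb 9 * n⁻¹ := by group
      _ = f.emb 9 := hwe

omit hmk
/-- The data of the case in which `E` is not normal in `N(T)`. -/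
structure SwapData (n r : G) (ρ w : Fin 16) : Prop where
  hρ : ρ ∈ ZT
  hw : w ∈ ZT
  hwp : par w = true
  hr : f.Acts r (pure 6)
  hrs : r * f.s * r⁻¹ = f.s
  hrr : r * r = 1
  hn : ∀ v ∈ ZT, n * f.emb v * n⁻¹ = f.emb (app nu v)
  hna : n * f.a1 * n⁻¹ = f.es (w, true)
  hnn : n * n = r * f.emb ρ

include hmk

theorem exists_swap (hsw : ∃ g ∈ f.NT, ¬ f.Fx g) : ∃ n r ρ w, f.SwapData n r ρ w := by
  -- the cycle
  obtain ⟨n, hn, hnF, hnt⟩ : ∃ n ∈ f.NT, ¬ f.Fx n ∧ n * t * n⁻¹ = f.emb 8 := by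
    obtain ⟨g, hg, hgF⟩ := hsw
    have h9 := f.nonFx_nine hmk hg hgF
    obtain ⟨p, hp, hpm, hpe⟩ := f.NT_mark hg (v := 1) (by decide) f.mk_one
    rw [emb_one] at hpe
    have hd : ∀ p ∈ ZT, par p = true → p = 1 ∨ p = 7 ∨ p = 8 ∨ p = 14 := by decide +kernel
    have h8 : ∀ q, q = p → g * f.emb 8 * g⁻¹ = f.emb (q ^^^ 15) := fun q hq => by
      subst hq
      rw [show (8 : Fin 16) = 1 ^^^ 9 from rfl, emb_mul,
        show g * (f.emb 1 * f.emb 9) * g⁻¹ = g * f.emb 1 * g⁻¹ * (g * f.emb 9 * g⁻¹) by group, h9,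
        show g * f.emb 1 * g⁻¹ = f.emb q from (congrArg (fun y => g * y * g⁻¹) f.emb_one).trans hpe,
        ← emb_mul]
    rcases hd p hp ((hmk p).1 hpm) with rfl | rfl | rfl | rfl
    · exact absurd (f.Fx_T (f.NT_fix_t hg (hpe.trans f.emb_one))) hgF
    · exfalso
      exact hgF (f.Fx_T (f.NT_fix hg (v := 8) (by decide) ((hmk 8).2 (by decide)) (h8 7 rfl)))
    · exact ⟨g, hg, hgF, hpe⟩
    · refine ⟨g⁻¹, inv_mem hg, fun h => hgF ?_, ?_⟩
      · have := f.Fx_inv h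
        rwa [inv_inv] at this
      · have h1 : g * f.emb 8 * g⁻¹ = t := (h8 14 rfl).trans f.emb_one
        calc g⁻¹ * t * g⁻¹⁻¹ = g⁻¹ * (g * f.emb 8 * g⁻¹) * g := by rw [h1]; group
          _ = _ := by group
  have h9 := f.nonFx_nine hmk hn hnF
  have h6 := f.NT_six hn
  have hmulc : ∀ (g : G) (u v u' v' : Fin 16), g * f.emb u * g⁻¹ = f.emb u' → g * f.emb v * g⁻¹ = f.emb v' →
      g * f.emb (u ^^^ v) * g⁻¹ = f.emb (u' ^^^ v') := fun g u v u' v' h1 h2 => by
    rw [emb_mul, emb_mul, ← h1, ← h2]; group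
  have hn1 : n * f.emb 1 * n⁻¹ = f.emb 8 := (congrArg (fun y => n * y * n⁻¹) f.emb_one).trans hnt
  have hn8 : n * f.emb 8 * n⁻¹ = f.emb 7 := hmulc n 1 9 8 15 hn1 h9
  have hnZ : ∀ v ∈ ZT, n * f.emb v * n⁻¹ = f.emb (app nu v) := by
    have h0 : n * f.emb 0 * n⁻¹ = f.emb 0 := by rw [emb_zero]; group
    intro v hv
    simp only [ZT, List.mem_cons, List.not_mem_nil, or_false] at hv
    rcases hv with rfl | rfl | rfl | rfl | rfl | rfl | rfl | rfl
    · exact h0
    · exact hn1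
    · exact h6
    · exact hmulc n 1 6 8 6 hn1 h6
    · exact hn8
    · exact hmulc n 1 8 8 7 hn1 hn8
    · exact hmulc n 6 8 6 7 h6 hn8
    · exact hmulc n 7 8 14 7 (hmulc n 1 6 8 6 hn1 h6) hn8
  have hn7 : n * f.emb 7 * n⁻¹ = f.emb 14 := hnZ 7 (by decide)
  have hn14 : n * f.emb 14 * n⁻¹ = t := (hnZ 14 (by decide)).trans f.emb_one
  -- elements of `N(T)` normalising `E` do not send `t` to `8` or `14`
  have hno : ∀ k ∈ f.NT, f.Fx k → k * t * k⁻¹ ≠ f.emb 8 ∧ k * t * k⁻¹ ≠ f.emb 14 := by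
    intro k hk hkF
    refine ⟨fun e => hnF (f.Fx_congr hk hn (e.trans hnt.symm) hkF), fun e => hnF ?_⟩
    have hi : n⁻¹ * t * n⁻¹⁻¹ = f.emb 14 := by
      refine (congrArg (fun y => n⁻¹ * y * n⁻¹⁻¹) hn14.symm).trans ?_
      group
    have h' := f.Fx_inv (f.Fx_congr hk (inv_mem hn) (e.trans hi.symm) hkF)
    rwa [inv_inv] at h'
  -- the square of the cycle
  have hq : n * n ∈ f.NT := mul_mem hn hn
  have hqF := f.Fx_sq n hn
  have hqt : n * n * t * (n * n)⁻¹ = f.emb 7 := by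
    rw [show n * n * t * (n * n)⁻¹ = n * (n * t * n⁻¹) * n⁻¹ by group, hnt, hn8]
  obtain ⟨L, hL⟩ := f.acts_of_norm hqF
  have hL1 : L.1 = 7 := f.emb_inj ((f.acts_fst hL).symm.trans hqt)
  obtain ⟨hL14, hLc⟩ := cands_seven L (f.nt_act hmk hq hL (by rw [hL1]; decide)) hL1
  have hLz : L = pure 6 ∨ L = (7, 2, 4, 14) := by
    rcases hLc with h | h | h
    · exact Or.inl h
    · exact Or.inr h
    exfalso
    obtain ⟨wd, -, hp, hc⟩ := second_type L (by simpa using h)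
    obtain ⟨k, hk, hkF, hkt⟩ := f.Fx_of_word hL wd hc
    obtain ⟨h8, h14⟩ := hno k hk hkF
    rcases hp with e | e <;> rw [e] at hkt
    exacts [h8 hkt, h14 hkt]
  obtain ⟨r0, hr0N, hr0, hr0t⟩ : ∃ r0, r0 ∈ f.NT ∧ f.Acts r0 (pure 6) ∧
      r0 * t * r0⁻¹ = f.emb 7 := by
    rcases hLz with rfl | rfl
    · exact ⟨_, hq, hL, hqt⟩
    · have h := hL.mul f.acts_s
      rw [show comp (7, 2, 4, 14) S = pure 6 by decide +kernel] at h
      exact ⟨_, mul_mem hq (f.T_le_NT f.s_mem_T), h, f.acts_fst h⟩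
  -- purity on the dual subgroup
  obtain ⟨r1, hr1N, hr1, hr1s⟩ : ∃ r1, r1 ∈ f.NT ∧ f.Acts r1 (pure 6) ∧ r1 * f.s * r1⁻¹ = f.s := by
    obtain ⟨p, hp, hps⟩ := f.Fx_s hr0N hr0
    have hr0F : f.Fx r0 := fun v => ⟨_, hr0 v⟩
    obtain ⟨M, hM⟩ := f.dual.acts_of_norm (f.Fx_dual hr0N hr0F)
    have hM1 : M.1 = 7 := f.dual.emb_inj (by
      rw [← f.dual.acts_fst hM, hr0t, f.dual_emb_ZT (by decide)]; rfl)
    have hMc := (cands_seven M (f.dual.nt_act (f.dual_hmk hmk) (f.dual_NT.symm ▸ hr0N) hM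
      (by rw [hM1]; decide)) hM1).2
    have hb1 : f.es (8, true) = f.dual.emb 2 := by rw [dual_emb]; rfl
    have hb : f.es (esm (app (pure 6) 8, false) (p, true)) = f.dual.emb M.2.1 := by
      rw [← (app_basis M).2.1, ← hM 2, ← hb1, ← es_es, ← es_e, ← hr0 8, ← hps,
        show ((8, true) : Fin 16 × Bool) = esm (8, false) (0, true) by decide +kernel, ← es_es,
        ← es_e, ← f.es_s]
      group
    rw [dual_emb] at hb
    have hb' := f.es_inj hb
    have hMz : M = pure 6 ∨ M = (7, 2, 4, 14) := by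
      rcases hMc with h | h | h
      · exact Or.inl h
      · exact Or.inr h
      exfalso
      obtain ⟨wd, -, hwp, hc⟩ := second_type M (by simpa using h)
      obtain ⟨k, hk, hkF, hkt⟩ := f.dual.Fx_of_word hM wd hc
      rw [f.dual_NT] at hk
      obtain ⟨h8, h14⟩ := hno k hk ((f.Fx_dual_iff hk).1 hkF)
      rcases hwp with e | e <;> rw [e, f.dual_emb_ZT (by decide)] at hkt
      exacts [h14 hkt, h8 hkt]
    have hd : ∀ p ∈ ZT, ∀ q : Fin 16, (q = 2 ∨ q = 4) →
        esm (app (pure 6) 8, false) (p, true) = δ q → p = 0 ∨ p = 6 := by decide +kernel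
    have hq : M.2.1 = 2 ∨ M.2.1 = 4 := by
      rcases hMz with rfl | rfl
      · exact Or.inr (by decide)
      · exact Or.inl rfl
    rcases hd p hp M.2.1 hq hb' with rfl | rfl
    · exact ⟨r0, hr0N, hr0, hps.trans f.es_s.symm⟩
    · refine ⟨r0 * f.emb 10, mul_mem hr0N (f.T_le_NT (f.emb_mem_T 10)), ?_, ?_⟩
      · have h := hr0.mul (f.acts_emb 10)
        rwa [comp_idA] at h
      · have e : f.emb 10 * f.s * (f.emb 10)⁻¹ = f.emb 6 * f.s := by
          rw [emb_inv, es_e, es_e, f.es_s, es_es, es_es, es_es]; rfl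
        rw [show r0 * f.emb 10 * f.s * (r0 * f.emb 10)⁻¹ = r0 * (f.emb 10 * f.s * (f.emb 10)⁻¹) * r0⁻¹ by
          group, e, show r0 * (f.emb 6 * f.s) * r0⁻¹ = r0 * f.emb 6 * r0⁻¹ * (r0 * f.s * r0⁻¹) by group,
          hr0 6, hps, es_e, f.es_s, es_es]
        rfl
  -- an involution
  obtain ⟨r, hr, hrs, hrr⟩ : ∃ r, f.Acts r (pure 6) ∧ r * f.s * r⁻¹ = f.s ∧ r * r = 1 := by
    obtain ⟨ρ, hρ⟩ := f.eq_emb_of_acts_id (g := r1 * r1) (by
      have h := hr1.mul hr1
      rwa [show comp (pure 6) (pure 6) = idA by decide +kernel] at h)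
    have hr1s' : f.Acts (r1 * f.s) (7, 2, 4, 14) := by
      have h := hr1.mul f.acts_s
      rwa [show comp (pure 6) S = (7, 2, 4, 14) by decide +kernel] at h
    set a := f.X * r1 * f.X⁻¹ with ha
    obtain ⟨XI, hXI⟩ := f.acts_X.inv
    have hXI' : XI = comp R R := hXI.eq (f.X_inv ▸ f.acts_X.mul f.acts_X)
    have haA : f.Acts a (pure 12) := by
      have h := (f.acts_X.mul hr1).mul hXI
      rwa [hXI', show comp (comp R (pure 6)) (comp R R) = pure 12 by decide +kernel] at h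
    obtain ⟨AI, hAI⟩ := haA.inv
    have hAI' : AI = pure 12 := by
      have h := (haA.mul hAI)
      rw [mul_inv_cancel] at h
      have e := h.eq f.acts_one
      calc AI = comp (comp (pure 12) (pure 12)) AI := by
            rw [show comp (pure 12) (pure 12) = idA by decide +kernel, idA_comp]
        _ = pure 12 := by rw [comp_assoc, e, comp_idA]
    have hx : f.Acts (a * f.s * a⁻¹) (7, 2, 4, 14) := by
      have h := (haA.mul f.acts_s).mul hAI
      rwa [hAI', show comp (comp (pure 12) S) (pure 12) = (7, 2, 4, 14) by decide +kernel] at h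
    obtain ⟨u, hu⟩ := f.eq_mul_of_acts hx hr1s'
    have hxx : r1 * f.s * f.emb u * (r1 * f.s * f.emb u) = 1 := by
      rw [← hu, show a * f.s * a⁻¹ * (a * f.s * a⁻¹) = a * (f.s * f.s) * a⁻¹ by group, f.ss]; group
    have hsq : r1 * f.s * (r1 * f.s) = f.emb ρ := by
      calc r1 * f.s * (r1 * f.s) = r1 * f.s * r1⁻¹ * (r1 * r1) * f.s := by group
        _ = f.s * f.emb ρ * f.s := by rw [hr1s, hρ]
        _ = r1 * r1 := by
            have hc : r1 * r1 * f.s * (r1 * r1)⁻¹ = f.s := by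
              rw [show r1 * r1 * f.s * (r1 * r1)⁻¹ = r1 * (r1 * f.s * r1⁻¹) * r1⁻¹ by group, hr1s, hr1s]
            rw [← hρ, ← mul_inv_eq_iff_eq_mul.1 hc, mul_assoc, f.ss, mul_one]
        _ = f.emb ρ := hρ
    have hρ6 : ρ = 0 ∨ ρ = 6 := tz_image ρ u (f.emb_inj (by
      rw [emb_mul, emb_mul, ← hr1s' u, ← hsq, emb_zero, ← hxx]; group))
    rcases hρ6 with rfl | rfl
    · exact ⟨r1, hr1, hr1s, hρ.trans f.emb_zero⟩
    · refine ⟨r1 * t, ?_, ?_, ?_⟩
      · have h := hr1.mul (f.acts_emb 1)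
        rw [comp_idA] at h
        exact (congrArg (fun y => f.Acts (r1 * y) (pure 6)) f.emb_one).mp h
      · rw [show r1 * t * f.s * (r1 * t)⁻¹ = r1 * (t * f.s * t⁻¹) * r1⁻¹ by group,
          (tcomm f.s_mem).eq, mul_inv_cancel_right, hr1s]
      · rw [show r1 * t * (r1 * t) = r1 * t * r1⁻¹ * (r1 * r1) * t by group, f.acts_fst hr1, hρ,
          show ∀ x : G, x * t = x * f.emb 1 from fun x => congrArg (x * ·) f.emb_one.symm, ← emb_mul,
          ← emb_mul, ← emb_zero f]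
        rfl
  -- the square in terms of the involution
  obtain ⟨⟨v, b⟩, hτ⟩ : ∃ p, n * n = r * f.es p := by
    have hT : r⁻¹ * (n * n) ∈ f.T := f.NT_fix_t
      (mul_mem (inv_mem (f.mem_NT_of_acts hr (by decide +kernel))) hq) (by
        calc r⁻¹ * (n * n) * t * (r⁻¹ * (n * n))⁻¹ = r⁻¹ * (n * n * t * (n * n)⁻¹) * r := by group
          _ = r⁻¹ * (r * t * r⁻¹) * r := by rw [hqt, f.acts_fst hr]; rfl
          _ = t := by group)
    obtain ⟨p, hp⟩ := f.mem_T_iff.1 hT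
    exact ⟨p, by rw [← hp, mul_inv_cancel_left]⟩
  obtain ⟨w, hw, hwe⟩ := (f.Fx_or n hn).resolve_left hnF
  have hww : esm (w, true) (w, true) = (0, false) := f.es_inj (by
    rw [← es_es, ← hwe, show n * f.a1 * n⁻¹ * (n * f.a1 * n⁻¹) = n * (f.a1 * f.a1) * n⁻¹ by group,
      f.sq1, ← es_e, emb_zero]
    group)
  have hwp : par w = true := (f.es_mark hmk hww).1 (by
    rw [← hwe, ← emb_a1]; exact isConj_conj ((hmk 2).2 (by decide)))
  have hrT : ∀ u c, r * f.es (u, c) * r⁻¹ = f.es (app (pure 6) u, c) := fun u c => by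
    rw [es, es, show r * (f.emb (u, c).1 * pw f.s (u, c).2) * r⁻¹ =
      r * f.emb u * r⁻¹ * (r * pw f.s c * r⁻¹) by group, hr u]
    cases c
    · simp [pw]
    · show _ * (r * f.s * r⁻¹) = _
      rw [hrs]; rfl
  have htype : (b = false ∧ v ∈ ZT) ∨ (b = true ∧ v ∉ ZT) := by
    refine square_type v w b hw hwp (f.es_inj ?_)
    -- both sides of `n² (n a₁) n⁻² = n (n² a₁ n⁻²) n⁻¹`
    have himg : n * n * f.a1 * (n * n)⁻¹ = f.emb (bif b then 2 else 4) := by
      rw [← emb_a1, hτ, show r * f.es (v, b) * f.emb 2 * (r * f.es (v, b))⁻¹ =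
        r * (f.es (v, b) * f.emb 2 * (f.es (v, b))⁻¹) * r⁻¹ by group]
      have e : f.es (v, b) * f.emb 2 * (f.es (v, b))⁻¹ = f.emb (bif b then 4 else 2) := by
        refine mul_inv_eq_iff_eq_mul.2 ?_
        rw [es_e, es_e, es_es, es_es]
        have hd : ∀ v b, esm (v, b) (2, false) = esm (bif b then 4 else 2, false) (v, b) := by
          decide +kernel
        rw [hd]
      rw [e, hr]
      cases b <;> rfl
    have hn4 : n * f.emb 4 * n⁻¹ = f.es (w ^^^ 6, true) := by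
      rw [show (4 : Fin 16) = 6 ^^^ 2 from rfl, emb_mul, emb_a1,
        show n * (f.emb 6 * f.a1) * n⁻¹ = n * f.emb 6 * n⁻¹ * (n * f.a1 * n⁻¹) by group, h6, hwe,
        es_e, es_es]
      congr 1
      clear hwe hww hwp
      revert w
      decide +kernel
    have hY : n * n * f.es (w, true) * (n * n)⁻¹ = f.es ((bif b then w else w ^^^ 6), true) := by
      rw [← hwe, show n * n * (n * f.a1 * n⁻¹) * (n * n)⁻¹ = n * (n * n * f.a1 * (n * n)⁻¹) * n⁻¹ by group,
        himg]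
      cases b
      · exact hn4
      · exact (congrArg (fun y => n * y * n⁻¹) f.emb_a1).trans hwe
    rw [← es_es, ← es_es, hτ] at *
    have hr' := hrT (app (pure 6) (bif b then w else w ^^^ 6)) true
    have hinv : ∀ u, app (pure 6) (app (pure 6) u) = u := by decide +kernel
    rw [hinv, ← hY] at hr'
    have := congrArg (fun y => r⁻¹ * y * r) hr'
    calc f.es (v, b) * f.es (w, true)
        = r⁻¹ * (r * f.es (v, b) * f.es (w, true) * (r * f.es (v, b))⁻¹) * r * f.es (v, b) := by group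
      _ = r⁻¹ * (r * f.es (app (pure 6) (bif b then w else w ^^^ 6), true) * r⁻¹) * r * f.es (v, b) := by
          rw [hr']
      _ = _ := by group
  have hrρ : ∀ v, f.es (v, false) = f.emb v := fun v => (f.es_e v).symm
  rcases htype with ⟨rfl, hv⟩ | ⟨rfl, hv⟩
  · exact ⟨n, r, v, w, hv, hw, hwp, hr, hrs, hrr, hnZ, hwe, by rw [hτ, hrρ]⟩
  · -- multiply by `a₁`
    have hZc : ∀ u ∈ ZT, f.a1 * f.emb u * f.a1⁻¹ = f.emb u := fun u _ => by
      rw [← emb_a1, (f.emb_comm 2 u).eq, mul_inv_cancel_right]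
    have hd : ∀ w ∈ ZT, ∀ v, v ∉ ZT →
        (esm (esm (app (pure 6) w, true) (v, true)) (2, false)).1 ∈ ZT ∧
        (esm (esm (app (pure 6) w, true) (v, true)) (2, false)).2 = false := by decide +kernel
    obtain ⟨hρ, hρb⟩ := hd w hw v hv
    refine ⟨n * f.a1, r, _, w, hρ, hw, hwp, hr, hrs, hrr, fun u hu => ?_, ?_, ?_⟩
    · rw [show n * f.a1 * f.emb u * (n * f.a1)⁻¹ = n * (f.a1 * f.emb u * f.a1⁻¹) * n⁻¹ by group,
        hZc u hu, hnZ u hu]
    · rw [← hwe]; group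
    · have hw' : f.es (w, true) * r = r * f.es (app (pure 6) w, true) := by
        have hinv : ∀ u, app (pure 6) (app (pure 6) u) = u := by decide +kernel
        have h := hrT (app (pure 6) w) true
        rw [hinv] at h
        rw [← h, inv_mul_cancel_right]
      have e2 : f.a1 = f.es (2, false) := f.es_a1
      calc n * f.a1 * (n * f.a1) = n * f.a1 * n⁻¹ * (n * n) * f.a1 := by group
        _ = f.es (w, true) * r * f.es (v, true) * f.a1 := by rw [hwe, hτ, ← mul_assoc (f.es (w, true))]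
        _ = _ := by
            rw [hw', e2, mul_assoc r, mul_assoc r, es_es, es_es, es_e]
            exact congrArg (r * f.es ·) (Prod.ext rfl hρb)

end Frame

end CfsgLib.Characterizations.TwoTimesSymmetric
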