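import Cfsg.Agent.Lib.Characterizations.TwoTimesSymmetric.Small

/-!
# The normalizer of `E`
-/

set_option autoImplicit false
set_option linter.unusedSectionVars false
set_option linter.style.haveILetI false
set_option maxRecDepth 4000

namespace CfsgLib.Characterizations.TwoTimesSymmetric

open Subgroup CfsgLib.Characterizations.TwoTimesSymmetric.Count

theorem rot_ZT : ∀ v : Fin 16, v ∈ ZT ∨ app R v ∈ ZT ∨ app (comp R R) v ∈ ZT := by decide +kernel

namespace Frame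

variable {G : Type*} [Group G] {t : G} (f : Frame t)

/-- The elementary subgroup. -/
def E : Subgroup G where
  carrier := {x | ∃ v, x = f.emb v}
  one_mem' := ⟨0, f.emb_zero.symm⟩
  mul_mem' := by rintro _ _ ⟨v, rfl⟩ ⟨w, rfl⟩; exact ⟨v ^^^ w, (f.emb_mul v w).symm⟩
  inv_mem' := by rintro _ ⟨v, rfl⟩; exact ⟨v, f.emb_inv v⟩

theorem emb_mem_E (v : Fin 16) : f.emb v ∈ f.E := ⟨v, rfl⟩

/-- The normalizer of `E`. -/
def NE : Subgroup G := normalizer (f.E : Set G)

theorem mem_NE_of_acts [Finite G] {g : G} {L : Act} (hL : f.Acts g L) : g ∈ f.NE := by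
  obtain ⟨M, hM⟩ := hL.inv
  refine mem_normalizer_iff.2 fun x => ⟨?_, ?_⟩
  · rintro ⟨v, rfl⟩
    exact ⟨_, hL v⟩
  · rintro ⟨v, hv⟩
    refine ⟨app M v, ?_⟩
    rw [← hM v, inv_inv, ← hv]; group

theorem exists_acts {g : G} (hg : g ∈ f.NE) : ∃ L, f.Acts g L :=
  f.acts_of_norm fun v => (mem_normalizer_iff.1 hg _).1 (f.emb_mem_E v)

theorem mem_NE_of_Fx [Finite G] {g : G} (hg : f.Fx g) : g ∈ f.NE :=
  let ⟨_, hL⟩ := f.acts_of_norm hg
  f.mem_NE_of_acts hL

theorem T_le_NE [Finite G] : f.T ≤ f.NE := by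
  rintro _ ⟨v, rfl | rfl⟩
  · exact f.mem_NE_of_acts (f.acts_emb v)
  · exact f.mem_NE_of_acts ((f.acts_emb v).mul f.acts_s)

theorem X_mem_NE [Finite G] : f.X ∈ f.NE := f.mem_NE_of_acts f.acts_X

theorem mk_rot (v : Fin 16) : f.Mk (app R v) ↔ f.Mk v := by
  show IsConj t _ ↔ IsConj t _
  rw [← f.acts_X v]
  exact ⟨isConj_of_conj, isConj_conj⟩

/-- The marks on the centre determine the marks on `E`. -/
theorem mk_of_ZT {p : Fin 16 → Prop} (h : ∀ v ∈ ZT, f.Mk v ↔ p v) (hp : ∀ v, p (app R v) ↔ p v)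
    (v : Fin 16) : f.Mk v ↔ p v := by
  rcases rot_ZT v with hv | hv | hv
  · exact h v hv
  · rw [← f.mk_rot, ← hp]; exact h _ hv
  · have e : app (comp R R) v = app R (app R v) := by revert v; decide +kernel
    rw [← f.mk_rot v, ← f.mk_rot, ← hp v, ← hp, ← e]; exact h _ hv

/-- An element of `N(T)` moving `E` maps it onto the dual subgroup. -/
theorem swap_maps [Finite G] {g : G} (hg : g ∈ f.NT) (hn : ¬ f.Fx g) :
    (∀ v, ∃ u, g * f.emb v * g⁻¹ = f.dual.emb u) ∧ ∀ u, ∃ v, g⁻¹ * f.dual.emb u * g = f.emb v := by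
  obtain ⟨w, hw, he⟩ := (f.Fx_or g hg).resolve_left hn
  have h1 : ∀ v, ∃ u, g * f.emb v * g⁻¹ = f.dual.emb u := by
    intro v
    have hd : ∀ v : Fin 16, (v ∈ ZT ∨ (2 ^^^ v) ∈ ZT) := by decide +kernel
    rcases hd v with h | h
    · obtain ⟨u, hu, hue⟩ := f.NT_ZT hg h
      obtain ⟨u', hu'⟩ := δ_surj (u, false) hu
      exact ⟨u', by rw [hue, dual_emb, hu', ← es_e]⟩
    · obtain ⟨u, hu, hue⟩ := f.NT_ZT hg h
      have hd2 : ∀ w ∈ ZT, ∀ u ∈ ZT, (Frame.esm (w, true) (u, false)).1 ∈ ZT := by decide +kernel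
      obtain ⟨u', hu'⟩ := δ_surj (Frame.esm (w, true) (u, false)) (hd2 w hw u hu)
      refine ⟨u', ?_⟩
      rw [dual_emb, hu', ← es_es, ← es_e, ← he, ← hue, show f.emb v = f.emb 2 * f.emb (2 ^^^ v) by
        rw [← emb_mul, show (2 : Fin 16) ^^^ (2 ^^^ v) = v by clear hue h; revert v; decide +kernel],
        emb_a1]
      group
  refine ⟨h1, fun u => ?_⟩
  choose F hF using h1
  obtain ⟨v, hv⟩ := (Finite.injective_iff_bijective.1 (show Function.Injective F from fun a b e => by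
    have := (hF a).trans ((congrArg f.dual.emb e).trans (hF b).symm)
    exact f.emb_inj (mul_left_cancel (mul_right_cancel this)))).2 u
  exact ⟨v, by rw [← hv, ← hF v]; group⟩

/-- If `n ∈ N(T)` moves `E` then conjugating `X'` by it normalises `E`. -/
theorem conj_X'_mem_NE [Finite G] {g : G} (hg : g ∈ f.NT) (hn : ¬ f.Fx g) :
    g⁻¹ * f.X' * g ∈ f.NE := by
  obtain ⟨h1, h2⟩ := f.swap_maps hg hn
  refine f.mem_NE_of_Fx fun v => ?_
  obtain ⟨u, hu⟩ := h1 v
  obtain ⟨w, hw⟩ := h2 (app R u)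
  refine ⟨w, ?_⟩
  rw [← hw, ← f.dual.acts_X u, ← hu]
  show g⁻¹ * f.X' * g * f.emb v * (g⁻¹ * f.X' * g)⁻¹ =
    g⁻¹ * (f.X' * (g * f.emb v * g⁻¹) * f.X'⁻¹) * g
  group

/-- Order counting in `N(E)`. -/
theorem card_NE_dvd [Finite G] : 32 * Nat.card {v : Fin 16 // ∃ g ∈ f.NE, g * t * g⁻¹ = f.emb v} ∣
    Nat.card f.NE := by

  have hlab : ∀ g : f.NE, ∃ v, (g : G) * t * (g : G)⁻¹ = f.emb v := fun g => by
    obtain ⟨v, hv⟩ := (mem_normalizer_iff.1 g.2 _).1 (f.emb_mem_E 1)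
    exact ⟨v, by rw [← hv, emb_one]⟩
  let K : Subgroup f.NE := (centralizer ({t} : Set G)).subgroupOf f.NE
  let F : f.NE ⧸ K → {v : Fin 16 // ∃ g ∈ f.NE, g * t * g⁻¹ = f.emb v} := fun q =>
    ⟨(hlab q.out).choose, q.out, q.out.2, (hlab q.out).choose_spec⟩
  have hF : Function.Bijective F := by
    constructor
    · intro a b h
      have e1 := (hlab a.out).choose_spec
      have e2 := (hlab b.out).choose_spec
      have h' : f.emb (hlab a.out).choose = f.emb (hlab b.out).choose :=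
        congrArg (fun q => f.emb q.1) h
      rw [← e1, ← e2] at h'
      rw [← QuotientGroup.out_eq' a, ← QuotientGroup.out_eq' b, QuotientGroup.eq]
      refine mem_centralizer_singleton_iff.2 (mul_inv_eq_iff_eq_mul.1 ?_)
      simp only [Subgroup.coe_mul, Subgroup.coe_inv, Subgroup.coe_subtype]
      calc (a.out : G)⁻¹ * b.out * t * ((a.out : G)⁻¹ * b.out)⁻¹
          = (a.out : G)⁻¹ * ((b.out : G) * t * (b.out : G)⁻¹) * a.out := by group
        _ = t := by rw [← h']; group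
    · rintro ⟨v, g, hg, hv⟩
      refine ⟨QuotientGroup.mk ⟨g, hg⟩, Subtype.ext (f.emb_inj ?_)⟩
      refine (hlab _).choose_spec.symm.trans (Eq.trans ?_ hv)
      obtain ⟨k, hk⟩ := QuotientGroup.mk_out_eq_mul K ⟨g, hg⟩
      rw [hk, Subgroup.coe_mul, show g * ((k : f.NE) : G) * t * (g * ((k : f.NE) : G))⁻¹ =
        g * (((k : f.NE) : G) * t * ((k : f.NE) : G)⁻¹) * g⁻¹ by group,
        conj_t (t := t) (show ((k : f.NE) : G) ∈ centralizer ({t} : Set G) from k.2)]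
  rw [Subgroup.card_eq_card_quotient_mul_card_subgroup K, Nat.card_eq_of_bijective F hF, mul_comm 32]
  refine Nat.mul_dvd_mul_left _ ?_
  rw [← f.card_T, ← Nat.card_congr (Subgroup.subgroupOfEquivOfLe f.T_le_NE).toEquiv]
  exact Subgroup.card_dvd_of_le fun x hx => f.T_le hx

end Frame

end CfsgLib.Characterizations.TwoTimesSymmetric
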