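import Cfsg.Agent.Lib.Characterizations.TwoTimesSymmetric.Count

/-!
# Extending a character by a normalising element, orbit bounds for centralizers
-/

set_option autoImplicit false
set_option linter.unusedSectionVars false

namespace CfsgLib.Characterizations.TwoTimesSymmetric.Count

open Subgroup

variable {G : Type*} [Group G]

theorem val_one {H : Subgroup G} (φ : H →* Multiplicative (ZMod 2)) : val φ (1 : G) = 1 := by
  rw [val_of_mem φ (one_mem H)]; exact map_one φ

theorem val_mul {H : Subgroup G} (φ : H →* Multiplicative (ZMod 2)) {x y : G} (hx : x ∈ H) (hy : y ∈ H) :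
    val φ (x * y) = val φ x * val φ y := by
  rw [val_of_mem φ hx, val_of_mem φ hy, val_of_mem φ (mul_mem hx hy), ← map_mul]; rfl

theorem inv_eq_self : ∀ a : Multiplicative (ZMod 2), a⁻¹ = a := by decide

theorem val_inv {H : Subgroup G} (φ : H →* Multiplicative (ZMod 2)) {x : G} (hx : x ∈ H) :
    val φ x⁻¹ = val φ x := by
  rw [val_of_mem φ hx, val_of_mem φ (inv_mem hx), show (⟨x⁻¹, inv_mem hx⟩ : H) = (⟨x, hx⟩ : H)⁻¹ from rfl,
    map_inv, inv_eq_self]

/-- A character of `H` extended to `H ∪ H g`. -/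
structure Extension {H : Subgroup G} (φ : H →* Multiplicative (ZMod 2)) (g : G)
    (c : Multiplicative (ZMod 2)) where
  /-- The larger subgroup. -/
  K : Subgroup G
  /-- The extended character. -/
  χ : K →* Multiplicative (ZMod 2)
  mem : ∀ x, x ∈ K ↔ x ∈ H ∨ x * g⁻¹ ∈ H
  le : H ≤ K
  self : g ∈ K
  val_old : ∀ h ∈ H, val χ h = val φ h
  val_new : ∀ h ∈ H, val χ (h * g) = val φ h * c
  card_eq : Nat.card K = 2 * Nat.card H

theorem exists_extension [Finite G] {H : Subgroup G} (φ : H →* Multiplicative (ZMod 2)) {g : G}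
    (c : Multiplicative (ZMod 2)) (hn : ∀ h ∈ H, g * h * g⁻¹ ∈ H) (h2 : g * g ∈ H) (hg : g ∉ H)
    (hinv : ∀ h ∈ H, val φ (g * h * g⁻¹) = val φ h) (h1 : val φ (g * g) = 1) :
    Nonempty (Extension φ g c) := by
  classical
  let K : Subgroup G :=
    { carrier := {x | x ∈ H ∨ x * g⁻¹ ∈ H}
      one_mem' := Or.inl (one_mem H)
      mul_mem' := by
        rintro x y (hx | hx) (hy | hy)
        · exact Or.inl (mul_mem hx hy)
        · exact Or.inr (by rw [mul_assoc]; exact mul_mem hx hy)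
        · refine Or.inr ?_
          rw [show x * y * g⁻¹ = x * g⁻¹ * (g * y * g⁻¹) by group]
          exact mul_mem hx (hn y hy)
        · refine Or.inl ?_
          rw [show x * y = x * g⁻¹ * (g * (y * g⁻¹) * g⁻¹) * (g * g) by group]
          exact mul_mem (mul_mem hx (hn _ hy)) h2
      inv_mem' := by
        rintro x (hx | hx)
        · exact Or.inl (inv_mem hx)
        · refine Or.inr ?_
          rw [show x⁻¹ * g⁻¹ = (g * g)⁻¹ * (g * (x * g⁻¹)⁻¹ * g⁻¹) by group]
          exact mul_mem (inv_mem h2) (hn _ (inv_mem hx)) }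
  let F : G → Multiplicative (ZMod 2) := fun x => if x ∈ H then val φ x else val φ (x * g⁻¹) * c
  have hout : ∀ h ∈ H, h * g ∉ H := fun h hh hm => hg (by
    have := mul_mem (inv_mem hh) hm
    rwa [inv_mul_cancel_left] at this)
  have F1 : ∀ h ∈ H, F h = val φ h := fun h hh => if_pos hh
  have F2 : ∀ h ∈ H, F (h * g) = val φ h * c := fun h hh => by
    simp only [F, if_neg (hout h hh), mul_inv_cancel_right]
  have hcases : ∀ x ∈ K, x ∈ H ∨ ∃ h ∈ H, x = h * g := by
    rintro x (hx | hx)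
    · exact Or.inl hx
    · exact Or.inr ⟨_, hx, by group⟩
  have hmul : ∀ x ∈ K, ∀ y ∈ K, F (x * y) = F x * F y := by
    intro x hx y hy
    rcases hcases x hx with hx | ⟨a, ha, rfl⟩ <;> rcases hcases y hy with hy | ⟨b, hb, rfl⟩
    · rw [F1 _ hx, F1 _ hy, F1 _ (mul_mem hx hy), val_mul φ hx hy]
    · rw [← mul_assoc, F1 _ hx, F2 _ hb, F2 _ (mul_mem hx hb), val_mul φ hx hb, mul_assoc]
    · rw [show a * g * y = a * (g * y * g⁻¹) * g by group, F2 _ ha, F1 _ hy,
        F2 _ (mul_mem ha (hn y hy)), val_mul φ ha (hn y hy), hinv y hy]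
      ac_rfl
    · rw [show a * g * (b * g) = a * (g * b * g⁻¹) * (g * g) by group, F2 _ ha, F2 _ hb,
        F1 _ (mul_mem (mul_mem ha (hn b hb)) h2), val_mul φ (mul_mem ha (hn b hb)) h2,
        val_mul φ ha (hn b hb), hinv b hb, h1, mul_one]
      have e : ∀ p q r : Multiplicative (ZMod 2), p * q = p * r * (q * r) := by decide
      exact e _ _ _
  let χ : K →* Multiplicative (ZMod 2) :=
    { toFun := fun x => F x
      map_one' := (F1 1 (one_mem H)).trans (val_one φ)
      map_mul' := fun x y => hmul x x.2 y y.2 }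
  have hle : H ≤ K := fun x hx => Or.inl hx
  have hnew : ∀ h ∈ H, h * g ∈ K := fun h hh => Or.inr (by rwa [mul_inv_cancel_right])
  let E : H × Bool → K := fun p => bif p.2 then ⟨(p.1 : G) * g, hnew _ p.1.2⟩ else ⟨p.1, hle p.1.2⟩
  have hE : Function.Bijective E := by
    refine ⟨fun ⟨a, i⟩ ⟨b, j⟩ e => ?_, fun ⟨x, hx⟩ => ?_⟩
    · have e' := congrArg Subtype.val e
      cases i <;> cases j <;> simp only [E, cond_true, cond_false] at e'
      · rw [Subtype.ext e']
      · exact absurd (e' ▸ a.2) (hout _ b.2)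
      · exact absurd (e'.symm ▸ b.2) (hout _ a.2)
      · rw [Subtype.ext (mul_right_cancel e')]
    · rcases hcases x hx with h | ⟨h, hh, rfl⟩
      · exact ⟨(⟨x, h⟩, false), rfl⟩
      · exact ⟨(⟨h, hh⟩, true), rfl⟩
  exact ⟨{
    K := K
    χ := χ
    mem := fun x => Iff.rfl
    le := hle
    self := Or.inr (by rw [mul_inv_cancel]; exact one_mem H)
    val_old := fun h hh => (val_of_mem χ (hle hh)).trans (F1 h hh)
    val_new := fun h hh => (val_of_mem χ (hnew h hh)).trans (F2 h hh)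
    card_eq := by
      rw [← Nat.card_eq_of_bijective E hE, Nat.card_prod, Nat.card_eq_fintype_card (α := Bool),
        Fintype.card_bool, mul_comm] }⟩

/-- The order of a subgroup is the class size times the order of the centralizer in it. -/
theorem card_eq_class_mul (H : Subgroup G) (x : G) :
    Nat.card H = Nat.card {y : G // ∃ k ∈ H, k * x * k⁻¹ = y} *
      Nat.card (H ⊓ centralizer ({x} : Set G) : Subgroup G) := by
  let K : Subgroup H := (centralizer ({x} : Set G)).subgroupOf H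
  have hK : Nat.card K = Nat.card (H ⊓ centralizer ({x} : Set G) : Subgroup G) := by
    refine Nat.card_congr
      { toFun := fun a => ⟨((a : H) : G), (a : H).2, a.2⟩
        invFun := fun a => ⟨⟨(a : G), a.2.1⟩, a.2.2⟩
        left_inv := fun a => rfl
        right_inv := fun a => rfl }
  rw [Subgroup.card_eq_card_quotient_mul_card_subgroup K, hK]
  congr 1
  have key : ∀ a b : H, (QuotientGroup.mk a : H ⧸ K) = QuotientGroup.mk b ↔
      (a : G) * x * (a : G)⁻¹ = (b : G) * x * (b : G)⁻¹ := fun a b => by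
    rw [QuotientGroup.eq, Subgroup.mem_subgroupOf, mem_centralizer_singleton_iff]
    simp only [Subgroup.coe_mul, Subgroup.coe_inv]
    constructor
    · intro h
      have h' : (a : G)⁻¹ * b * x * ((a : G)⁻¹ * b)⁻¹ = x := mul_inv_eq_iff_eq_mul.2 h
      calc (a : G) * x * (a : G)⁻¹ = a * ((a : G)⁻¹ * b * x * ((a : G)⁻¹ * b)⁻¹) * (a : G)⁻¹ := by rw [h']
        _ = _ := by group
    · intro h
      refine mul_inv_eq_iff_eq_mul.1 ?_
      calc (a : G)⁻¹ * b * x * ((a : G)⁻¹ * b)⁻¹ = (a : G)⁻¹ * ((b : G) * x * (b : G)⁻¹) * a := by group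
        _ = x := by rw [← h]; group
  refine Nat.card_eq_of_bijective (fun q : H ⧸ K =>
    (⟨(q.out : G) * x * (q.out : G)⁻¹, q.out, q.out.2, rfl⟩ : {y : G // ∃ k ∈ H, k * x * k⁻¹ = y})) ⟨?_, ?_⟩
  · intro a b h
    rw [← QuotientGroup.out_eq' a, ← QuotientGroup.out_eq' b]
    exact (key _ _).2 (congrArg Subtype.val h)
  · rintro ⟨y, k, hk, rfl⟩
    refine ⟨QuotientGroup.mk ⟨k, hk⟩, Subtype.ext ?_⟩
    exact (key _ ⟨k, hk⟩).1 (QuotientGroup.out_eq' _)

theorem class_le_of_forall [Finite G] {H : Subgroup G} {x : G} {ι : Type*} [Fintype ι] (f : ι → G)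
    (h : ∀ k ∈ H, ∃ i, k * x * k⁻¹ = f i) :
    Nat.card {y : G // ∃ k ∈ H, k * x * k⁻¹ = y} ≤ Fintype.card ι := by
  let F : {y : G // ∃ k ∈ H, k * x * k⁻¹ = y} → ι := fun y => (h _ y.2.choose_spec.1).choose
  rw [← Nat.card_eq_fintype_card]
  refine Nat.card_le_card_of_injective F fun a b e => Subtype.ext ?_
  rw [← a.2.choose_spec.2, ← b.2.choose_spec.2, (h _ a.2.choose_spec.1).choose_spec,
    (h _ b.2.choose_spec.1).choose_spec]
  exact congrArg f e

/-- In a two-group a small class has a large centralizer. -/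
theorem dvd_of_class [Finite G] {H : Subgroup G} {x : G} {j : ℕ} (hH : Nat.card H = 2 ^ (5 + j))
    (hm : Nat.card {y : G // ∃ k ∈ H, k * x * k⁻¹ = y} ≤ 2 ^ j) :
    32 ∣ Nat.card (H ⊓ centralizer ({x} : Set G) : Subgroup G) := by
  have e := card_eq_class_mul H x
  rw [hH] at e
  set m := Nat.card {y : G // ∃ k ∈ H, k * x * k⁻¹ = y}
  obtain ⟨i, hi, hC⟩ := (Nat.dvd_prime_pow Nat.prime_two).1 (Dvd.intro_left m e.symm)
  rw [hC] at e ⊢
  by_contra hn
  have h5 : i < 5 := by
    by_contra h5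
    exact hn (pow_dvd_pow 2 (show 5 ≤ i by omega))
  have : 2 ^ (5 + j) < 2 ^ (5 + j) := by
    calc 2 ^ (5 + j) = m * 2 ^ i := e
      _ ≤ 2 ^ j * 2 ^ i := Nat.mul_le_mul_right _ hm
      _ < 2 ^ j * 2 ^ 5 := by gcongr; norm_num
      _ = 2 ^ (5 + j) := by rw [← pow_add, add_comm]
  exact absurd this (lt_irrefl _)

/-- In a two-group a large class has a small centralizer. -/
theorem not_dvd_of_class [Finite G] {H : Subgroup G} {x : G} {j : ℕ} (hH : Nat.card H = 2 ^ (5 + j))
    (hm : 2 ^ j < Nat.card {y : G // ∃ k ∈ H, k * x * k⁻¹ = y}) :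
    ¬ 32 ∣ Nat.card (H ⊓ centralizer ({x} : Set G) : Subgroup G) := by
  intro hd
  have e := card_eq_class_mul H x
  have h := Nat.le_of_dvd Nat.card_pos hd
  rw [hH] at e
  have : 2 ^ (5 + j) < 2 ^ (5 + j) := by
    calc 2 ^ (5 + j) = 2 ^ j * 32 := by rw [pow_add, mul_comm]; rfl
      _ < Nat.card {y : G // ∃ k ∈ H, k * x * k⁻¹ = y} * 32 := by
          exact Nat.mul_lt_mul_of_pos_right hm (by norm_num)
      _ ≤ Nat.card {y : G // ∃ k ∈ H, k * x * k⁻¹ = y} * _ := Nat.mul_le_mul_left _ h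
      _ = _ := e.symm
  exact absurd this (lt_irrefl _)

end CfsgLib.Characterizations.TwoTimesSymmetric.Count
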