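import Cfsg.Agent.Lib.Characterizations.TwoTimesSymmetric.Elem
import Cfsg.Agent.Lib.Characterizations.TwoTimesSymmetric.Ext

/-!
# Four central conjugates: marks, duality and the actions of `N(T)`
-/

set_option autoImplicit false
set_option linter.unusedSectionVars false
set_option linter.style.haveILetI false
set_option maxRecDepth 4000

namespace CfsgLib.Characterizations.TwoTimesSymmetric

open Subgroup CfsgLib.Characterizations.TwoTimesSymmetric.Count

theorem xor_assoc16 : ∀ a b c : Fin 16, a ^^^ b ^^^ c = a ^^^ (b ^^^ c) := by decide +kernel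

theorem xor_comm16 : ∀ a b : Fin 16, a ^^^ b = b ^^^ a := by decide +kernel

instance : Std.Associative (α := Fin 16) (· ^^^ ·) := ⟨xor_assoc16⟩

instance : Std.Commutative (α := Fin 16) (· ^^^ ·) := ⟨xor_comm16⟩

theorem app_xor (L : Act) (v w : Fin 16) : app L (v ^^^ w) = app L v ^^^ app L w := by
  have hb : ∀ (b c : Bool) (x : Fin 16),
      (bif xor b c then x else 0) = (bif b then x else 0) ^^^ (bif c then x else 0) := by
    decide +kernel
  unfold app
  rw [show (v ^^^ w).val.testBit 0 = _ from Frame.testBit_xor v w 0,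
    show (v ^^^ w).val.testBit 1 = _ from Frame.testBit_xor v w 1,
    show (v ^^^ w).val.testBit 2 = _ from Frame.testBit_xor v w 2,
    show (v ^^^ w).val.testBit 3 = _ from Frame.testBit_xor v w 3, hb, hb, hb, hb]
  simp only [show ((0 : Fin 4).val) = 0 from rfl, show ((1 : Fin 4).val) = 1 from rfl,
    show ((2 : Fin 4).val) = 2 from rfl, show ((3 : Fin 4).val) = 3 from rfl]
  ac_rfl

theorem app_zero (L : Act) : app L 0 = 0 := by
  simp +decide [app, Nat.testBit_eq_decide_div_mod_eq]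

theorem app_comp (L M : Act) (v : Fin 16) : app (comp L M) v = app L (app M v) := by
  have hc : ∀ (b : Bool) (x : Fin 16), app L (bif b then x else 0) = bif b then app L x else 0 := by
    intro b x; cases b
    · exact app_zero L
    · rfl
  show _ = app L ((bif v.val.testBit 0 then M.1 else 0) ^^^ (bif v.val.testBit 1 then M.2.1 else 0) ^^^
    (bif v.val.testBit 2 then M.2.2.1 else 0) ^^^ (bif v.val.testBit 3 then M.2.2.2 else 0))
  rw [app_xor, app_xor, app_xor, hc, hc, hc, hc]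
  rfl

theorem act_ext {L M : Act} (h : ∀ v, app L v = app M v) : L = M := by
  obtain ⟨p, q, r, s⟩ := app_basis L
  obtain ⟨p', q', r', s'⟩ := app_basis M
  exact Prod.ext (p ▸ p' ▸ h 1) (Prod.ext (q ▸ q' ▸ h 2) (Prod.ext (r ▸ r' ▸ h 4) (s ▸ s' ▸ h 8)))

theorem comp_assoc (L M N : Act) : comp (comp L M) N = comp L (comp M N) :=
  act_ext fun v => by simp only [app_comp]

theorem comp_idA (L : Act) : comp L idA = L := act_ext fun v => by rw [app_comp, app_idA]

theorem idA_comp (L : Act) : comp idA L = L := act_ext fun v => by rw [app_comp, app_idA]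

/-- The map `x ↦ x + (par x) v`. -/
def pure (v : Fin 16) : Act := ((1 : Fin 16) ^^^ v, (2 : Fin 16) ^^^ v, (4 : Fin 16) ^^^ v, (8 : Fin 16) ^^^ v)

theorem app_pure : ∀ v x, app (pure v) x = x ^^^ (bif par x then v else 0) := by decide +kernel

/-- The possible actions of the elements of `N(T)` moving `t` and normalising `E`. -/
def cands : List Act := [(14, 11, 13, 7), (14, 13, 11, 7), (8, 2, 4, 1), (8, 4, 2, 1), (8, 11, 13, 1),
  (8, 13, 11, 1), (7, 2, 4, 14), (7, 4, 2, 14), (7, 11, 13, 14), (7, 13, 11, 14)]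

/-- The words used for actions moving `t`. -/
def words4 : List (List (Fin 3)) :=
  [[0,1,0,0,0], [0,0,0,1,0], [0,1,2,0,1,0,1,0], [0,1,0,1,0,2,1,0]]

theorem cands_cases : ∀ p ∈ ZT, ∀ q : Fin 16, ∀ r ∈ ZT, par p = true → par q = true → par r = true →
    p ≠ 1 → r ≠ 8 → p ≠ r → p ^^^ r ≠ 6 → comp (p, q, q ^^^ 6, r) S = comp S (p, q, q ^^^ 6, r) →
    Escapes (p, q, q ^^^ 6, r) words4 ∨ (p, q, q ^^^ 6, r) ∈ cands := by decide +kernel

namespace Frame

variable {G : Type*} [Group G] {t : G} (f : Frame t)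

theorem th_es (p : Fin 16 × Bool) : f.th (f.es p) = toC2 (par p.1) := by
  obtain ⟨v, b⟩ := p
  cases b
  · rw [← es_e]; exact f.th_emb v
  · exact f.th_emb_s v

theorem th_t : f.th t = C2.one' := by
  have h := f.th_emb 1
  rw [emb_one] at h
  exact h.trans (by decide)

include f in
theorem not_mark_one : ¬ IsConj t (1 : G) := fun h => f.not_mk_zero (by
  show IsConj t (f.emb 0)
  rw [emb_zero]; exact h)

variable (hmk : ∀ v, f.Mk v ↔ par v = true)
include hmk

/-- Marks in the centralizer are the involutions with `θ` nontrivial. -/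
theorem mark_iff {x : G} (hx : x ∈ centralizer ({t} : Set G)) (hxx : x * x = 1) :
    IsConj t x ↔ f.th x = C2.one' := by
  obtain ⟨c, hc, v, -, e⟩ := f.invol_cases hx hxx
  have h1 : IsConj t x ↔ IsConj t (f.emb v) := by
    rw [← e]; exact ⟨isConj_conj, isConj_of_conj⟩
  rw [h1, ← f.th_conj hc x, e, th_emb]
  refine (hmk v).trans ⟨fun h => by rw [h]; rfl, fun h => toC2_inj _ true h⟩

/-- The product of a mark and a commuting involution is a mark exactly if the latter is not one. -/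
theorem mul_mark_iff {x w : G} (hx : IsConj t x) (hww : w * w = 1) (hxw : Commute x w) :
    IsConj t (x * w) ↔ ¬ IsConj t w := by
  obtain ⟨g, hg⟩ := isConj_iff.1 hx
  have hw : g⁻¹ * w * g ∈ centralizer ({t} : Set G) := mem_centralizer_singleton_iff.2 (by
    calc g⁻¹ * w * g * t = g⁻¹ * (w * (g * t * g⁻¹)) * g := by group
      _ = g⁻¹ * ((g * t * g⁻¹) * w) * g := by rw [hg, hxw.eq]
      _ = t * (g⁻¹ * w * g) := by group)
  have hw2 : g⁻¹ * w * g * (g⁻¹ * w * g) = 1 := by
    rw [show g⁻¹ * w * g * (g⁻¹ * w * g) = g⁻¹ * (w * w) * g by group, hww]; group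
  have hp2 : t * (g⁻¹ * w * g) * (t * (g⁻¹ * w * g)) = 1 := by
    rw [Commute.mul_mul_mul_comm (tcomm hw).symm, f.tt, hw2, one_mul]
  have e1 : IsConj t w ↔ IsConj t (g⁻¹ * w * g) := by
    conv_rhs => rw [show g⁻¹ * w * g = g⁻¹ * w * g⁻¹⁻¹ by group]
    exact ⟨isConj_conj, isConj_of_conj⟩
  have e2 : IsConj t (x * w) ↔ IsConj t (t * (g⁻¹ * w * g)) := by
    rw [show x * w = g * (t * (g⁻¹ * w * g)) * g⁻¹ by rw [← hg]; group]
    exact ⟨isConj_of_conj, isConj_conj⟩
  rw [e1, e2, f.mark_iff hmk hw hw2, f.mark_iff hmk (mul_mem f.t_mem hw) hp2, th,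
    val_mul' f.θ f.t_mem hw, show val f.θ t = C2.one' from f.th_t]
  simp only [th]
  rcases C2.cases (val f.θ (g⁻¹ * w * g)) with h | h <;> rw [h] <;> decide

/-- A commuting unmarked involution does not change marks. -/
theorem mul_unmarked {x w : G} (hww : w * w = 1) (hxw : Commute x w)
    (hw : ¬ IsConj t w) : IsConj t (x * w) ↔ IsConj t x := by
  refine ⟨fun h => ?_, fun h => (f.mul_mark_iff hmk h hww hxw).2 hw⟩
  have := (f.mul_mark_iff hmk h hww (hxw.mul_left (Commute.refl w))).2 hw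
  rwa [mul_assoc, hww, mul_one] at this

/-- Marks among the involutions of `T`. -/
theorem es_mark {p : Fin 16 × Bool} (hp : esm p p = (0, false)) :
    IsConj t (f.es p) ↔ par p.1 = true := by
  rw [f.mark_iff hmk (f.T_le (f.es_mem_T p)) (by rw [es_es, hp]; exact f.es_one.symm), th_es]
  exact ⟨fun h => toC2_inj _ true h, fun h => by rw [h]; rfl⟩

theorem dual_hmk : ∀ v, f.dual.Mk v ↔ par v = true := by
  refine f.dual.mk_of_ZT (fun v hv => ?_) (fun v => ?_)
  · rw [f.dual_Mk hv, hmk]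
    have : ∀ v ∈ ZT, par (φ v) = par v := by decide +kernel
    rw [this v hv]
  · have : ∀ v, par (app R v) = par v := by decide +kernel
    rw [this v]

omit hmk

theorem dual_es (v : Fin 16) (b : Bool) :
    f.dual.es (v, b) = f.es (esm (δ v) (bif b then (10, false) else (0, false))) := by
  show f.dual.emb v * pw f.dual.s b = _
  rw [dual_emb, dual_s, es_e, pw_es, es_es]

theorem dd_emb (v : Fin 16) : f.dual.dual.emb v = f.emb (app S v) := by
  rw [f.dual.dual_emb v, show δ v = ((δ v).1, (δ v).2) from rfl, dual_es, es_e]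
  congr 1
  revert v; decide +kernel

theorem dd_acts {g : G} {L : Act} :
    f.dual.dual.Acts g L ↔ f.Acts g (comp S (comp L S)) := by
  constructor
  · intro h v
    have := h (app S v)
    rw [dd_emb, dd_emb, app_S] at this
    rw [app_comp, app_comp]; exact this
  · intro h v
    rw [dd_emb, dd_emb, h (app S v), app_comp, app_comp, app_S]

theorem dd_Fx {g : G} : f.dual.dual.Fx g ↔ f.Fx g := by
  constructor <;> intro h v <;> obtain ⟨w, hw⟩ := h (app S v) <;> refine ⟨app S w, ?_⟩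
  · rwa [dd_emb, dd_emb, app_S] at hw
  · rw [dd_emb, dd_emb, app_S]; exact hw

variable [Finite G]

theorem mem_NT_of_maps {g : G} (h : ∀ x ∈ f.T, g * x * g⁻¹ ∈ f.T) : g ∈ f.NT := by
  refine f.mem_NT.2 fun x => ⟨h x, fun hx => ?_⟩
  have hbij : Function.Bijective (fun y : f.T => (⟨g * y * g⁻¹, h _ y.2⟩ : f.T)) :=
    Finite.injective_iff_bijective.1 fun a b e => Subtype.ext (by simpa using congrArg Subtype.val e)
  obtain ⟨y, hy⟩ := hbij.2 ⟨_, hx⟩
  have hy' : g * (y : G) * g⁻¹ = g * x * g⁻¹ := congrArg Subtype.val hy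
  rw [← mul_left_cancel (mul_right_cancel hy')]
  exact y.2

/-- An element inducing an action commuting with that of `s` normalises `T`. -/
theorem mem_NT_of_acts {g : G} {L : Act} (hL : f.Acts g L) (hc : comp L S = comp S L) : g ∈ f.NT := by
  obtain ⟨M, hM⟩ := hL.inv
  have hLM : comp L M = idA := (mul_inv_cancel g ▸ hL.mul hM : f.Acts 1 (comp L M)).eq f.acts_one
  have h1 := (hL.mul f.acts_s).mul hM
  rw [hc, comp_assoc, hLM, comp_idA] at h1
  obtain ⟨p, hp⟩ := f.eq_mul_of_acts h1 f.acts_s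
  refine f.mem_NT_of_maps ?_
  rintro _ ⟨v, rfl | rfl⟩
  · rw [hL v]; exact f.emb_mem_T _
  · rw [show g * (f.emb v * f.s) * g⁻¹ = g * f.emb v * g⁻¹ * (g * f.s * g⁻¹) by group, hL v, hp]
    exact mul_mem (f.emb_mem_T _) (mul_mem f.s_mem_T (f.emb_mem_T p))

/-- The image of `s` under an element of `N(T)` normalising `E`. -/
theorem Fx_s {g : G} (hg : g ∈ f.NT) {L : Act} (hL : f.Acts g L) :
    ∃ p ∈ ZT, g * f.s * g⁻¹ = f.es (p, true) := by
  obtain ⟨⟨p, b⟩, hp⟩ := f.mem_T_iff.1 (f.NT_maps hg _ f.s_mem_T)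
  cases b
  · exfalso
    obtain ⟨M, hM⟩ := hL.inv
    refine f.s_ne (app M p) ?_
    rw [← hM p, f.es_e p, ← hp]; group
  · refine ⟨p, ?_, hp⟩
    have h : f.es (p, true) * f.es (p, true) = 1 := by
      rw [← hp, show g * f.s * g⁻¹ * (g * f.s * g⁻¹) = g * (f.s * f.s) * g⁻¹ by group, f.ss]; group
    rw [es_es] at h
    have hd : ∀ w : Fin 16, esm (w, true) (w, true) = (0, false) → w ∈ ZT := by decide +kernel
    exact hd p (f.es_inj (h.trans f.es_one))

theorem Fx_dual {g : G} (hg : g ∈ f.NT) (hF : f.Fx g) : f.dual.Fx g := by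
  obtain ⟨L, hL⟩ := f.acts_of_norm hF
  obtain ⟨p, hp, hpe⟩ := f.Fx_s hg hL
  intro v
  obtain ⟨w, hw, hwe⟩ := f.NT_ZT hg (δ_E' v)
  have key : ∀ p ∈ ZT, ∀ w ∈ ZT, ∀ b : Bool,
      (esm (w, false) (bif b then (p, true) else (0, false))).1 ∈ ZT := by decide +kernel
  obtain ⟨u, hu⟩ := δ_surj (esm (w, false) (bif (δ v).2 then (p, true) else (0, false)))
    (key p hp w hw _)
  refine ⟨u, ?_⟩
  rw [dual_emb, dual_emb, hu, ← es_es, ← es_e, ← hwe, ← pw_es, ← hpe, es]
  cases (δ v).2 <;> simp [pw, mul_assoc]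

theorem Fx_dual_iff {g : G} (hg : g ∈ f.NT) : f.dual.Fx g ↔ f.Fx g :=
  ⟨fun h => f.dd_Fx.1 (f.dual.Fx_dual (f.dual_NT.symm ▸ hg) h), f.Fx_dual hg⟩

include hmk

/-- The actions of elements of `N(T)` moving `t` and normalising `E`. -/
theorem nt_act {g : G} {L : Act} (hg : g ∈ f.NT) (hL : f.Acts g L) (h1 : L.1 ≠ 1) : L ∈ cands := by
  obtain ⟨p, q, q', r⟩ := L
  obtain ⟨b1, b2, b3, b4⟩ := app_basis (p, q, q', r)
  have hmark : ∀ v, par v = true → par (app (p, q, q', r) v) = true := fun v hv => by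
    refine (hmk _).1 ?_
    show IsConj t _
    rw [← hL v]
    exact isConj_conj ((hmk v).2 hv)
  obtain ⟨p', hp', hpe⟩ := f.NT_ZT hg (v := 1) (by decide)
  obtain ⟨r', hr', hre⟩ := f.NT_ZT hg (v := 8) (by decide)
  have ep : p = p' := b1.symm.trans (f.emb_inj ((hL 1).symm.trans hpe))
  have er : r = r' := b4.symm.trans (f.emb_inj ((hL 8).symm.trans hre))
  have hq : q' = q ^^^ 6 := by
    have h6 : g * f.emb 6 * g⁻¹ = f.emb 6 := f.NT_six hg
    rw [hL 6, show (6 : Fin 16) = 2 ^^^ 4 from rfl, app_xor, b2, b3] at h6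
    have hd : ∀ a b : Fin 16, a ^^^ b = 2 ^^^ 4 → b = a ^^^ 6 := by decide +kernel
    exact hd _ _ (f.emb_inj h6)
  subst hq
  have hpq := hmark 1 (by decide)
  have hqq := hmark 2 (by decide)
  have hrr := hmark 8 (by decide)
  rw [b1] at hpq; rw [b2] at hqq; rw [b4] at hrr
  have hr8 : r ≠ 8 := fun e => by
    have hT := f.NT_fix hg (v := 8) (by decide) ((hmk 8).2 (by decide)) (by
      rw [hL 8, b4]; exact congrArg f.emb e)
    refine h1 (f.emb_inj ?_)
    have := hL 1
    rw [b1, emb_one, conj_t (f.T_le hT)] at this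
    exact this.symm.trans f.emb_one.symm
  have hne : p ≠ r := fun e => absurd (hL.injective (v := 1) (w := 8) (by rw [b1, b4]; exact e))
    (by decide)
  have hne6 : p ^^^ r ≠ 6 := fun e => by
    refine absurd (hL.injective (v := 9) (w := 6) ?_) (by decide)
    refine (app_xor _ 1 8).trans (Eq.trans ?_ (app_xor _ 2 4).symm)
    rw [b1, b2, b3, b4]
    have hd : ∀ a c d : Fin 16, a ^^^ c = 6 → a ^^^ c = d ^^^ (d ^^^ 6) := by decide +kernel
    exact hd _ _ _ e
  exact (cands_cases p (ep ▸ hp') q r (er ▸ hr') hpq hqq hrr h1 hr8 hne hne6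
    (f.acts_comm hg hL)).resolve_left (f.not_escapes hL _)

end Frame

end CfsgLib.Characterizations.TwoTimesSymmetric
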