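import Cfsg.Agent.Lib.Characterizations.TwoTimesSymmetric.Count

/-!
# Frames in a centralizer isomorphic to `Z₂ × S₆` or `Z₂ × S₇`
-/

set_option autoImplicit false
set_option linter.unusedSectionVars false
set_option linter.style.haveILetI false

namespace CfsgLib.Characterizations.TwoTimesSymmetric

open Subgroup

/-- The group of order two. -/
abbrev C2 := Multiplicative (ZMod 2)

/-- The nontrivial element of the group of order two. -/
def C2.one' : C2 := Multiplicative.ofAdd 1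

theorem C2.cases : ∀ a : C2, a = 1 ∨ a = C2.one' := by decide

theorem C2.ne_one : C2.one' ≠ 1 := by decide

theorem C2.sq : C2.one' * C2.one' = 1 := by decide

theorem C2.eq_of_ne : ∀ {a : C2}, a ≠ 1 → a = C2.one' := fun {a} h => (C2.cases a).resolve_left h

/-- A Boolean power. -/
def pw {G : Type*} [One G] (x : G) (b : Bool) : G := bif b then x else 1

theorem pw_xor {G : Type*} [Group G] {x : G} (h : x * x = 1) :
    ∀ b c : Bool, pw x (xor b c) = pw x b * pw x c
  | true, true => h.symm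
  | true, false => (mul_one x).symm
  | false, true => (one_mul x).symm
  | false, false => (one_mul 1).symm

theorem pw_comm {G : Type*} [Group G] {x y : G} (h : Commute x y) :
    ∀ b c : Bool, Commute (pw x b) (pw y c)
  | true, true => h
  | true, false => Commute.one_right x
  | false, true => Commute.one_left y
  | false, false => Commute.one_left 1

/-- Two pairs of transpositions `a₁`, `a₂`, `a₃` and `b₁ = s a₃`, `b₂ = s a₁ a₂ a₃`, `b₃ = a₁ a₂ a₃`
in the centralizer of `t`, with the properties of `Z₂ × S₆` and `Z₂ × S₇` used in the proof. -/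
structure Frame {G : Type*} [Group G] (t : G) where
  /-- The first generator. -/
  a1 : G
  /-- The second generator. -/
  a2 : G
  /-- The third generator. -/
  a3 : G
  /-- The element exchanging `a₁` and `a₂`. -/
  s : G
  /-- The element permuting `a₁, a₂, a₃`. -/
  X : G
  /-- The element permuting `b₁, b₂, b₃`. -/
  X' : G
  tt : t * t = 1
  a1_mem : a1 ∈ centralizer ({t} : Set G)
  a2_mem : a2 ∈ centralizer ({t} : Set G)
  a3_mem : a3 ∈ centralizer ({t} : Set G)
  s_mem : s ∈ centralizer ({t} : Set G)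
  X_mem : X ∈ centralizer ({t} : Set G)
  X'_mem : X' ∈ centralizer ({t} : Set G)
  sq1 : a1 * a1 = 1
  sq2 : a2 * a2 = 1
  sq3 : a3 * a3 = 1
  c12 : Commute a1 a2
  c13 : Commute a1 a3
  c23 : Commute a2 a3
  ss : s * s = 1
  s1 : s * a1 * s = a2
  s3 : Commute s a3
  X3 : X ^ 3 = 1
  X1 : X * a1 * X⁻¹ = a2
  X2 : X * a2 * X⁻¹ = a3
  X'3 : X' ^ 3 = 1
  X'1 : X' * (s * a3) * X'⁻¹ = s * a1 * a2 * a3
  X'2 : X' * (s * a1 * a2 * a3) * X'⁻¹ = a1 * a2 * a3
  /-- A homomorphism nontrivial at `t` and `a₁`. -/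
  θ : ↥(centralizer ({t} : Set G)) →* C2
  /-- A homomorphism trivial at `t` and nontrivial at `a₁`. -/
  ψ : ↥(centralizer ({t} : Set G)) →* C2
  θt : θ ⟨t, mem_centralizer_singleton_iff.2 rfl⟩ = C2.one'
  θ1 : θ ⟨a1, a1_mem⟩ = C2.one'
  θs : θ ⟨s, s_mem⟩ = 1
  ψt : ψ ⟨t, mem_centralizer_singleton_iff.2 rfl⟩ = 1
  ψ1 : ψ ⟨a1, a1_mem⟩ = C2.one'
  ψs : ψ ⟨s, s_mem⟩ = 1
  inj : ∀ b0 b1 b2 b3 : Bool, pw t b0 * pw a1 b1 * pw a2 b2 * pw a3 b3 = 1 →
    b0 = false ∧ b1 = false ∧ b2 = false ∧ b3 = false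
  sep : ∀ g ∈ centralizer ({t} : Set G), g * a3 * g⁻¹ ≠ a1 * a2 * a3
  centE : ∀ g ∈ centralizer ({t} : Set G), Commute g a1 → Commute g a2 → Commute g a3 →
    ∃ b0 b1 b2 b3 : Bool, g = pw t b0 * pw a1 b1 * pw a2 b2 * pw a3 b3
  centE' : ∀ g ∈ centralizer ({t} : Set G), Commute g (s * a3) → Commute g (s * a1 * a2 * a3) →
    Commute g (a1 * a2 * a3) →
    ∃ b0 b1 b2 b3 : Bool, g = pw t b0 * pw (s * a3) b1 * pw (s * a1 * a2 * a3) b2 *
      pw (a1 * a2 * a3) b3
  invol : ∀ x ∈ centralizer ({t} : Set G), x * x = 1 → ∃ c ∈ centralizer ({t} : Set G),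
    ∃ b0 b1 b3 : Bool, c * x * c⁻¹ = pw t b0 * pw (a1 * a2) b1 * pw a3 b3
  card32 : 32 ∣ Nat.card (centralizer ({t} : Set G))
  card64 : ¬ 64 ∣ Nat.card (centralizer ({t} : Set G))
  clsz : Nat.card {x : G // ∃ c ∈ centralizer ({t} : Set G), c * (a1 * a2) * c⁻¹ = x} % 4 = 1

namespace Frame

variable {G : Type*} [Group G] {t : G} (f : Frame t)

theorem tcomm {g : G} (h : g ∈ centralizer ({t} : Set G)) : Commute t g :=
  (mem_centralizer_singleton_iff.1 h).symm

theorem t_mem (_f : Frame t) : t ∈ centralizer ({t} : Set G) := mem_centralizer_singleton_iff.2 rfl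

theorem s_inv : f.s⁻¹ = f.s := inv_eq_of_mul_eq_one_right f.ss

theorem s2 : f.s * f.a2 * f.s = f.a1 := by
  rw [← f.s1, show f.s * (f.s * f.a1 * f.s) * f.s = (f.s * f.s) * f.a1 * (f.s * f.s) by group, f.ss,
    one_mul, mul_one]

theorem X_inv : f.X⁻¹ = f.X * f.X := inv_eq_of_mul_eq_one_right (by rw [← f.X3, pow_three])

theorem X3c : f.X * f.a3 * f.X⁻¹ = f.a1 := by
  rw [← f.X2, ← f.X1]
  calc f.X * (f.X * (f.X * f.a1 * f.X⁻¹) * f.X⁻¹) * f.X⁻¹ = f.X ^ 3 * f.a1 * (f.X ^ 3)⁻¹ := by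
        rw [pow_three]; group
    _ = f.a1 := by rw [f.X3, one_mul, inv_one, mul_one]

/-- The element of `E` with given coordinates. -/
def emb (v : Fin 16) : G :=
  pw t (v.val.testBit 0) * pw f.a1 (v.val.testBit 1) * pw f.a2 (v.val.testBit 2) *
    pw f.a3 (v.val.testBit 3)

theorem testBit_xor (v w : Fin 16) (k : Fin 4) :
    (v ^^^ w).val.testBit k.val = xor (v.val.testBit k.val) (w.val.testBit k.val) := by
  revert v w k; decide +kernel

theorem emb_mul (v w : Fin 16) : f.emb (v ^^^ w) = f.emb v * f.emb w := by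
  unfold emb
  rw [show (v ^^^ w).val.testBit 0 = _ from testBit_xor v w 0,
    show (v ^^^ w).val.testBit 1 = _ from testBit_xor v w 1,
    show (v ^^^ w).val.testBit 2 = _ from testBit_xor v w 2,
    show (v ^^^ w).val.testBit 3 = _ from testBit_xor v w 3,
    pw_xor f.tt, pw_xor f.sq1, pw_xor f.sq2, pw_xor f.sq3]
  simp only [show ((0 : Fin 4).val) = 0 from rfl, show ((1 : Fin 4).val) = 1 from rfl,
    show ((2 : Fin 4).val) = 2 from rfl, show ((3 : Fin 4).val) = 3 from rfl]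
  generalize v.val.testBit 0 = p0
  generalize v.val.testBit 1 = p1
  generalize v.val.testBit 2 = p2
  generalize v.val.testBit 3 = p3
  generalize w.val.testBit 0 = q0
  generalize w.val.testBit 1 = q1
  generalize w.val.testBit 2 = q2
  generalize w.val.testBit 3 = q3
  have h01 := pw_comm (tcomm f.a1_mem) q0 p1
  have h02 := pw_comm (tcomm f.a2_mem) q0 p2
  have h03 := pw_comm (tcomm f.a3_mem) q0 p3
  have h12 := pw_comm f.c12 q1 p2
  have h13 := pw_comm f.c13 q1 p3
  have h23 := pw_comm f.c23 q2 p3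
  rw [Commute.mul_mul_mul_comm h01, Commute.mul_mul_mul_comm (h02.mul_left h12),
    Commute.mul_mul_mul_comm ((h03.mul_left h13).mul_left h23)]

theorem emb_zero : f.emb 0 = 1 := by simp +decide [emb, pw, Nat.testBit_eq_decide_div_mod_eq]

theorem emb_one : f.emb 1 = t := by simp +decide [emb, pw, Nat.testBit_eq_decide_div_mod_eq]

theorem emb_a1 : f.emb 2 = f.a1 := by simp +decide [emb, pw, Nat.testBit_eq_decide_div_mod_eq]

theorem emb_a2 : f.emb 4 = f.a2 := by simp +decide [emb, pw, Nat.testBit_eq_decide_div_mod_eq]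

theorem emb_a3 : f.emb 8 = f.a3 := by simp +decide [emb, pw, Nat.testBit_eq_decide_div_mod_eq]

theorem emb_z : f.emb 6 = f.a1 * f.a2 := by
  rw [show (6 : Fin 16) = 2 ^^^ 4 from rfl, emb_mul, emb_a1, emb_a2]

theorem emb_b3 : f.emb 14 = f.a1 * f.a2 * f.a3 := by
  rw [show (14 : Fin 16) = 6 ^^^ 8 from rfl, emb_mul, emb_z, emb_a3]

theorem emb_sq (v : Fin 16) : f.emb v * f.emb v = 1 := by
  rw [← emb_mul, show v ^^^ v = 0 by revert v; decide +kernel, emb_zero]

theorem emb_inv (v : Fin 16) : (f.emb v)⁻¹ = f.emb v := inv_eq_of_mul_eq_one_right (f.emb_sq v)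

theorem emb_comm (v w : Fin 16) : Commute (f.emb v) (f.emb w) := by
  show _ = _
  rw [← emb_mul, ← emb_mul, show v ^^^ w = w ^^^ v by revert v w; decide +kernel]

theorem emb_mem_C (v : Fin 16) : f.emb v ∈ centralizer ({t} : Set G) := by
  have h : ∀ (x : G) (b : Bool), x ∈ centralizer ({t} : Set G) → pw x b ∈ centralizer ({t} : Set G) :=
    fun x b hx => by cases b; exacts [one_mem _, hx]
  exact mul_mem (mul_mem (mul_mem (h _ _ f.t_mem) (h _ _ f.a1_mem)) (h _ _ f.a2_mem)) (h _ _ f.a3_mem)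

/-- The four coordinates as an element of `Fin 16`. -/
def ofBits (b0 b1 b2 b3 : Bool) : Fin 16 :=
  (bif b0 then 1 else 0) ^^^ (bif b1 then 2 else 0) ^^^ (bif b2 then 4 else 0) ^^^ (bif b3 then 8 else 0)

theorem emb_ofBits (b0 b1 b2 b3 : Bool) :
    f.emb (ofBits b0 b1 b2 b3) = pw t b0 * pw f.a1 b1 * pw f.a2 b2 * pw f.a3 b3 := by
  cases b0 <;> cases b1 <;> cases b2 <;> cases b3 <;>
    simp +decide [ofBits, emb, pw, Nat.testBit_eq_decide_div_mod_eq]

end Frame

end CfsgLib.Characterizations.TwoTimesSymmetric
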