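import Cfsg.Agent.Lib.Characterizations.TwoTimesSymmetric.Acts

/-!
# Dual and twisted frames, fusion of involutions
-/

set_option autoImplicit false
set_option linter.unusedSectionVars false
set_option linter.style.haveILetI false
set_option maxRecDepth 4000

namespace CfsgLib.Characterizations.TwoTimesSymmetric

open Subgroup CfsgLib.Characterizations.TwoTimesSymmetric.Count

namespace Frame

variable {G : Type*} [Group G] {t : G} (f : Frame t)

theorem s_emb (v : Fin 16) : f.s * f.emb v = f.emb (app S v) * f.s := by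
  rw [← f.acts_s v, inv_mul_cancel_right]

theorem es_mul (v w : Fin 16) : f.emb v * f.s * (f.emb w * f.s) = f.emb (v ^^^ app S w) := by
  rw [emb_mul, ← f.acts_s w, f.s_inv]; group

theorem es_mul' (v w : Fin 16) : f.emb v * f.s * f.emb w = f.emb (v ^^^ app S w) * f.s := by
  rw [emb_mul, mul_assoc, s_emb, mul_assoc]

theorem th_emb_s (v : Fin 16) : f.th (f.emb v * f.s) = toC2 (par v) := by
  rw [th, val_mul' f.θ (f.emb_mem_C v) f.s_mem, show val f.θ f.s = 1 from f.th_s, mul_one]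
  exact f.th_emb v

theorem ps_emb_s (v : Fin 16) : f.ps (f.emb v * f.s) = toC2 (par' v) := by
  rw [ps, val_mul' f.ψ (f.emb_mem_C v) f.s_mem, show val f.ψ f.s = 1 from f.ps_s, mul_one]
  exact f.ps_emb v

theorem b1_emb : f.s * f.a3 = f.emb 8 * f.s := f.b1_eq

theorem b2_emb : f.s * f.a1 * f.a2 * f.a3 = f.emb 14 * f.s := by
  rw [mul_assoc f.s f.a1, mul_assoc f.s, ← emb_b3, s_emb, show app S 14 = 14 by decide +kernel]

theorem t_mul (v : Fin 16) : t * f.emb v = f.emb (1 ^^^ v) := by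
  rw [emb_mul]; exact congrArg (· * f.emb v) f.emb_one.symm

theorem pw_t (b : Bool) : pw t b = f.emb (bif b then 1 else 0) := by
  cases b
  · exact f.emb_zero.symm
  · exact f.emb_one.symm

theorem ta1 : t * f.a1 = f.emb 3 := by rw [← emb_a1, t_mul]; rfl

theorem ta2 : t * f.a2 = f.emb 5 := by rw [← emb_a2, t_mul]; rfl

theorem ta3 : t * f.a3 = f.emb 9 := by rw [← emb_a3, t_mul]; rfl

/-- The element of `T` with given coordinates. -/
def es (p : Fin 16 × Bool) : G := f.emb p.1 * pw f.s p.2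

/-- The multiplication of the coordinates of elements of `T`. -/
def esm (p q : Fin 16 × Bool) : Fin 16 × Bool :=
  (p.1 ^^^ (bif p.2 then app S q.1 else q.1), xor p.2 q.2)

theorem es_es (p q : Fin 16 × Bool) : f.es p * f.es q = f.es (esm p q) := by
  obtain ⟨v, b⟩ := p
  obtain ⟨w, c⟩ := q
  unfold es esm
  rw [pw_xor f.ss]
  cases b
  · simp only [pw, cond_false, mul_one, one_mul, emb_mul, mul_assoc]
  · simp only [pw, cond_true]
    rw [← mul_assoc, es_mul', mul_assoc]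

theorem es_mem_T (p : Fin 16 × Bool) : f.es p ∈ f.T := by
  obtain ⟨v, b⟩ := p
  cases b
  · exact ⟨v, Or.inl (mul_one _)⟩
  · exact ⟨v, Or.inr rfl⟩

theorem es_inj {p q : Fin 16 × Bool} (h : f.es p = f.es q) : p = q := by
  obtain ⟨v, b⟩ := p
  obtain ⟨w, c⟩ := q
  simp only [es] at h
  cases b <;> cases c <;> simp only [pw, cond_true, cond_false, mul_one] at h
  · rw [f.emb_inj h]
  · refine absurd ?_ (f.s_ne (w ^^^ v))
    rw [emb_mul, h, ← mul_assoc, emb_sq, one_mul]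
  · refine absurd ?_ (f.s_ne (v ^^^ w))
    rw [emb_mul, ← h, ← mul_assoc, emb_sq, one_mul]
  · rw [f.emb_inj (mul_right_cancel h)]

theorem es_e (v : Fin 16) : f.emb v = f.es (v, false) := (mul_one _).symm

theorem es_one : (1 : G) = f.es (0, false) := f.emb_zero.symm.trans (f.es_e 0)

theorem pw_es (p : Fin 16 × Bool) (b : Bool) :
    pw (f.es p) b = f.es (bif b then p else (0, false)) := by
  cases b
  · exact f.es_one
  · rfl

theorem es_t : t = f.es (1, false) := f.emb_one.symm.trans (f.es_e 1)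

theorem es_a1 : f.a1 = f.es (2, false) := f.emb_a1.symm.trans (f.es_e 2)

theorem es_a2 : f.a2 = f.es (4, false) := f.emb_a2.symm.trans (f.es_e 4)

theorem es_a3 : f.a3 = f.es (8, false) := f.emb_a3.symm.trans (f.es_e 8)

theorem es_b1 : f.s * f.a3 = f.es (8, true) := f.b1_emb

theorem es_b2 : f.s * f.a1 * f.a2 * f.a3 = f.es (14, true) := f.b2_emb

theorem es_b3 : f.a1 * f.a2 * f.a3 = f.es (14, false) := f.emb_b3.symm.trans (f.es_e 14)

theorem t_es (p : Fin 16 × Bool) : t * f.es p = f.es ((1 : Fin 16) ^^^ p.1, p.2) := by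
  rw [es, ← mul_assoc, t_mul]; rfl

theorem es_s : f.s = f.es (0, true) := by simp [es, pw, emb_zero]

theorem tw2 : f.s * (t * f.a1) * (t * f.a2) * (t * f.a3) = t * (f.s * f.a1 * f.a2 * f.a3) := by
  rw [f.ta1, f.ta2, f.ta3, f.b2_emb, ← mul_assoc t, t_mul]
  show f.s * _ * _ * _ = _
  rw [f.es_e 3, f.es_e 5, f.es_e 9, f.es_e ((1 : Fin 16) ^^^ 14), f.es_s, es_es, es_es, es_es, es_es]
  rfl

theorem tw3 : t * f.a1 * (t * f.a2) * (t * f.a3) = t * (f.a1 * f.a2 * f.a3) := by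
  rw [f.ta1, f.ta2, f.ta3, ← emb_b3, ← emb_mul, ← emb_mul, t_mul]
  rfl

theorem conj_t {g : G} (hg : g ∈ centralizer ({t} : Set G)) : g * t * g⁻¹ = t := by
  rw [← (tcomm hg).eq, mul_inv_cancel_right]

/-- The dual frame. -/
def dual : Frame t where
  a1 := f.s * f.a3
  a2 := f.s * f.a1 * f.a2 * f.a3
  a3 := f.a1 * f.a2 * f.a3
  s := f.a1 * f.a3
  X := f.X'
  X' := f.X⁻¹
  tt := f.tt
  a1_mem := mul_mem f.s_mem f.a3_mem
  a2_mem := mul_mem (mul_mem (mul_mem f.s_mem f.a1_mem) f.a2_mem) f.a3_mem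
  a3_mem := mul_mem (mul_mem f.a1_mem f.a2_mem) f.a3_mem
  s_mem := mul_mem f.a1_mem f.a3_mem
  X_mem := f.X'_mem
  X'_mem := inv_mem f.X_mem
  sq1 := by rw [b1_emb, es_mul, show (8 : Fin 16) ^^^ app S 8 = 0 by decide +kernel, emb_zero]
  sq2 := by rw [b2_emb, es_mul, show (14 : Fin 16) ^^^ app S 14 = 0 by decide +kernel, emb_zero]
  sq3 := by rw [← emb_b3, emb_sq]
  c12 := by
    show _ = _
    rw [b1_emb, b2_emb, es_mul, es_mul,
      show (8 : Fin 16) ^^^ app S 14 = 14 ^^^ app S 8 by decide +kernel]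
  c13 := by
    show _ = _
    rw [b1_emb, ← emb_b3, es_mul', ← mul_assoc, ← emb_mul,
      show (8 : Fin 16) ^^^ app S 14 = 14 ^^^ 8 by decide +kernel]
  c23 := by
    show _ = _
    rw [b2_emb, ← emb_b3, es_mul', ← mul_assoc, ← emb_mul,
      show (14 : Fin 16) ^^^ app S 14 = 14 ^^^ 14 by decide +kernel]
  ss := by
    rw [← emb_a1, ← emb_a3, ← emb_mul, emb_sq]
  s1 := by
    rw [← emb_a1, ← emb_a3, ← emb_mul, show f.s * f.emb 8 = f.emb 8 * f.s by
      rw [s_emb, show app S 8 = 8 by decide +kernel]]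
    rw [← mul_assoc (f.emb _) (f.emb 8), ← emb_mul, es_mul', emb_a1, emb_a3, b2_emb,
      show ((2 : Fin 16) ^^^ 8 ^^^ 8) ^^^ app S (2 ^^^ 8) = 14 by decide +kernel]
  s3 := by
    show _ = _
    rw [← emb_a1, ← emb_a2, ← emb_a3, ← emb_mul, ← emb_mul, ← emb_mul]
    exact f.emb_comm _ _
  X3 := f.X'3
  X1 := f.X'1
  X2 := f.X'2
  X'3 := by rw [inv_pow, f.X3, inv_one]
  X'1 := by
    rw [inv_inv, b1_emb, b2_emb, ← emb_b3, ← emb_a1, ← emb_a3, ← emb_mul, ← emb_mul,
      ← mul_assoc (f.emb _) (f.emb 8), ← emb_mul, es_mul, ← emb_mul,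
      show ((2 : Fin 16) ^^^ 8 ^^^ 8 ^^^ app S 14) ^^^ 14 = 2 by decide +kernel,
      show (2 : Fin 16) ^^^ 8 ^^^ 14 = 4 by decide +kernel, emb_a1, emb_a2, ← f.X1]
    group
  X'2 := by
    rw [inv_inv, b1_emb, b2_emb, ← emb_b3, ← emb_a1, ← emb_a3, ← emb_mul,
      ← mul_assoc (f.emb _) (f.emb 8), ← emb_mul, es_mul, ← emb_mul, es_mul, ← emb_mul,
      show ((8 : Fin 16) ^^^ app S 14) ^^^ 14 = 8 by decide +kernel,
      show ((2 : Fin 16) ^^^ 8 ^^^ 8 ^^^ app S 14) ^^^ 14 = 2 by decide +kernel, emb_a1, emb_a3,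
      ← f.X3c]
    group
  θ := f.θ
  ψ := f.ψ
  θt := f.θt
  θ1 := by
    rw [← val_of_mem f.θ]
    show f.th (f.s * f.a3) = _
    rw [b1_emb, th_emb_s]; rfl
  θs := by
    rw [← val_of_mem f.θ]
    show f.th (f.a1 * f.a3) = _
    rw [← emb_a1, ← emb_a3, ← emb_mul, th_emb]; rfl
  ψt := f.ψt
  ψ1 := by
    rw [← val_of_mem f.ψ]
    show f.ps (f.s * f.a3) = _
    rw [b1_emb, ps_emb_s]; rfl
  ψs := by
    rw [← val_of_mem f.ψ]
    show f.ps (f.a1 * f.a3) = _
    rw [← emb_a1, ← emb_a3, ← emb_mul, ps_emb]; rfl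
  inj := by
    intro b0 b1 b2 b3 h
    rw [es_b1, es_b2, es_b3, show pw t b0 = f.es (bif b0 then (1, false) else (0, false)) by
      cases b0; exacts [f.es_one, f.es_t], pw_es, pw_es, pw_es, es_es, es_es, es_es] at h
    have h2 := f.es_inj (h.trans f.es_one)
    revert h2
    cases b0 <;> cases b1 <;> cases b2 <;> cases b3 <;> decide +kernel
  sep := by
    intro g hg h
    rw [b1_emb, b2_emb, ← emb_b3, es_mul, ← emb_mul,
      show ((8 : Fin 16) ^^^ app S 14) ^^^ 14 = 8 by decide +kernel, emb_b3, emb_a3] at h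
    refine f.sep g⁻¹ (inv_mem hg) ?_
    calc g⁻¹ * f.a3 * g⁻¹⁻¹ = g⁻¹ * (g * (f.a1 * f.a2 * f.a3) * g⁻¹) * g⁻¹⁻¹ := by rw [h]
      _ = f.a1 * f.a2 * f.a3 := by group
  centE := f.centE'
  centE' := by
    intro g hg h1 h2 h3
    have e1 : f.a1 * f.a3 * (f.a1 * f.a2 * f.a3) = f.a2 := by
      rw [← emb_b3, ← emb_a1, ← emb_a3, ← emb_mul, ← emb_mul,
        show (2 : Fin 16) ^^^ 8 ^^^ 14 = 4 by decide +kernel, emb_a2]
    have e2 : f.a1 * f.a3 * (f.s * f.a3) * (f.s * f.a1 * f.a2 * f.a3) * (f.a1 * f.a2 * f.a3) = f.a1 := by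
      rw [b1_emb, b2_emb, ← emb_b3, ← emb_a1, ← emb_a3, ← emb_mul, ← mul_assoc (f.emb _) (f.emb 8),
        ← emb_mul, es_mul, ← emb_mul,
        show ((2 : Fin 16) ^^^ 8 ^^^ 8 ^^^ app S 14) ^^^ 14 = 2 by decide +kernel]
    have e3 : f.s * f.a3 * (f.s * f.a1 * f.a2 * f.a3) * (f.a1 * f.a2 * f.a3) = f.a3 := by
      rw [b1_emb, b2_emb, ← emb_b3, es_mul, ← emb_mul,
        show ((8 : Fin 16) ^^^ app S 14) ^^^ 14 = 8 by decide +kernel, emb_a3]
    rw [e1] at h1; rw [e2] at h2; rw [e3] at h3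
    obtain ⟨b0, b1, b2, b3, rfl⟩ := f.centE g hg h2 h1 h3
    refine ⟨b0, b2, b1, b3, ?_⟩
    rw [e1, e2, e3, mul_assoc (pw t b0), mul_assoc (pw t b0), (pw_comm f.c12 b1 b2).eq]
    group
  invol := by
    intro x hx hxx
    obtain ⟨c, hc, b0, b1, b3, h⟩ := f.invol x hx hxx
    refine ⟨c, hc, b0, xor b1 b3, b3, h.trans ?_⟩
    rw [b1_emb, b2_emb, es_mul, ← emb_b3, show (8 : Fin 16) ^^^ app S 14 = 6 by decide +kernel]
    rw [← emb_z, ← emb_a3, f.pw_t, ← emb_pw, ← emb_pw, ← emb_pw, ← emb_pw,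
      ← emb_mul, ← emb_mul, ← emb_mul, ← emb_mul]
    congr 1
    revert b0 b1 b3
    intro b0 b1 b3 _
    cases b0 <;> cases b1 <;> cases b3 <;> decide +kernel
  card32 := f.card32
  card64 := f.card64
  clsz := by
    rw [b1_emb, b2_emb, es_mul, show (8 : Fin 16) ^^^ app S 14 = 6 by decide +kernel, emb_z]
    exact f.clsz

/-- The frame twisted by `t`. -/
def twist : Frame t where
  a1 := t * f.a1
  a2 := t * f.a2
  a3 := t * f.a3
  s := f.s
  X := f.X
  X' := f.X'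
  tt := f.tt
  a1_mem := mul_mem f.t_mem f.a1_mem
  a2_mem := mul_mem f.t_mem f.a2_mem
  a3_mem := mul_mem f.t_mem f.a3_mem
  s_mem := f.s_mem
  X_mem := f.X_mem
  X'_mem := f.X'_mem
  sq1 := by rw [f.ta1, emb_sq]
  sq2 := by rw [f.ta2, emb_sq]
  sq3 := by rw [f.ta3, emb_sq]
  c12 := by rw [f.ta1, f.ta2]; exact f.emb_comm _ _
  c13 := by rw [f.ta1, f.ta3]; exact f.emb_comm _ _
  c23 := by rw [f.ta2, f.ta3]; exact f.emb_comm _ _
  ss := f.ss
  s1 := by rw [← mul_assoc, ← (tcomm f.s_mem).eq, mul_assoc t, mul_assoc t, f.s1]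
  s3 := ((tcomm f.s_mem).symm.mul_right f.s3)
  X3 := f.X3
  X1 := by rw [← mul_assoc, ← (tcomm f.X_mem).eq, mul_assoc t, mul_assoc t, f.X1]
  X2 := by rw [← mul_assoc, ← (tcomm f.X_mem).eq, mul_assoc t, mul_assoc t, f.X2]
  X'3 := f.X'3
  X'1 := by
    have h : ∀ x : G, f.X' * (t * x) * f.X'⁻¹ = t * (f.X' * x * f.X'⁻¹) := fun x => by
      rw [← mul_assoc f.X', ← (tcomm f.X'_mem).eq]; group
    have e1 : f.s * (t * f.a3) = t * (f.s * f.a3) := by
      rw [← mul_assoc, ← (tcomm f.s_mem).eq, mul_assoc]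
    have e2 := f.tw2
    rw [e1, e2, h, f.X'1]
  X'2 := by
    have h : ∀ x : G, f.X' * (t * x) * f.X'⁻¹ = t * (f.X' * x * f.X'⁻¹) := fun x => by
      rw [← mul_assoc f.X', ← (tcomm f.X'_mem).eq]; group
    have e2 := f.tw2
    rw [e2, h, f.X'2, f.tw3]
  θ := f.θ * f.ψ
  ψ := f.ψ
  θt := by rw [MonoidHom.mul_apply, f.θt, f.ψt, mul_one]
  θ1 := by
    rw [MonoidHom.mul_apply, ← val_of_mem f.θ, ← val_of_mem f.ψ]
    show f.th (t * f.a1) * f.ps (t * f.a1) = _
    rw [f.ta1, th_emb, ps_emb]; rfl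
  θs := by rw [MonoidHom.mul_apply, f.θs, f.ψs, mul_one]
  ψt := f.ψt
  ψ1 := by
    rw [← val_of_mem f.ψ]
    show f.ps (t * f.a1) = _
    rw [f.ta1, ps_emb]; rfl
  ψs := f.ψs
  inj := by
    intro b0 b1 b2 b3 h
    rw [f.ta1, f.ta2, f.ta3, f.pw_t, ← emb_pw, ← emb_pw, ← emb_pw, ← emb_mul, ← emb_mul,
      ← emb_mul] at h
    have := f.emb_inj (h.trans f.emb_zero.symm)
    revert b0 b1 b2 b3
    intro b0 b1 b2 b3 _ h2
    revert h2
    cases b0 <;> cases b1 <;> cases b2 <;> cases b3 <;> decide +kernel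
  sep := by
    intro g hg h
    refine f.sep g hg (mul_left_cancel (a := t) ?_)
    calc t * (g * f.a3 * g⁻¹) = g * (t * f.a3) * g⁻¹ := by
          rw [← mul_assoc g, ← (tcomm hg).eq]; group
      _ = _ := h
      _ = t * (f.a1 * f.a2 * f.a3) := f.tw3
  centE := by
    intro g hg h1 h2 h3
    have hi : ∀ x : G, Commute g (t * x) → Commute g x := fun x h => by
      have := (tcomm hg).symm.mul_right h
      rwa [← mul_assoc, f.tt, one_mul] at this
    obtain ⟨b0, b1, b2, b3, rfl⟩ := f.centE g hg (hi _ h1) (hi _ h2) (hi _ h3)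
    refine ⟨xor b0 (xor b1 (xor b2 b3)), b1, b2, b3, ?_⟩
    rw [f.ta1, f.ta2, f.ta3, f.pw_t, f.pw_t, ← f.emb_a1, ← f.emb_a2, ← f.emb_a3]
    simp only [← emb_pw, ← emb_mul]
    congr 1
    cases b0 <;> cases b1 <;> cases b2 <;> cases b3 <;> decide +kernel
  centE' := by
    intro g hg h1 h2 h3
    have hi : ∀ x : G, Commute g (t * x) → Commute g x := fun x h => by
      have := (tcomm hg).symm.mul_right h
      rwa [← mul_assoc, f.tt, one_mul] at this
    have e1 : f.s * (t * f.a3) = t * (f.s * f.a3) := by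
      rw [← mul_assoc, ← (tcomm f.s_mem).eq, mul_assoc]
    have e2 := f.tw2
    have e3 := f.tw3
    rw [e1] at h1; rw [e2] at h2; rw [e3] at h3
    obtain ⟨b0, b1, b2, b3, rfl⟩ := f.centE' g hg (hi _ h1) (hi _ h2) (hi _ h3)
    refine ⟨xor b0 (xor b1 (xor b2 b3)), b1, b2, b3, ?_⟩
    have p1 : f.s * (t * f.a3) = f.es (9, true) := by rw [e1, es_b1, t_es]; rfl
    have p2 : f.s * (t * f.a1) * (t * f.a2) * (t * f.a3) = f.es (15, true) := by
      rw [e2, es_b2, t_es]; rfl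
    have p3 : t * f.a1 * (t * f.a2) * (t * f.a3) = f.es (15, false) := by
      rw [e3, es_b3, t_es]; rfl
    rw [p1, p2, p3, es_b1, es_b2, es_b3,
      show ∀ b, pw t b = f.es (bif b then (1, false) else (0, false)) from fun b => by
        cases b; exacts [f.es_one, f.es_t]]
    rw [show ∀ b, pw t b = f.es (bif b then (1, false) else (0, false)) from fun b => by
        cases b; exacts [f.es_one, f.es_t]]
    simp only [pw_es, es_es]
    congr 1
    cases b0 <;> cases b1 <;> cases b2 <;> cases b3 <;> decide +kernel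
  invol := by
    intro x hx hxx
    obtain ⟨c, hc, b0, b1, b3, h⟩ := f.invol x hx hxx
    refine ⟨c, hc, xor b0 b3, b1, b3, h.trans ?_⟩
    rw [f.ta1, f.ta2, f.ta3, f.pw_t, f.pw_t, ← emb_z, ← emb_a3]
    simp only [← emb_mul, ← emb_pw]
    congr 1
    cases b0 <;> cases b1 <;> cases b3 <;> decide +kernel
  card32 := f.card32
  card64 := f.card64
  clsz := by
    have h : t * f.a1 * (t * f.a2) = f.a1 * f.a2 := by
      rw [f.ta1, f.ta2, ← emb_mul, show (3 : Fin 16) ^^^ 5 = 6 by decide +kernel, emb_z]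
    simp only [h]
    exact f.clsz

/-- The involution is conjugate to the vector `v` of `E`. -/
def Mk (v : Fin 16) : Prop := IsConj t (f.emb v)

theorem isConj_conj {x g : G} (h : IsConj t x) : IsConj t (g * x * g⁻¹) :=
  h.trans (isConj_iff.2 ⟨g, rfl⟩)

theorem isConj_of_conj {x g : G} (h : IsConj t (g * x * g⁻¹)) : IsConj t x :=
  h.trans (isConj_iff.2 ⟨g⁻¹, by group⟩)

theorem invol_cases {x : G} (hx : x ∈ centralizer ({t} : Set G)) (hxx : x * x = 1) :
    ∃ c ∈ centralizer ({t} : Set G), ∃ v ∈ ZT, c * x * c⁻¹ = f.emb v := by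
  obtain ⟨c, hc, b0, b1, b3, h⟩ := f.invol x hx hxx
  refine ⟨c, hc, ofBits b0 b1 b1 b3, ?_, ?_⟩
  · cases b0 <;> cases b1 <;> cases b3 <;> decide +kernel
  · rw [h, ← emb_z, ← emb_a3, f.pw_t, ← emb_pw, ← emb_pw, ← emb_mul, ← emb_mul]
    congr 1
    cases b0 <;> cases b1 <;> cases b3 <;> decide +kernel

/-- Distinct central vectors are not conjugate in the centralizer. -/
theorem ZT_unique {v w : Fin 16} (hv : v ∈ ZT) (hw : w ∈ ZT) {c : G}
    (hc : c ∈ centralizer ({t} : Set G)) (h : c * f.emb v * c⁻¹ = f.emb w) : v = w := by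
  have e1 := f.th_conj hc (f.emb v)
  have e2 := f.ps_conj hc (f.emb v)
  rw [h, th_emb, th_emb] at e1
  rw [h, ps_emb, ps_emb] at e2
  have hd : ∀ v ∈ ZT, ∀ w ∈ ZT, par w = par v → par' w = par' v →
      v = w ∨ v = 0 ∨ w = 0 ∨ v = 1 ∨ w = 1 ∨ (v = 8 ∧ w = 14) ∨ (v = 14 ∧ w = 8) ∨
        (v = 9 ∧ w = 15) ∨ (v = 15 ∧ w = 9) := by decide +kernel
  rcases hd v hv w hw (toC2_inj _ _ e1) (toC2_inj _ _ e2) with
    e | rfl | rfl | rfl | rfl | ⟨rfl, rfl⟩ | ⟨rfl, rfl⟩ | ⟨rfl, rfl⟩ | ⟨rfl, rfl⟩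
  · exact e
  · refine f.emb_inj ?_
    rw [← h, emb_zero]; group
  · refine f.emb_inj ?_
    rw [emb_zero] at h ⊢
    exact conj_eq_one_iff.1 h
  · rw [emb_one, conj_t hc] at h
    exact f.emb_inj (f.emb_one.trans h)
  · refine f.emb_inj ?_
    rw [emb_one] at h ⊢
    have h' := congrArg (fun y => c⁻¹ * y * c) h
    simp only [mul_assoc, inv_mul_cancel_left, inv_mul_cancel, mul_one] at h'
    rw [h']
    have := conj_t (inv_mem hc)
    simpa [mul_assoc] using this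
  · exact absurd h (by rw [emb_a3, emb_b3]; exact f.sep c hc)
  · refine absurd ?_ (f.sep c⁻¹ (inv_mem hc))
    rw [← emb_b3, ← emb_a3, ← h]; group
  · refine absurd ?_ (f.sep c hc)
    rw [show (9 : Fin 16) = 1 ^^^ 8 from rfl, show (15 : Fin 16) = 1 ^^^ 14 from rfl, emb_mul,
      emb_mul, emb_one, emb_a3, emb_b3] at h
    refine mul_left_cancel (a := t) ?_
    rw [← h, ← mul_assoc c, ← (tcomm hc).eq]; group
  · refine absurd ?_ (f.sep c⁻¹ (inv_mem hc))
    rw [show (9 : Fin 16) = 1 ^^^ 8 from rfl, show (15 : Fin 16) = 1 ^^^ 14 from rfl, emb_mul,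
      emb_mul, emb_one, emb_a3, emb_b3] at h
    have : t * (f.a1 * f.a2 * f.a3) = c⁻¹ * (t * f.a3) * c := by rw [← h]; group
    refine (mul_left_cancel (a := t) ?_).symm
    rw [this, ← mul_assoc c⁻¹, ← (tcomm (inv_mem hc)).eq]; group

variable [Finite G]

/-- Every two-subgroup of the centralizer is conjugate into `T`. -/
theorem conj_le_T {P : Subgroup G} (hP : IsPGroup 2 P) (hPC : P ≤ centralizer ({t} : Set G)) :
    ∃ c ∈ centralizer ({t} : Set G), ∀ x ∈ P, c * x * c⁻¹ ∈ f.T := by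
  haveI : Fact (Nat.Prime 2) := ⟨Nat.prime_two⟩
  obtain ⟨Q, hQ⟩ := (hP.comap_of_injective (centralizer ({t} : Set G)).subtype
    (Subgroup.subtype_injective _)).exists_le_sylow
  obtain ⟨S0, hS0⟩ := ((IsPGroup.of_card (p := 2) (n := 5) (G := f.T) (by rw [card_T]; norm_num)
    ).comap_of_injective (centralizer ({t} : Set G)).subtype
    (Subgroup.subtype_injective _)).exists_le_sylow
  have hTcard : Nat.card (f.T.subgroupOf (centralizer ({t} : Set G))) = 32 := by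
    rw [Nat.card_congr (Subgroup.subgroupOfEquivOfLe f.T_le).toEquiv, card_T]
  have hSeq : f.T.subgroupOf (centralizer ({t} : Set G)) = (S0 : Subgroup _) := by
    refine Subgroup.eq_of_le_of_card_ge hS0 ?_
    rw [hTcard]
    obtain ⟨n, hn⟩ := S0.isPGroup'.exists_card_eq
    rw [hn]
    by_contra hlt
    have h6 : 6 ≤ n := by
      by_contra h'
      exact hlt (le_trans (Nat.pow_le_pow_right (by norm_num) (show n ≤ 5 by omega)) (by norm_num))
    have h2 : Nat.card (S0 : Subgroup (centralizer ({t} : Set G))) ∣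
        Nat.card (centralizer ({t} : Set G)) := Subgroup.card_subgroup_dvd_card _
    rw [hn] at h2
    have h3 : 2 ^ 6 ∣ Nat.card (centralizer ({t} : Set G)) := dvd_trans (pow_dvd_pow 2 h6) h2
    norm_num at h3
    exact f.card64 h3
  obtain ⟨c, hc⟩ := MulAction.exists_smul_eq ↥(centralizer ({t} : Set G)) Q S0
  refine ⟨c, c.2, fun x hx => ?_⟩
  have h1 : (⟨x, hPC hx⟩ : ↥(centralizer ({t} : Set G))) ∈ (Q : Subgroup _) := hQ hx
  have h2 : c * ⟨x, hPC hx⟩ * c⁻¹ ∈ (S0 : Subgroup _) := by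
    rw [← hc]
    exact ⟨_, h1, rfl⟩
  rw [← hSeq] at h2
  exact h2

/-- Two-subgroups of the centralizer of a conjugate of `t` are conjugate into `T`. -/
theorem conj_into_T {x : G} (hx : IsConj t x) {P : Subgroup G} (hP : IsPGroup 2 P)
    (hPC : P ≤ centralizer ({x} : Set G)) : ∃ g, g * x * g⁻¹ = t ∧ ∀ y ∈ P, g * y * g⁻¹ ∈ f.T := by
  obtain ⟨g0, hg0⟩ := isConj_iff.1 hx
  have hP' : P.map (MulAut.conj g0⁻¹).toMonoidHom ≤ centralizer ({t} : Set G) := by
    rintro _ ⟨y, hy, rfl⟩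
    simp only [MulEquiv.coe_toMonoidHom, MulAut.conj_apply, inv_inv]
    refine mem_centralizer_singleton_iff.2 ?_
    have := mem_centralizer_singleton_iff.1 (hPC hy)
    calc g0⁻¹ * y * g0 * t = g0⁻¹ * (y * (g0 * t * g0⁻¹)) * g0 := by group
      _ = g0⁻¹ * ((g0 * t * g0⁻¹) * y) * g0 := by rw [hg0, this]
      _ = t * (g0⁻¹ * y * g0) := by group
  obtain ⟨c, hc, h⟩ := f.conj_le_T (hP.map _) hP'
  refine ⟨c * g0⁻¹, ?_, fun y hy => ?_⟩
  · rw [← hg0, show c * g0⁻¹ * (g0 * t * g0⁻¹) * (c * g0⁻¹)⁻¹ = c * t * c⁻¹ by group]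
    exact conj_t hc
  · have := h _ ⟨y, hy, rfl⟩
    simp only [MulEquiv.coe_toMonoidHom, MulAut.conj_apply, inv_inv] at this
    convert this using 1
    group

include f in
/-- The centralizer of a conjugate of `t` has no subgroup of order `64`. -/
theorem no_sixty_four {x : G} (hx : IsConj t x) {P : Subgroup G} (hPC : P ≤ centralizer ({x} : Set G)) :
    ¬ 64 ∣ Nat.card P := by
  intro h
  obtain ⟨g, hg⟩ := isConj_iff.1 hx
  refine f.card64 (h.trans ((Subgroup.card_dvd_of_le hPC).trans (dvd_of_eq ?_)))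
  exact (Nat.card_congr (α := ↥(centralizer ({t} : Set G))) (β := ↥(centralizer ({x} : Set G)))
    { toFun := fun c => ⟨g * (c : G) * g⁻¹, mem_centralizer_singleton_iff.2 (by
        have := mem_centralizer_singleton_iff.1 c.2
        rw [← hg, show g * (c : G) * g⁻¹ * (g * t * g⁻¹) = g * ((c : G) * t) * g⁻¹ by group, this]
        group)⟩
      invFun := fun c => ⟨g⁻¹ * (c : G) * g, mem_centralizer_singleton_iff.2 (by
        have := mem_centralizer_singleton_iff.1 c.2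
        calc g⁻¹ * (c : G) * g * t = g⁻¹ * ((c : G) * (g * t * g⁻¹)) * g := by group
          _ = g⁻¹ * ((g * t * g⁻¹) * (c : G)) * g := by rw [hg, this]
          _ = _ := by group)⟩
      left_inv := fun c => Subtype.ext (by simp [mul_assoc])
      right_inv := fun c => Subtype.ext (by simp [mul_assoc]) }).symm

/-- A conjugate of `t` central in `T` is conjugate to `t` in the normalizer of `T`. -/
theorem exists_norm {v : Fin 16} (hv : v ∈ ZT) (h : f.Mk v) :
    ∃ n, n * t * n⁻¹ = f.emb v ∧ ∀ x, x ∈ f.T ↔ n * x * n⁻¹ ∈ f.T := by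
  have hP : IsPGroup 2 f.T := IsPGroup.of_card (n := 5) (by rw [card_T]; norm_num)
  have hTC : f.T ≤ centralizer ({f.emb v} : Set G) := by
    rintro _ ⟨w, rfl | rfl⟩ <;> refine mem_centralizer_singleton_iff.2 ?_
    · exact (f.emb_comm w v).eq
    · rw [mul_assoc, s_emb, (app_S_mem v).2 hv, ← mul_assoc, (f.emb_comm w v).eq, mul_assoc]
  obtain ⟨g, hg, hgT⟩ := f.conj_into_T h hP hTC
  refine ⟨g⁻¹, (calc g⁻¹ * t * g⁻¹⁻¹ = g⁻¹ * (g * f.emb v * g⁻¹) * g⁻¹⁻¹ := by rw [hg]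
      _ = f.emb v := by group), ?_⟩
  have hbij : Function.Bijective (fun y : f.T => (⟨g * y * g⁻¹, hgT _ y.2⟩ : f.T)) :=
    Finite.injective_iff_bijective.1 fun a b e => Subtype.ext (by simpa using congrArg Subtype.val e)
  intro x
  rw [inv_inv]
  constructor
  · intro hx
    obtain ⟨y, hy⟩ := hbij.2 ⟨x, hx⟩
    have := congrArg Subtype.val hy
    simp only at this
    rw [← this, show g⁻¹ * (g * (y : G) * g⁻¹) * g = y by group]
    exact y.2
  · intro hx
    have := hgT _ hx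
    rwa [show g * (g⁻¹ * x * g) * g⁻¹ = x by group] at this

end Frame

end CfsgLib.Characterizations.TwoTimesSymmetric
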