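import Cfsg.Agent.Lib.Characterizations.TwoTimesSymmetric.NonSwap

/-!
# Four central conjugates: the mixed case
-/

set_option autoImplicit false
set_option linter.unusedSectionVars false
set_option linter.style.haveILetI false
set_option maxRecDepth 4000
set_option maxHeartbeats 1000000

namespace CfsgLib.Characterizations.TwoTimesSymmetric

open Subgroup CfsgLib.Characterizations.TwoTimesSymmetric.Count

/-- The four labels. -/
def lab : Fin 4 → Fin 16 := ![0, 9, 3, 5]

theorem lab_inj : ∀ i j, lab i = lab j → i = j := by decide +kernel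

theorem lab_mkQ : ∀ i, ∃ a, mkQ true a = pure (lab i) := by decide +kernel

theorem pure_inj : ∀ v w, pure v = pure w → v = w := by decide +kernel

theorem pure_even : ∀ v u, par u = false → app (pure v) u = u := by decide +kernel

theorem pure_I : ∀ a v, mkQ false a = pure v → v = 0 ∨ v = 15 := by decide +kernel

theorem mkQ_par : ∀ z a u, par (app (mkQ z a) u) = par u := by decide +kernel

theorem lab_swap : ∀ a, chr false a = true → ∃ i j, i ≠ j ∧
    ∀ k, app (mkQ true a) (lab k) = lab (Equiv.swap i j k) := by decide +kernel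

theorem lab_even : ∀ a, chr false a = false → ∃ i j l, ((i = j ∧ j = l) ∨ (i ≠ j ∧ j ≠ l)) ∧
    ∀ k, app (mkQ true a) (lab k) = lab (Equiv.swap i j (Equiv.swap j l k)) := by decide +kernel

theorem even_cases : ∀ v, par v = false → (∃ i, lab i = v) ∨ v = 15 ∨ v = 6 ∨ v = 10 ∨ v = 12 := by
  decide +kernel

theorem good_SU : Good true iSU ∧ comp (pure 9) S = mkQ true iSU ∧ mkQ true iS = S ∧
    Good true iS := by decide +kernel

theorem target_split : ∀ p q : Fin 16 × Bool, Frame.esm p p = (0, false) → Frame.esm q q = (0, false) →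
    Frame.esm p q = Frame.esm q p → p.2 = false → q.2 = true → p.1 ∈ ZT := by decide +kernel

theorem invol_ZT : ∀ q : Fin 16 × Bool, Frame.esm q q = (0, false) → q.2 = true → q.1 ∈ ZT := by
  decide +kernel

namespace Frame

theorem normalizer_of_maps {G : Type*} [Group G] [Finite G] {A : Set G} {g : G}
    (h : ∀ x ∈ A, g * x * g⁻¹ ∈ A) : g ∈ normalizer A := by
  refine mem_set_normalizer_iff.2 fun x => ⟨h x, fun hx => ?_⟩
  have hbij : Function.Bijective (fun y : A => (⟨g * y * g⁻¹, h _ y.2⟩ : A)) :=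
    Finite.injective_iff_bijective.1 fun a b e => Subtype.ext (by simpa using congrArg Subtype.val e)
  obtain ⟨y, hy⟩ := hbij.2 ⟨_, hx⟩
  have hy' : g * (y : G) * g⁻¹ = g * x * g⁻¹ := congrArg Subtype.val hy
  rw [← mul_left_cancel (mul_right_cancel hy')]
  exact y.2

variable {G : Type*} [Group G] [Finite G] {t : G} (f : Frame t)

theorem acts_t {g : G} {L : Act} (h : f.Acts g L) : g * t * g⁻¹ = f.emb L.1 := by
  rw [← (app_basis L).1, ← h 1]
  exact congrArg (fun y => g * y * g⁻¹) f.emb_one.symm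

theorem acts_self : f.Acts t (pure 0) := by
  have h := f.acts_emb 1
  have e : ∀ x, f.Acts x idA → f.Acts x (pure 0) := fun x hx => by
    rwa [show pure 0 = idA by decide +kernel]
  exact (congrArg (fun x => f.Acts x (pure 0)) f.emb_one).mp (e _ h)

theorem t_mem_T : t ∈ f.T := (congrArg (· ∈ f.T) f.emb_one).mp (f.emb_mem_T 1)

/-- The even vectors. -/
def Ev : Set G := {x | ∃ u, par u = false ∧ x = f.emb u}

/-- The elements inducing pure actions. -/
def Pu : Set G := {x | ∃ v, par v = false ∧ f.Acts x (pure v)}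

theorem acts_pure {y : G} {v : Fin 16} (h1 : y * t * y⁻¹ = f.emb (1 ^^^ v))
    (h2 : ∀ u, par u = false → y * f.emb u * y⁻¹ = f.emb u) : f.Acts y (pure v) := by
  intro x
  by_cases hp : par x = true
  · have hd : ∀ v x, par x = true → par (1 ^^^ x) = false ∧
        app (pure v) x = (1 ^^^ v) ^^^ (1 ^^^ x) ∧ x = 1 ^^^ (1 ^^^ x) := by decide +kernel
    obtain ⟨e1, e2, e3⟩ := hd v x hp
    conv_lhs => rw [e3, emb_mul, emb_one]
    rw [show y * (t * f.emb (1 ^^^ x)) * y⁻¹ = y * t * y⁻¹ * (y * f.emb (1 ^^^ x) * y⁻¹) by group,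
      h1, h2 _ e1, ← emb_mul, e2]
  · rw [Bool.not_eq_true] at hp
    rw [pure_even v x hp, h2 x hp]

/-- Conjugation of pure actions between frames. -/
theorem conj_pure (f₂ : Frame t) {g n y : G} (hg : g * n * g⁻¹ = t)
    (hev : ∀ u, par u = false → ∃ v, par v = false ∧ g * f.emb u * g⁻¹ = f₂.emb v)
    {w : Fin 16} (hy : f.Acts y (pure w)) {c : Fin 16} (hc : par c = false)
    (hn : y * n * y⁻¹ = n * f.emb c) :
    ∃ v, par v = false ∧ f₂.Acts (g * y * g⁻¹) (pure v) ∧ g * f.emb c * g⁻¹ = f₂.emb v := by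
  obtain ⟨v, hv, hve⟩ := hev c hc
  refine ⟨v, hv, f₂.acts_pure ?_ fun u hu => ?_, hve⟩
  · rw [f₂.emb_mul, f₂.emb_one, ← hve]
    calc g * y * g⁻¹ * t * (g * y * g⁻¹)⁻¹ = g * (y * (g⁻¹ * t * g) * y⁻¹) * g⁻¹ := by group
      _ = g * (y * n * y⁻¹) * g⁻¹ := by rw [← hg]; group
      _ = g * n * g⁻¹ * (g * f.emb c * g⁻¹) := by rw [hn]; group
      _ = _ := by rw [hg]
  · choose F hFp hFe using hev
    let F' : {u : Fin 16 // par u = false} → {u : Fin 16 // par u = false} := fun a =>
      ⟨F a.1 a.2, hFp a.1 a.2⟩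
    have hFi : Function.Injective F' := fun a b e => Subtype.ext (f.emb_inj (by
      have := congrArg (fun q : {u : Fin 16 // par u = false} => f₂.emb q.1) e
      simp only [F', ← hFe] at this
      exact mul_left_cancel (mul_right_cancel this)))
    obtain ⟨a, ha⟩ := (Finite.injective_iff_bijective.1 hFi).2 ⟨u, hu⟩
    rw [show u = F a.1 a.2 from (congrArg Subtype.val ha).symm, ← hFe a.1 a.2]
    calc g * y * g⁻¹ * (g * f.emb a.1 * g⁻¹) * (g * y * g⁻¹)⁻¹
        = g * (y * f.emb a.1 * y⁻¹) * g⁻¹ := by group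
      _ = g * f.emb a.1 * g⁻¹ := by rw [hy a.1, pure_even w _ a.2]

theorem pure_conj {h : G} {L : Act} (hh : f.Acts h L) (hpar : ∀ u, par (app L u) = par u) {y : G}
    {v : Fin 16} (hy : f.Acts y (pure v)) : f.Acts (h * y * h⁻¹) (pure (app L v)) := by
  obtain ⟨M, hM⟩ := hh.inv
  have h1 : comp L M = idA := (mul_inv_cancel h ▸ hh.mul hM : f.Acts 1 _).eq f.acts_one
  intro x
  rw [((hh.mul hy).mul hM) x]
  have e : app L (app M x) = x := by rw [← app_comp, h1, app_idA]
  rw [app_comp, app_comp, app_pure, app_pure, app_xor, e, ← hpar (app M x), e]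
  cases par x
  · rw [cond_false, cond_false, app_zero]
  · rfl

variable (hmk : ∀ v, f.Mk v ↔ par v = true) (hns : ∀ g ∈ f.NT, f.Fx g)
  (hG : ¬ ∃ H : Subgroup G, H.index = 2)
include hmk

theorem card_NT_four : Nat.card f.NT = 128 := by
  classical
  rw [f.card_NT, Nat.card_congr (Equiv.subtypeEquivRight (q := fun v => v ∈ ZT ∧ par v = true)
    fun v => and_congr_right fun _ => hmk v), Nat.card_eq_fintype_card]
  rfl

include hns hG

/-- The mixed case does not occur without a subgroup of index two. -/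
theorem mixed (hI : f.HasQ false) (hdT : f.dual.HasQ true) : False := by
  classical
  obtain ⟨n, hnN, hna, hnd, hnm⟩ := f.exists_pure_mark hmk hns hG hdT
  have hmk' := f.dual_hmk hmk
  have hd15 := f.dual_d_unmarked hmk hG hdT hnm hnd
  have hnn := f.sq_of_conj hnm
  have hni : n⁻¹ = n := inv_eq_of_mul_eq_one_right hnn
  -- the unmarked involution
  obtain ⟨m, hmm, hma⟩ : ∃ m, m * m = 1 ∧ f.dual.Acts m (pure 15) := by
    obtain ⟨y, hy⟩ := hdT.1
    rcases f.dual.pure_d_sq hy with h | h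
    · exact ⟨y, h.trans f.dual.emb_zero, hy⟩
    · refine ⟨y * t, ?_, ?_⟩
      · rw [show y * t * (y * t) = y * t * y⁻¹ * (y * y) * t by group, h]
        have e1 : f.dual.emb (pure 15).1 * f.dual.emb 15 * t = 1 := by
          refine (congrArg (f.dual.emb (pure 15).1 * f.dual.emb 15 * ·) f.dual.emb_one.symm).trans ?_
          rw [← f.dual.emb_mul, ← f.dual.emb_mul,
            show (pure 15).1 ^^^ 15 ^^^ 1 = 0 by decide +kernel, f.dual.emb_zero]
        rw [f.dual.acts_t hy]
        exact e1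
      · have h' := hy.mul (f.dual.acts_emb 1)
        rwa [f.dual.emb_one, comp_idA] at h'
  have hmu : ¬ IsConj t m := fun h => hd15 m h hma
  have hmi : m⁻¹ = m := inv_eq_of_mul_eq_one_right hmm
  -- the pure actions move `n` inside `n Ev`
  have hU9 : mkQ true iU = pure 9 := idx_values.2.1
  have hmove : ∀ y v, par v = false → f.dual.Acts y (pure v) →
      ∃ c, par c = false ∧ y * n * y⁻¹ = n * f.dual.emb c := by
    intro y v hv hy
    have h : f.dual.Acts (y * n * y⁻¹) (mkQ true iU) := by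
      rw [hU9]
      have hp : ∀ v u, par v = false → par (app (pure v) u) = par u := by decide +kernel
      have h' := f.dual.pure_conj hy (fun u => hp v u hv) hnd
      rwa [pure_even v 9 (by decide)] at h'
    obtain ⟨w, ⟨-, hw⟩, e⟩ := f.dual.class_bound hmk' hdT hnm (hU9 ▸ hnd) _ (isConj_conj hnm) h
    exact ⟨w, hw, e⟩
  obtain ⟨c, hc, hmn⟩ := hmove m 15 (by decide) hma
  have hnev : ∀ u, par u = false → Commute n (f.dual.emb u) := fun u hu =>
    mul_inv_eq_iff_eq_mul.1 ((hnd u).trans (by rw [pure_even 9 u hu]))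
  have hnev' : ∀ u, par u = false → Commute n (f.emb u) := fun u hu =>
    mul_inv_eq_iff_eq_mul.1 ((hna u).trans (by rw [pure_even 15 u hu]))
  -- the conjugates of `n` by `T`
  have hns' : n * f.s * n⁻¹ = f.s := by
    have e : f.s = f.emb 8 * f.dual.emb 2 := by
      rw [dual_emb, es_e, es_es, f.es_s]; rfl
    rw [e, show n * (f.emb 8 * f.dual.emb 2) * n⁻¹ = n * f.emb 8 * n⁻¹ * (n * f.dual.emb 2 * n⁻¹) by group,
      hna 8, hnd 2, dual_emb, dual_emb, es_e, es_e, es_es, es_es]
    congr 1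
  have hT9 : ∀ τ ∈ f.T, τ * n * τ⁻¹ = n ∨ τ * n * τ⁻¹ = n * f.dual.emb 9 := by
    intro τ hτ
    obtain ⟨⟨v, b⟩, rfl⟩ := f.mem_T_iff.1 hτ
    have h1 : n * f.es (v, b) * n⁻¹ = f.emb (app (pure 15) v) * pw f.s b := by
      rw [es, show n * (f.emb (v, b).1 * pw f.s (v, b).2) * n⁻¹ = n * f.emb v * n⁻¹ * (n * pw f.s b * n⁻¹)
        by group, hna v]
      cases b
      · simp [pw]
      · show _ * (n * f.s * n⁻¹) = _
        rw [hns']; rfl
    have h2 : f.es (v, b) * n * (f.es (v, b))⁻¹ = n * f.emb (bif par v then 15 else 0) := by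
      calc f.es (v, b) * n * (f.es (v, b))⁻¹
          = n * (n⁻¹ * f.es (v, b) * n⁻¹⁻¹) * (f.es (v, b))⁻¹ := by group
        _ = n * (n * f.es (v, b) * n⁻¹) * (f.es (v, b))⁻¹ := by simp only [hni]
        _ = n * f.emb (bif par v then 15 else 0) := by
          rw [h1, app_pure, emb_mul]
          rw [show f.es (v, b) = f.emb v * pw f.s b from rfl, mul_inv_rev, emb_inv,
            (f.emb_comm v _).eq]
          rw [mul_assoc n, mul_assoc (f.emb _ * f.emb v), mul_assoc (f.emb _),
            ← mul_assoc (pw f.s b) (pw f.s b)⁻¹, mul_inv_cancel, one_mul, emb_sq, mul_one]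
    cases hp : par v
    · left; rw [h2, hp, cond_false, emb_zero, mul_one]
    · right; rw [h2, hp, cond_true, f.dual_emb_ZT (by decide)]; rfl
  -- the representatives of `N(T)/T`
  have hnt : n * t * n⁻¹ = f.emb 14 := f.acts_t hna
  have hmt : m * t * m⁻¹ = f.emb 8 := by
    rw [f.dual.acts_t hma, f.dual_emb_ZT (by decide +kernel)]; rfl
  have hmN : m ∈ f.NT := f.dual_NT ▸ f.dual.mem_NT_of_acts hma (by decide +kernel)
  have hrep : ∀ k ∈ f.NT, ∃ K, (K = 1 ∨ K = n ∨ K = m ∨ K = n * m) ∧ ∃ τ ∈ f.T, k = K * τ := by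
    intro k hk
    obtain ⟨v, hv, hvm, e⟩ := f.NT_mark hk (v := 1) (by decide) f.mk_one
    rw [emb_one] at e
    have hd : ∀ v ∈ ZT, par v = true → v = 1 ∨ v = 14 ∨ v = 8 ∨ v = 7 := by decide +kernel
    have key : ∀ K ∈ f.NT, K * t * K⁻¹ = f.emb v → ∃ τ ∈ f.T, k = K * τ := fun K hK he =>
      ⟨K⁻¹ * k, f.NT_fix_t (mul_mem (inv_mem hK) hk) (by
        calc K⁻¹ * k * t * (K⁻¹ * k)⁻¹ = K⁻¹ * (k * t * k⁻¹) * K := by group
          _ = K⁻¹ * (K * t * K⁻¹) * K := by rw [e, he]
          _ = t := by group), (mul_inv_cancel_left K k).symm⟩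
    rcases hd v hv ((hmk v).1 hvm) with rfl | rfl | rfl | rfl
    · exact ⟨1, Or.inl rfl, key 1 (one_mem _) (by rw [emb_one]; group)⟩
    · exact ⟨n, by simp, key n hnN hnt⟩
    · exact ⟨m, by simp, key m hmN hmt⟩
    · refine ⟨n * m, by simp, key _ (mul_mem hnN hmN) ?_⟩
      rw [show n * m * t * (n * m)⁻¹ = n * (m * t * m⁻¹) * n⁻¹ by group, hmt, hna 8]
      rfl
  have hc09 : c ≠ 0 ∧ c ≠ 9 := by
    by_contra hcc
    have hc' : c = 0 ∨ c = 9 := by tauto
    have hcl : ∀ k ∈ f.NT, ∃ i : Bool, k * n * k⁻¹ = n * f.dual.emb (bif i then 9 else 0) := by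
      intro k hk
      obtain ⟨K, hK, τ, hτ, rfl⟩ := hrep k hk
      obtain ⟨i, hi⟩ : ∃ i : Bool, τ * n * τ⁻¹ = n * f.dual.emb (bif i then 9 else 0) := by
        rcases hT9 τ hτ with h | h
        · exact ⟨false, by rw [h, cond_false, f.dual.emb_zero, mul_one]⟩
        · exact ⟨true, h⟩
      obtain ⟨j, hj⟩ : ∃ j : Bool, K * n * K⁻¹ = n * f.dual.emb (bif j then 9 else 0) := by
        have h0 : n * n * n⁻¹ = n * f.dual.emb (bif false then 9 else 0) := by
          rw [cond_false, f.dual.emb_zero]; group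
        have hm0 : ∃ j : Bool, m * n * m⁻¹ = n * f.dual.emb (bif j then 9 else 0) := by
          rcases hc' with h | h <;> rw [h] at hmn
          exacts [⟨false, hmn⟩, ⟨true, hmn⟩]
        rcases hK with rfl | rfl | rfl | rfl
        · exact ⟨false, by rw [cond_false, f.dual.emb_zero]; group⟩
        · exact ⟨false, h0⟩
        · exact hm0
        · obtain ⟨j, hj⟩ := hm0
          refine ⟨j, ?_⟩
          rw [show n * m * n * (n * m)⁻¹ = n * (m * n * m⁻¹) * n⁻¹ by group, hj,
            show n * (n * f.dual.emb (bif j then 9 else 0)) * n⁻¹ =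
              n * (n * f.dual.emb (bif j then 9 else 0) * n⁻¹) by group,
            hnd, pure_even 9 _ (by cases j <;> decide)]
      have hKe : K * f.dual.emb (bif i then 9 else 0) * K⁻¹ = f.dual.emb (bif i then 9 else 0) := by
        have hn' : n * f.dual.emb (bif i then 9 else 0) * n⁻¹ = f.dual.emb (bif i then 9 else 0) := by
          rw [hnd, pure_even 9 _ (by cases i <;> decide)]
        have hm' : m * f.dual.emb (bif i then 9 else 0) * m⁻¹ = f.dual.emb (bif i then 9 else 0) := by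
          rw [hma, pure_even 15 _ (by cases i <;> decide)]
        rcases hK with rfl | rfl | rfl | rfl
        · group
        · exact hn'
        · exact hm'
        · rw [show n * m * f.dual.emb (bif i then 9 else 0) * (n * m)⁻¹ =
            n * (m * f.dual.emb (bif i then 9 else 0) * m⁻¹) * n⁻¹ by group, hm', hn']
      refine ⟨xor j i, ?_⟩
      rw [show K * τ * n * (K * τ)⁻¹ = K * (τ * n * τ⁻¹) * K⁻¹ by group, hi,
        show K * (n * f.dual.emb (bif i then 9 else 0)) * K⁻¹ =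
          K * n * K⁻¹ * (K * f.dual.emb (bif i then 9 else 0) * K⁻¹) by group, hj, hKe, mul_assoc,
        ← f.dual.emb_mul]
      cases i <;> cases j <;> rfl
    have hle := class_le_of_forall (H := f.NT) (x := n) _ hcl
    rw [Fintype.card_bool] at hle
    have e := card_eq_class_mul f.NT n
    rw [f.card_NT_four hmk] at e
    refine f.no_sixty_four hnm (P := f.NT ⊓ centralizer ({n} : Set G)) inf_le_right ?_
    set M := Nat.card {y : G // ∃ k ∈ f.NT, k * n * k⁻¹ = y}
    have hM : M = 1 ∨ M = 2 := by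
      rcases Nat.eq_zero_or_pos M with h | h
      · rw [h, zero_mul] at e; omega
      · omega
    rcases hM with h | h <;> rw [h] at e <;> omega
  -- the fusing element
  have hP : IsPGroup 2 (f.NT ⊓ centralizer ({n} : Set G) : Subgroup G) :=
    (IsPGroup.of_card (p := 2) (n := 7) (G := f.NT) (by rw [f.card_NT_four hmk]; norm_num)).to_le inf_le_left
  obtain ⟨g, hg, hgT⟩ := f.conj_into_T hnm hP inf_le_right
  have hmemP : ∀ x ∈ f.T, Commute n x → g * x * g⁻¹ ∈ f.T := fun x hx hx' =>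
    hgT x ⟨f.T_le_NT hx, mem_centralizer_singleton_iff.2 hx'.eq.symm⟩
  have he3 : f.dual.emb 3 = f.es (9, true) := by rw [dual_emb]; rfl
  have h10 : Commute n (f.emb 10) := hnev' 10 (by decide)
  have hy : Commute n (f.emb 10 * f.dual.emb 3) := h10.mul_right (hnev 3 (by decide))
  have hz : g * f.emb 6 * g⁻¹ = f.emb 6 := by
    have hyy : f.emb 10 * f.dual.emb 3 * (f.emb 10 * f.dual.emb 3) = f.emb 6 := by
      rw [he3, es_e, es_es, es_es, es_e]; rfl
    rcases f.T_sq (hmemP _ (mul_mem (f.emb_mem_T 10) (f.dual_T ▸ f.dual.emb_mem_T 3)) hy) with e | e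
    · rw [show g * (f.emb 10 * f.dual.emb 3) * g⁻¹ * (g * (f.emb 10 * f.dual.emb 3) * g⁻¹)
        = g * (f.emb 10 * f.dual.emb 3 * (f.emb 10 * f.dual.emb 3)) * g⁻¹ by group, hyy,
        conj_eq_one_iff] at e
      exact absurd (f.emb_inj (e.trans f.emb_zero.symm)) (by decide)
    · calc g * f.emb 6 * g⁻¹
          = g * (f.emb 10 * f.dual.emb 3) * g⁻¹ * (g * (f.emb 10 * f.dual.emb 3) * g⁻¹) := by
            rw [← hyy]; group
        _ = f.emb 6 := e
  -- the image of the even vectors of the dual subgroup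
  have himg : ∀ u, par u = false → ∃ q, g * f.dual.emb u * g⁻¹ = f.es q ∧
      esm q q = (0, false) ∧ par q.1 = false := by
    intro u hu
    obtain ⟨q, hq⟩ := f.mem_T_iff.1 (hmemP _ (f.dual_T ▸ f.dual.emb_mem_T u) (hnev u hu))
    have hqq : esm q q = (0, false) := f.es_inj (by
      rw [← es_es, ← hq, ← es_e, emb_zero,
        show g * f.dual.emb u * g⁻¹ * (g * f.dual.emb u * g⁻¹) = g * (f.dual.emb u * f.dual.emb u) * g⁻¹ by group,
        f.dual.emb_sq]
      group)
    refine ⟨q, hq, hqq, Bool.eq_false_iff.2 fun h => ?_⟩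
    have := (f.es_mark hmk hqq).2 h
    rw [← hq] at this
    have h' := (hmk' u).1 (isConj_of_conj this)
    rw [hu] at h'
    exact Bool.false_ne_true h'
  have hevD : ∀ u, par u = false → ∃ v, par v = false ∧ g * f.dual.emb u * g⁻¹ = f.dual.emb v := by
    by_cases hb : ∃ u, par u = false ∧ ∃ q, g * f.dual.emb u * g⁻¹ = f.es q ∧ q.2 = true
    · obtain ⟨u₀, hu₀, q₀, hq₀, hb₀⟩ := hb
      intro u hu
      obtain ⟨q, hq, hqq, hqp⟩ := himg u hu
      have hz : q.1 ∈ ZT := by
        obtain ⟨q', hq', hqq', -⟩ := himg u₀ hu₀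
        obtain rfl : q' = q₀ := f.es_inj (hq'.symm.trans hq₀)
        cases hqb : q.2
        · refine target_split q q' hqq hqq' (f.commute_es_iff.1 ?_) hqb hb₀
          rw [← hq, ← hq₀]
          show _ = _
          calc g * f.dual.emb u * g⁻¹ * (g * f.dual.emb u₀ * g⁻¹)
              = g * (f.dual.emb u * f.dual.emb u₀) * g⁻¹ := by group
            _ = g * (f.dual.emb u₀ * f.dual.emb u) * g⁻¹ := by rw [(f.dual.emb_comm u u₀).eq]
            _ = _ := by group
        · exact invol_ZT q hqq hqb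
      obtain ⟨v, hv⟩ := δ_surj q hz
      refine ⟨v, Bool.eq_false_iff.2 fun h => ?_, by rw [hq, dual_emb, hv]⟩
      have := (hmk' v).2 h
      change IsConj t (f.dual.emb v) at this
      rw [dual_emb, hv] at this
      have := (f.es_mark hmk hqq).1 this
      rw [hqp] at this
      exact Bool.false_ne_true this
    · exfalso
      have hev : ∀ u, par u = false → ∃ v, par v = false ∧ g * f.dual.emb u * g⁻¹ = f.emb v := by
        intro u hu
        obtain ⟨q, hq, -, hqp⟩ := himg u hu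
        refine ⟨q.1, hqp, hq.trans ?_⟩
        rw [es_e]
        refine congrArg f.es (Prod.ext rfl ?_)
        simp only
        by_contra h
        exact hb ⟨u, hu, q, hq, by simpa using h⟩
      obtain ⟨v, -, hva, hve⟩ := f.dual.conj_pure f hg hev hma hc hmn
      have ht9 : t * n * t⁻¹ = n * f.dual.emb 9 := by
        rcases hT9 t f.t_mem_T with h | h
        · exfalso
          have h' : n * t * n⁻¹ = t := by
            have h2 : t * n = n * t := mul_inv_eq_iff_eq_mul.1 h
            rw [← h2, mul_inv_cancel_right]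
          rw [hnt] at h'
          exact absurd (f.emb_inj (h'.trans f.emb_one.symm)) (by decide)
        · exact h
      have hta : f.dual.Acts t (pure 0) := f.dual.acts_self
      obtain ⟨v', -, hva', hve'⟩ := f.dual.conj_pure f hg hev hta (c := 9) (by decide) ht9
      obtain ⟨a, ha⟩ := f.exists_idx hmk hI hva
      obtain ⟨a', ha'⟩ := f.exists_idx hmk hI hva'
      have inj : ∀ x y, g * f.dual.emb x * g⁻¹ = g * f.dual.emb y * g⁻¹ → x = y := fun x y h =>
        f.dual.emb_inj (mul_left_cancel (mul_right_cancel h))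
      have h0 : ∀ x, g * f.dual.emb x * g⁻¹ = f.emb 0 → x = 0 := fun x h => inj x 0 (by
        rw [h, emb_zero, f.dual.emb_zero]; group)
      rcases pure_I a v ha.symm with rfl | rfl
      · exact hc09.1 (h0 c hve)
      rcases pure_I a' v' ha'.symm with rfl | rfl
      · exact absurd (h0 9 hve') (by decide)
      exact hc09.2 (inj c 9 (hve.trans hve'.symm))
  -- no marks over the three remaining pure actions
  have h6 : ∀ x, IsConj t x → ¬ f.dual.Acts x (pure 6) := by
    intro x hx hxa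
    have hnma : f.dual.Acts (n * m) (pure 6) := by
      have h := hnd.mul hma
      rwa [show comp (pure 9) (pure 15) = pure 6 by decide +kernel] at h
    obtain ⟨w, rfl⟩ := f.dual.eq_mul_of_acts hxa hnma
    have hsq : n * m * (n * m) = f.dual.emb c := by
      calc n * m * (n * m) = n * (m * n * m⁻¹) := by rw [hmi]; group
        _ = f.dual.emb c := by rw [hmn, ← mul_assoc, hnn, one_mul]
    have e := f.sq_of_conj hx
    rw [show n * m * f.dual.emb w * (n * m * f.dual.emb w) =
      n * m * f.dual.emb w * (n * m)⁻¹ * (n * m * (n * m)) * f.dual.emb w by group, hnma w, hsq,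
      ← f.dual.emb_mul, ← f.dual.emb_mul, ← f.dual.emb_zero] at e
    have hd : ∀ w c : Fin 16, app (pure 6) w ^^^ c ^^^ w = 0 → c = 0 ∨ c = 6 := by decide +kernel
    obtain rfl := (hd w c (f.dual.emb_inj e)).resolve_left hc09.1
    obtain ⟨v, hv, hva, hve⟩ := f.dual.conj_pure f.dual hg hevD hma hc hmn
    rw [f.dual_emb_ZT (by decide), show φ 6 = 6 from rfl, hz] at hve
    have hv6 : v = 6 := f.dual.emb_inj (by
      rw [← hve, f.dual_emb_ZT (by decide)]; rfl)
    subst hv6
    obtain ⟨u, hu⟩ := f.dual.eq_mul_of_acts hva hxa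
    refine hmu (isConj_of_conj (g := g) ?_)
    have hgm : g * m * g⁻¹ * (g * m * g⁻¹) = 1 := by
      rw [show g * m * g⁻¹ * (g * m * g⁻¹) = g * (m * m) * g⁻¹ by group, hmm]; group
    have hxx := f.sq_of_conj hx
    set x := n * m * f.dual.emb w
    have hfix : app (pure 6) u = u := f.dual.emb_inj (by
      rw [← hxa u, inv_eq_of_mul_eq_one_right hxx]
      have h1 : x * f.dual.emb u * x * f.dual.emb u = 1 := by
        rw [show x * f.dual.emb u * x * f.dual.emb u = x * f.dual.emb u * (x * f.dual.emb u) by group,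
          ← hu]
        exact hgm
      rw [mul_eq_one_iff_eq_inv.1 h1, f.dual.emb_inv])
    have hpu : par u = false := by
      have hd : ∀ u, app (pure 6) u = u → par u = false := by decide +kernel
      exact hd u hfix
    rw [hu]
    exact (f.dual.mul_unmarked hmk' (f.dual.emb_sq u)
      (mul_inv_eq_iff_eq_mul.1 ((hxa u).trans (by rw [hfix])))
      (fun h => by have := (hmk' u).1 h; rw [hpu] at this; exact Bool.false_ne_true this)).2 hx
  -- the group permuting the four labels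
  let D := f.dual
  let H : Subgroup G := normalizer D.Ev ⊓ normalizer D.Pu
  have hNE : D.NE ≤ H := by
    intro k hk
    obtain ⟨a, ha⟩ := D.exists_idx' hmk' hdT hk
    refine ⟨normalizer_of_maps ?_, normalizer_of_maps ?_⟩
    · rintro _ ⟨u, hu, rfl⟩
      exact ⟨_, (mkQ_par true a u).trans hu, ha u⟩
    · rintro y ⟨v, hv, hy⟩
      exact ⟨_, (mkQ_par true a v).trans hv, D.pure_conj ha (mkQ_par true a) hy⟩
  have hgH : g ∈ H := by
    refine ⟨normalizer_of_maps ?_, normalizer_of_maps ?_⟩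
    · rintro _ ⟨u, hu, rfl⟩
      obtain ⟨v, hv, e⟩ := hevD u hu
      exact ⟨v, hv, e⟩
    · rintro y ⟨v, hv, hy⟩
      obtain ⟨c', hc', e⟩ := hmove y v hv hy
      obtain ⟨v', hv', hva', -⟩ := D.conj_pure D hg hevD hy hc' e
      exact ⟨v', hv', hva'⟩
  have hlab_par : ∀ i, par (lab i) = false := by decide +kernel
  have hlabel : ∀ y, IsConj t y → y ∈ D.Pu → ∃ i, D.Acts y (pure (lab i)) := by
    intro y hy hyP
    obtain ⟨v, hv, hya⟩ := hyP
    rcases even_cases v hv with ⟨i, rfl⟩ | rfl | rfl | rfl | rfl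
    · exact ⟨i, hya⟩
    · exact absurd hya (hd15 y hy)
    · exact absurd hya (h6 y hy)
    · refine absurd ?_ (h6 _ (isConj_conj (g := D.X) hy))
      have h := D.pure_conj D.acts_X (by decide +kernel) hya
      rwa [show app R 10 = 6 by decide +kernel] at h
    · refine absurd ?_ (h6 _ (isConj_conj (g := D.X * D.X) hy))
      have h := D.pure_conj (D.acts_X.mul D.acts_X) (by decide +kernel) hya
      rwa [show app (comp R R) 12 = 6 by decide +kernel] at h
  have hnX : ∀ i, ∃ y, IsConj t y ∧ D.Acts y (pure (lab i)) := by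
    intro i
    fin_cases i
    · refine ⟨t, IsConj.refl t, ?_⟩
      exact D.acts_self
    · exact ⟨n, hnm, hnd⟩
    · refine ⟨D.X * n * D.X⁻¹, isConj_conj hnm, ?_⟩
      have h := D.pure_conj D.acts_X (by decide +kernel) hnd
      rwa [show app R 9 = 3 by decide +kernel] at h
    · refine ⟨D.X * D.X * n * (D.X * D.X)⁻¹, isConj_conj hnm, ?_⟩
      have h := D.pure_conj (D.acts_X.mul D.acts_X) (by decide +kernel) hnd
      rwa [show app (comp R R) 9 = 5 by decide +kernel] at h
  choose rep hrepm hrepa using hnX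
  have hPu : ∀ i, rep i ∈ D.Pu := fun i => ⟨_, hlab_par i, hrepa i⟩
  have hmaps : ∀ h ∈ H, ∀ i, ∃ j, D.Acts (h * rep i * h⁻¹) (pure (lab j)) := fun h hh i =>
    hlabel _ (isConj_conj (hrepm i)) ((mem_set_normalizer_iff.1 hh.2 _).1 (hPu i))
  choose σ hσ using fun h : H => hmaps h h.2
  have hkey : ∀ (h : H) i y, IsConj t y → D.Acts y (pure (lab i)) →
      D.Acts ((h : G) * y * (h : G)⁻¹) (pure (lab (σ h i))) := by
    intro h i y hy hya
    obtain ⟨a, ha⟩ := lab_mkQ i
    obtain ⟨w, ⟨-, hw⟩, rfl⟩ :=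
      D.class_bound hmk' hdT (hrepm i) (ha ▸ hrepa i) y hy (ha ▸ hya)
    obtain ⟨w', -, hw'⟩ := (mem_set_normalizer_iff.1 h.2.1 (D.emb w)).1 ⟨w, hw, rfl⟩
    rw [show (h : G) * (rep i * D.emb w) * (h : G)⁻¹ =
      (h : G) * rep i * (h : G)⁻¹ * ((h : G) * D.emb w * (h : G)⁻¹) by group, hw']
    have := (hσ h i).mul (D.acts_emb w')
    rwa [comp_idA] at this
  have hmul : ∀ a b : H, ∀ i, σ (a * b) i = σ a (σ b i) := fun a b i => by
    have h := hkey a _ _ (isConj_conj (hrepm i)) (hσ b i)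
    rw [show (a : G) * ((b : G) * rep i * (b : G)⁻¹) * (a : G)⁻¹ =
      ((a * b : H) : G) * rep i * ((a * b : H) : G)⁻¹ by rw [Subgroup.coe_mul]; group] at h
    exact lab_inj _ _ (pure_inj _ _ ((hσ (a * b) i).eq h))
  have hone : ∀ i, σ 1 i = i := fun i => by
    refine lab_inj _ _ (pure_inj _ _ ((hσ 1 i).eq ?_))
    rw [Subgroup.coe_one, show (1 : G) * rep i * 1⁻¹ = rep i by group]
    exact hrepa i
  let π : ↥H →* Equiv.Perm (Fin 4) := MonoidHom.mk' (fun h =>
    ⟨σ h, σ h⁻¹, fun i => by rw [← hmul, inv_mul_cancel, hone],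
      fun i => by rw [← hmul, mul_inv_cancel, hone]⟩) fun a b => Equiv.ext fun i => hmul a b i
  let χ : ↥H →* C2 :=
    { toFun := fun h => if Equiv.Perm.sign (π h) = 1 then 1 else C2.one'
      map_one' := by simp
      map_mul' := fun a b => by
        rw [map_mul, map_mul]
        rcases Int.units_eq_one_or (Equiv.Perm.sign (π a)) with h | h <;>
          rcases Int.units_eq_one_or (Equiv.Perm.sign (π b)) with h' | h' <;> rw [h, h'] <;> decide }
  have hχa : ∀ k a, D.Acts k (mkQ true a) → val χ k = toC2 (chr false a) := by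
    intro k a ha
    have hk : k ∈ H := hNE (D.mem_NE_of_acts ha)
    rw [val_of_mem χ hk]
    have hperm : ∀ i, lab (π ⟨k, hk⟩ i) = app (mkQ true a) (lab i) := fun i =>
      pure_inj _ _ ((hσ ⟨k, hk⟩ i).eq (D.pure_conj ha (mkQ_par true a) (hrepa i)))
    show (if Equiv.Perm.sign (π ⟨k, hk⟩) = 1 then (1 : C2) else C2.one') = _
    cases hca : chr false a
    · obtain ⟨i, j, l, hij, e⟩ := lab_even a hca
      have : π ⟨k, hk⟩ = Equiv.swap i j * Equiv.swap j l :=
        Equiv.ext fun x => lab_inj _ _ ((hperm x).trans (e x))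
      rw [this, map_mul]
      rcases hij with ⟨rfl, rfl⟩ | ⟨h1, h2⟩
      · rw [Equiv.swap_self]; simp [Equiv.Perm.sign_refl]; rfl
      · rw [Equiv.Perm.sign_swap h1, Equiv.Perm.sign_swap h2]; rfl
    · obtain ⟨i, j, hij, e⟩ := lab_swap a hca
      have : π ⟨k, hk⟩ = Equiv.swap i j := Equiv.ext fun x => lab_inj _ _ ((hperm x).trans (e x))
      rw [this, Equiv.Perm.sign_swap hij]; rfl
  let x1 := D.es (1, true)
  have hx1 : IsConj t x1 := (D.es_mark hmk' (by decide +kernel)).2 (by decide)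
  have hx1a : D.Acts x1 (mkQ true iS) := by
    rw [good_SU.2.2.1]
    have h' := (D.acts_emb 1).mul D.acts_s
    rw [idA_comp] at h'
    exact h'
  obtain ⟨hx1d, hx1c⟩ := (D.coset_lemma hmk' hdT hx1 hx1a).2 good_SU.2.2.2
  -- fusion of the two classes
  have hx2 : IsConj t (n * f.emb 10) := (f.mul_unmarked hmk (f.emb_sq 10) h10
    (fun h => absurd ((hmk 10).1 h) (by decide))).2 hnm
  have hx2a : D.Acts (n * f.emb 10) (mkQ true iSU) := by
    rw [← good_SU.2.1]
    have h := hnd.mul D.acts_s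
    rwa [show D.s = f.emb 10 from f.dual_s] at h
  have hfuse : ∃ h ∈ H, h⁻¹ * x1 * h = n * f.emb 10 := by
    obtain ⟨p, hp⟩ := f.mem_T_iff.1 (hmemP _ (f.emb_mem_T 10) h10)
    have hpp : esm p p = (0, false) := f.es_inj (by
      rw [← es_es, ← hp, ← es_e, emb_zero,
        show g * f.emb 10 * g⁻¹ * (g * f.emb 10 * g⁻¹) = g * (f.emb 10 * f.emb 10) * g⁻¹ by group,
        emb_sq]
      group)
    obtain ⟨v, hv, hve⟩ := hevD 3 (by decide)
    have hnc : esm p (δ v) ≠ esm (δ v) p := fun h => by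
      have hc := f.commute_es_iff.2 h
      rw [← hp, ← dual_emb, ← hve] at hc
      have hc' : Commute (f.emb 10) (f.dual.emb 3) := by
        have := congrArg (fun y => g⁻¹ * y * g) hc.eq
        show _ = _
        simpa [mul_assoc] using this
      rw [he3, es_e, commute_es_iff] at hc'
      exact absurd hc' (by decide +kernel)
    have hd : ∀ p q : Fin 16 × Bool, q.1 ∈ ZT → esm p p = (0, false) → esm p q ≠ esm q p →
        p.2 = false ∧ p.1 ∉ ZT := by decide +kernel
    obtain ⟨hp2, hp1⟩ := hd p (δ v) (δ_E' v) hpp hnc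
    obtain ⟨w, b⟩ := p
    obtain rfl : b = false := hp2
    rw [← es_e] at hp
    have hw : par w = false := Bool.eq_false_iff.2 fun h => by
      have := isConj_of_conj (hp ▸ (hmk w).2 h : IsConj t (g * f.emb 10 * g⁻¹))
      exact absurd ((hmk 10).1 this) (by decide)
    have hy : g * (n * f.emb 10) * g⁻¹ = f.emb (1 ^^^ w) := by
      rw [show g * (n * f.emb 10) * g⁻¹ = g * n * g⁻¹ * (g * f.emb 10 * g⁻¹) by group, hg, hp, t_mul]
    have hd2 : ∀ w, w ∉ ZT → ∃ u, esm (δ u) (10, false) = ((1 : Fin 16) ^^^ w, false) := by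
      decide +kernel
    obtain ⟨u, hu⟩ := hd2 w hp1
    have hya : D.Acts (g * (n * f.emb 10) * g⁻¹) (mkQ true iS) := by
      rw [good_SU.2.2.1, hy, es_e, ← hu, show f.es (esm (δ u) (10, false)) = D.es (u, true) from
        (f.dual_es u true).symm]
      have h' := (D.acts_emb u).mul D.acts_s
      rw [idA_comp] at h'
      exact h'
    obtain ⟨h, hh, e⟩ := hx1c _ (isConj_conj hx2) hya
    refine ⟨h * g, mul_mem (hNE hh) hgH, ?_⟩
    rw [show (h * g)⁻¹ * x1 * (h * g) = g⁻¹ * (h⁻¹ * x1 * h) * g by group, e]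
    group
  refine hG (exists_index_two_of_classes f.orderOf_t f.T_le f.card_T f.card64 χ
    (fun _ : Unit => x1) (by simp) (fun _ => ⟨hx1, ?_, hx1d.trans (Subgroup.card_dvd_of_le
      (inf_le_inf_right _ hNE))⟩) (fun _ _ _ _ _ => rfl) ?_)
  · rw [hχa _ _ hx1a, show chr false iS = true from sigma_T.1.2]; decide
  intro x hx hcj hv _
  rw [val_of_mem χ hx] at hv
  have hsgn : Equiv.Perm.sign (π ⟨x, hx⟩) ≠ 1 := fun h => hv (if_pos h)
  have hpow : π ⟨x, hx⟩ ^ 2 = 1 := by
    rw [← map_pow, show (⟨x, hx⟩ : H) ^ 2 = 1 from Subtype.ext (by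
      rw [Subgroup.coe_pow, sq, f.sq_of_conj hcj]; rfl), map_one]
  obtain ⟨i, hi⟩ : ∃ i, π ⟨x, hx⟩ i = i := by
    by_contra hno
    refine hsgn ?_
    rw [Equiv.Perm.sign_of_pow_two_eq_one hpow]
    have : Fintype.card (Function.fixedPoints (π ⟨x, hx⟩)) = 0 :=
      Fintype.card_eq_zero_iff.2 ⟨fun p => hno ⟨p.1, p.2⟩⟩
    rw [this, Fintype.card_fin]
    rfl
  obtain ⟨h0, hh0⟩ : ∃ h0 : H, σ h0 i = 0 := by
    have hX : D.X ∈ H := hNE D.X_mem_NE
    have hg1 : σ ⟨g, hgH⟩ 1 = 0 := by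
      refine lab_inj _ _ (pure_inj _ _ ((hkey ⟨g, hgH⟩ 1 n hnm hnd).eq ?_))
      show D.Acts (g * n * g⁻¹) (pure 0)
      rw [hg]; exact D.acts_self
    have hXs : ∀ j, lab (σ ⟨D.X, hX⟩ j) = app R (lab j) := fun j =>
      pure_inj _ _ ((hσ ⟨D.X, hX⟩ j).eq (D.pure_conj D.acts_X (by decide +kernel) (hrepa j)))
    have hd : ∀ i : Fin 4, i = 0 ∨ i = 1 ∨ app R (lab i) = lab 1 ∨
        app R (app R (lab i)) = lab 1 := by decide +kernel
    rcases hd i with rfl | rfl | h | h
    · exact ⟨1, hone 0⟩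
    · exact ⟨_, hg1⟩
    · refine ⟨⟨g, hgH⟩ * ⟨D.X, hX⟩, ?_⟩
      rw [hmul, lab_inj _ 1 ((hXs i).trans h), hg1]
    · refine ⟨⟨g, hgH⟩ * (⟨D.X, hX⟩ * ⟨D.X, hX⟩), ?_⟩
      rw [hmul, hmul, lab_inj _ 1 ((hXs _).trans ((congrArg (app R) (hXs i)).trans h)), hg1]
  -- the conjugate fixing the label of `t`
  set y : H := h0 * ⟨x, hx⟩ * h0⁻¹ with hy
  have hy0 : σ y 0 = 0 := by
    rw [hy, hmul, hmul]
    have h' : σ h0⁻¹ 0 = i := by
      rw [← hh0, ← hmul, inv_mul_cancel, hone]
    rw [h', show σ ⟨x, hx⟩ i = i from hi, hh0]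
  have hyt : D.Acts ((y : G) * t * (y : G)⁻¹) (pure 0) := by
    have h := hkey y 0 t (IsConj.refl t) D.acts_self
    rwa [hy0] at h
  rw [show pure 0 = idA by decide +kernel] at hyt
  obtain ⟨u, hu⟩ := D.eq_emb_of_acts_id hyt
  have hyN : (y : G) ∈ D.NE := D.mem_NE_of_Fx fun v => by
    cases hp : par v
    · obtain ⟨w, -, hw⟩ := (mem_set_normalizer_iff.1 y.2.1 (D.emb v)).1 ⟨v, hp, rfl⟩
      exact ⟨w, hw⟩
    · have hd : ∀ v, par v = true → par (1 ^^^ v) = false ∧ v = 1 ^^^ (1 ^^^ v) := by decide +kernel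
      obtain ⟨w, -, hw⟩ := (mem_set_normalizer_iff.1 y.2.1 (D.emb (1 ^^^ v))).1 ⟨_, (hd v hp).1, rfl⟩
      refine ⟨u ^^^ w, ?_⟩
      rw [show D.emb v = t * D.emb (1 ^^^ v) by
        refine (congrArg D.emb (hd v hp).2).trans ?_
        rw [D.t_mul], D.emb_mul u w, ← hu, ← hw]
      group
  obtain ⟨a, ha⟩ := D.exists_idx' hmk' hdT hyN
  have hycj : IsConj t (y : G) := by
    rw [hy, Subgroup.coe_mul, Subgroup.coe_mul, Subgroup.coe_inv]
    exact isConj_conj hcj
  have hca : chr false a = true := by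
    by_contra hc
    have h := hχa _ _ ha
    rw [Bool.not_eq_true _ |>.mp hc, val_of_mem χ y.2, hy, map_mul, map_mul, map_inv] at h
    refine hv ?_
    rcases C2.cases (χ ⟨x, hx⟩) with h' | h'
    · exact h'
    · rw [h', mul_comm (χ h0), mul_assoc, mul_inv_cancel, mul_one] at h
      exact absurd h (by decide)
  have hsq : comp (mkQ true a) (mkQ true a) = idA := by
    have h := ha.mul ha
    rw [f.sq_of_conj hycj] at h
    exact h.eq D.acts_one
  rcases sigma_T.2 a hca hsq with hb | ⟨r, hr, b, hb⟩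
  · exact absurd hb (D.coset_lemma hmk' hdT hycj ha).1
  obtain ⟨k, hk⟩ := D.real_mkQ hdT b
  obtain ⟨M, hM⟩ := hk.inv
  have h1 : comp (mkQ true b) M = idA := (mul_inv_cancel k ▸ hk.mul hM : D.Acts 1 _).eq D.acts_one
  have hka := (hk.mul ha).mul hM
  rw [hb, comp_assoc, h1, comp_idA] at hka
  obtain ⟨j, hj, hje⟩ : ∃ j ∈ H, j⁻¹ * x1 * j = k * (y : G) * k⁻¹ := by
    simp only [List.cons_append, List.nil_append, List.mem_cons, List.not_mem_nil, or_false] at hr
    rcases hr with rfl | rfl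
    · obtain ⟨j, hj, e⟩ := hx1c _ (isConj_conj hycj) hka
      exact ⟨j, hNE hj, e⟩
    · obtain ⟨j, hj, e⟩ := ((D.coset_lemma hmk' hdT hx2 hx2a).2 good_SU.1).2 _ (isConj_conj hycj) hka
      obtain ⟨i, hi, e'⟩ := hfuse
      refine ⟨i * j, mul_mem hi (hNE hj), ?_⟩
      rw [← e, ← e']; group
  refine ⟨(), j * k * (h0 : G), mul_mem (mul_mem hj (hNE (D.mem_NE_of_acts hk))) h0.2, ?_⟩
  show (j * k * (h0 : G))⁻¹ * x1 * (j * k * (h0 : G)) = x
  rw [show (j * k * (h0 : G))⁻¹ * x1 * (j * k * (h0 : G)) =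
    (h0 : G)⁻¹ * (k⁻¹ * (j⁻¹ * x1 * j) * k) * (h0 : G) by group, hje, hy]
  simp only [Subgroup.coe_mul, Subgroup.coe_inv]
  group

end Frame

end CfsgLib.Characterizations.TwoTimesSymmetric
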