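import Cfsg.Agent.Lib.Characterizations.TwoTimesSymmetric.Coord
import Cfsg.Agent.Lib.Characterizations.TwoTimesSymmetric.Mixed

/-!
# Four central conjugates, `E` not normal in `N(T)`
-/

set_option autoImplicit false
set_option linter.unusedSectionVars false
set_option linter.style.haveILetI false
set_option maxRecDepth 4000
set_option maxHeartbeats 1000000

namespace CfsgLib.Characterizations.TwoTimesSymmetric

open Subgroup CfsgLib.Characterizations.TwoTimesSymmetric.Count
open CfsgLib.Characterizations.TwoTimesSymmetric.Coord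

namespace Frame

variable {G : Type*} [Group G] [Finite G] {t : G} (f : Frame t)

/-- The element with given coordinates. -/
def hs (r : G) (p : Co) : G := f.es (p.1, p.2.1) * pw r p.2.2

/-- `g` induces `F` on coordinates. -/
def Sim (r g : G) (F : Co → Co) : Prop := ∀ p, g * f.hs r p * g⁻¹ = f.hs r (F p)

/-- The hypotheses on `r`. -/
structure RData (r : G) : Prop where
  acts : f.Acts r (pure 6)
  comm : r * f.s * r⁻¹ = f.s
  invol : r * r = 1

variable {r : G} (hd : f.RData r)
include hd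

theorem r_es (u : Fin 16) (c : Bool) : r * f.es (u, c) = f.es (app (pure 6) u, c) * r := by
  refine mul_inv_eq_iff_eq_mul.1 ?_
  rw [es, es, show r * (f.emb (u, c).1 * pw f.s (u, c).2) * r⁻¹ =
    r * f.emb u * r⁻¹ * (r * pw f.s c * r⁻¹) by group, hd.acts u]
  cases c
  · simp [pw]
  · show _ * (r * f.s * r⁻¹) = _
    rw [hd.comm]; rfl

theorem hs_mu (p q : Co) : f.hs r (mu p q) = f.hs r p * f.hs r q := by
  obtain ⟨v, b, i⟩ := p
  obtain ⟨w, c, j⟩ := q
  have h1 : pw r (xor i j) = pw r i * pw r j := pw_xor hd.invol i j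
  have h2 : ∀ (v u : Fin 16) (b c : Bool),
      esm (v, b) (u, c) = (v ^^^ (bif b then app S u else u), xor b c) := fun _ _ _ _ => rfl
  rw [mu_eq]
  show f.es _ * pw r (xor i j) = f.es (v, b) * pw r i * (f.es (w, c) * pw r j)
  simp only [muRaw]
  cases i
  · simp only [pw, cond_false, Bool.false_xor, mul_one, one_mul]
    rw [← mul_assoc (f.es (v, b)), es_es, h2]
  · rw [h1]
    show _ * (r * pw r j) = f.es (v, b) * r * (f.es (w, c) * pw r j)
    rw [mul_assoc (f.es (v, b)) r, ← mul_assoc r, f.r_es hd, mul_assoc (f.es (app (pure 6) w, c)),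
      ← mul_assoc (f.es (v, b)), es_es, h2]
    simp only [cond_true]

theorem r_not_T : ∀ q, r ≠ f.es q := fun q h => by
  have h1 := conj_t (t := t) (f.T_le (f.es_mem_T q))
  rw [← h, f.acts_fst hd.acts] at h1
  exact absurd (f.emb_inj (h1.trans f.emb_one.symm)) (by decide)

theorem hs_inj {p q : Co} (h : f.hs r p = f.hs r q) : p = q := by
  obtain ⟨v, b, i⟩ := p
  obtain ⟨w, c, j⟩ := q
  simp only [hs] at h
  cases i <;> cases j <;> simp only [pw, cond_true, cond_false, mul_one] at h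
  · have := f.es_inj h
    simp_all
  · exfalso
    obtain ⟨x, hx⟩ := f.mem_T_iff.1 (mul_mem (inv_mem (f.es_mem_T (w, c))) (f.es_mem_T (v, b)))
    exact f.r_not_T hd x (by rw [← hx, h]; group)
  · exfalso
    obtain ⟨x, hx⟩ := f.mem_T_iff.1 (mul_mem (inv_mem (f.es_mem_T (v, b))) (f.es_mem_T (w, c)))
    exact f.r_not_T hd x (by rw [← hx, ← h]; group)
  · have := f.es_inj (mul_right_cancel h)
    simp_all

omit hd
theorem hs_T (p : Fin 16 × Bool) : f.hs r (p.1, p.2, false) = f.es p := mul_one _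

theorem hs_r : f.hs r (0, false, true) = r := by
  show f.es (0, false) * r = r
  rw [← f.es_one, one_mul]

theorem hs_one : f.hs r Coord.one = 1 := (f.hs_T (r := r) (0, false)).trans f.es_one.symm

theorem hs_t : f.hs r (1, false, false) = t := (f.hs_T (r := r) (1, false)).trans f.es_t.symm

include hd

theorem hs_cinv (p : Co) : f.hs r (cinv p) = (f.hs r p)⁻¹ := by
  refine (inv_eq_of_mul_eq_one_right ?_).symm
  rw [← f.hs_mu hd, mu_cinv]; exact f.hs_one

theorem sim_cj (h : Co) : f.Sim r (f.hs r h) (cj h) := fun p => by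
  rw [← f.hs_cinv hd, cj, f.hs_mu hd, f.hs_mu hd]

omit hd
theorem sim_comp {g h : G} {F K : Co → Co} (hg : f.Sim r g F) (hh : f.Sim r h K) :
    f.Sim r (g * h) (fun p => F (K p)) := fun p => by
  rw [← hg, ← hh]; group

include hd

theorem sim_mk {g : G} (F : Fin 16 → Co) (cs cr : Co) (hE : ∀ v, g * f.emb v * g⁻¹ = f.hs r (F v))
    (hS : g * f.s * g⁻¹ = f.hs r cs) (hR : g * r * g⁻¹ = f.hs r cr) :
    f.Sim r g (ext3 F cs cr) := by
  rintro ⟨v, b, i⟩
  have hb : f.hs r (bif b then cs else Coord.one) = g * pw f.s b * g⁻¹ := by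
    cases b
    · show f.hs r Coord.one = g * 1 * g⁻¹
      rw [f.hs_one]; group
    · exact hS.symm
  have hi : f.hs r (bif i then cr else Coord.one) = g * pw r i * g⁻¹ := by
    cases i
    · show f.hs r Coord.one = g * 1 * g⁻¹
      rw [f.hs_one]; group
    · exact hR.symm
  rw [ext3, nrm_eq, f.hs_mu hd, f.hs_mu hd, ← hE, hb, hi, hs, es]
  group

/-- The subgroup `T⟨r⟩`. -/
def H1 : Subgroup G where
  carrier := {x | ∃ p, x = f.hs r p}
  one_mem' := ⟨Coord.one, f.hs_one.symm⟩
  mul_mem' := by rintro _ _ ⟨p, rfl⟩ ⟨q, rfl⟩; exact ⟨mu p q, (f.hs_mu hd p q).symm⟩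
  inv_mem' := by rintro _ ⟨p, rfl⟩; exact ⟨cinv p, (f.hs_cinv hd p).symm⟩

theorem hs_mem (p : Co) : f.hs r p ∈ f.H1 hd := ⟨p, rfl⟩

theorem card_H1 : Nat.card (f.H1 hd) = 64 := by
  let F : Co → f.H1 hd := fun p => ⟨f.hs r p, f.hs_mem hd p⟩
  have hF : Function.Bijective F := ⟨fun a b h => f.hs_inj hd (congrArg Subtype.val h), by
    rintro ⟨_, p, rfl⟩; exact ⟨p, rfl⟩⟩
  rw [← Nat.card_eq_of_bijective F hF, Nat.card_eq_fintype_card]
  rfl

/-- The characters of `T⟨r⟩`. -/
theorem exists_ev (g j : Bool) : ∃ φ : ↥(f.H1 hd) →* C2, ∀ p, val φ (f.hs r p) = toC2 (ev g j p) := by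
  choose I hI using fun x : f.H1 hd => x.2
  let φ : ↥(f.H1 hd) →* C2 := MonoidHom.mk' (fun x => toC2 (ev g j (I x))) fun a b => by
    have : I (a * b) = mu (I a) (I b) := f.hs_inj hd (by
      rw [← hI, f.hs_mu hd, ← hI, ← hI]; rfl)
    rw [this, ev_mul, toC2_xor]
  refine ⟨φ, fun p => ?_⟩
  rw [val_of_mem φ (f.hs_mem hd p)]
  show toC2 (ev g j (I ⟨f.hs r p, _⟩)) = _
  rw [f.hs_inj hd ((hI ⟨f.hs r p, f.hs_mem hd p⟩).symm)]

theorem sim_normal {g : G} {F : Co → Co} (hg : f.Sim r g F) : ∀ h ∈ f.H1 hd, g * h * g⁻¹ ∈ f.H1 hd := by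
  rintro _ ⟨p, rfl⟩
  exact ⟨F p, hg p⟩

theorem sim_val {g : G} {F : Co → Co} (hg : f.Sim r g F) {φ : ↥(f.H1 hd) →* C2} {gb j : Bool}
    (hφ : ∀ p, val φ (f.hs r p) = toC2 (ev gb j p)) (hi : ∀ p, ev gb j (F p) = ev gb j p) :
    ∀ h ∈ f.H1 hd, val φ (g * h * g⁻¹) = val φ h := by
  rintro _ ⟨p, rfl⟩
  rw [hg, hφ, hφ, hi]

theorem not_mem_H1 {g : G} {F : Co → Co} (hg : f.Sim r g F)
    (h : ∀ h : Co, ∃ p ∈ genCo, cj h p ≠ F p) : g ∉ f.H1 hd := by
  rintro ⟨q, rfl⟩
  obtain ⟨p, -, hp⟩ := h q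
  exact hp (f.hs_inj hd ((f.sim_cj hd q p).symm.trans (hg p)))

/-- Marks in `T⟨r⟩`. -/
theorem hs_mark (hmk : ∀ v, f.Mk v ↔ par v = true) {k : Bool} (hk : IsConj t r ↔ k = true) {p : Co}
    (hp : mu p p = Coord.one) : IsConj t (f.hs r p) ↔ mkb k p = true := by
  obtain ⟨v, b, i⟩ := p
  have hT : ∀ v b, esm (v, b) (v, b) = ((mu (v, b, false) (v, b, false)).1, (mu (v, b, false) (v, b, false)).2.1) :=
    fun _ _ => by rw [mu_eq]; rfl
  cases i
  · show IsConj t (f.es (v, b) * 1) ↔ _
    rw [mul_one, f.es_mark hmk (by rw [hT, hp]; rfl)]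
    simp [mkb]
  show IsConj t (f.es (v, b) * r) ↔ _
  have hd' : ∀ v b, mu (v, b, true) (v, b, true) = one →
      (b = false → app (pure 6) v = v ∧ par v = false) ∧
        (b = true → app (pure 6) (app S v) = v) := by
    decide +kernel
  obtain ⟨hb0, hfix⟩ := hd' v b hp
  have hmkb : mkb k (v, b, true) = xor (par v) k := by simp [mkb]
  rw [hmkb]
  cases b
  · obtain ⟨hfx, hpv⟩ := hb0 rfl
    rw [← es_e, show f.emb v * r = r * f.emb v from
      ((mul_inv_eq_iff_eq_mul.1 ((hd.acts v).trans (by rw [hfx])))).symm,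
      f.mul_unmarked hmk (f.emb_sq v) (mul_inv_eq_iff_eq_mul.1 ((hd.acts v).trans (by rw [hfx])))
        (fun h => by have := (hmk v).1 h; rw [hpv] at this; exact Bool.false_ne_true this), hk, hpv,
      Bool.false_xor]
  · have hrs : Commute r f.s := mul_inv_eq_iff_eq_mul.1 hd.comm
    have hx2 : r * f.s * (r * f.s) = 1 := by
      rw [Commute.mul_mul_mul_comm hrs.symm, hd.invol, f.ss, one_mul]
    have hs0 : ¬ IsConj t f.s := fun h => by
      rw [f.es_s, f.es_mark hmk (by rfl)] at h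
      exact absurd h (by decide)
    have hrsm : IsConj t (r * f.s) ↔ k = true := (f.mul_unmarked hmk f.ss hrs hs0).trans hk
    have hc : Commute (f.emb v) (r * f.s) := by
      refine Commute.symm (mul_inv_eq_iff_eq_mul.1 ?_)
      rw [(hd.acts.mul f.acts_s) v, app_comp, hfix rfl]
    rw [show f.es (v, true) * r = f.emb v * (r * f.s) by rw [hrs.eq, ← mul_assoc]; rfl]
    cases hv : par v
    · rw [hc.eq, f.mul_unmarked hmk (f.emb_sq v) hc.symm
        (fun h => by have := (hmk v).1 h; rw [hv] at this; exact Bool.false_ne_true this), hrsm,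
        Bool.false_xor]
    · rw [f.mul_mark_iff hmk ((hmk v).2 hv) hx2 hc, hrsm]
      cases k <;> simp

/-- The entries of a chain are conjugate to the first one. -/
theorem conj_of_chain {H : Subgroup G} {gens : List (Co → Co)}
    (hg : ∀ F ∈ gens, ∃ g ∈ H, f.Sim r g F) {O : List Co} {h : Co} (hh : O.head? = some h)
    (hC : Chain gens O) : ∀ p ∈ O, ∃ k ∈ H, k * f.hs r h * k⁻¹ = f.hs r p := by
  have key : ∀ (m : ℕ) (i : Fin O.length), i.val = m → ∃ k ∈ H, k * f.hs r h * k⁻¹ = f.hs r (O.get i) := by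
    intro m
    induction m using Nat.strong_induction_on with
    | _ m ih =>
      intro i hi
      rcases hC i with h0 | ⟨j, hj, F, hF, e⟩
      · refine ⟨1, one_mem H, ?_⟩
        rw [List.head?_eq_getElem?] at hh
        obtain ⟨hlt, hh⟩ := List.getElem?_eq_some_iff.1 hh
        have : i = ⟨0, hlt⟩ := Fin.ext h0
        rw [this, List.get_eq_getElem]
        simp only [hh]
        group
      · obtain ⟨k, hk, ek⟩ := ih j.val (hi ▸ hj) j rfl
        obtain ⟨g, hgH, hgF⟩ := hg F hF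
        exact ⟨g * k, mul_mem hgH hk, by rw [← e, ← hgF, ← ek]; group⟩
  intro p hp
  obtain ⟨i, rfl⟩ := List.mem_iff_get.1 hp
  exact key _ i rfl

theorem H1_le_normalizer {A : Set G}
    (h : ∀ F ∈ baseMaps, ∀ g, f.Sim r g F → g ∈ normalizer A) : f.H1 hd ≤ normalizer A := by
  have hm : ∀ c ∈ genCo, f.hs r c ∈ normalizer A := fun c hc =>
    h (cj c) (List.mem_map.2 ⟨c, hc, rfl⟩) _ (f.sim_cj hd c)
  have hpw : ∀ (x : G) (b : Bool), x ∈ normalizer A → pw x b ∈ normalizer A := fun x b hx => by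
    cases b; exacts [one_mem _, hx]
  have m1 : t ∈ normalizer A := by
    have := hm (1, false, false) (by simp [genCo])
    rwa [hs_t] at this
  have me : ∀ v, f.hs r (v, false, false) = f.emb v := fun v =>
    (f.hs_T (r := r) (v, false)).trans (f.es_e v).symm
  have m2 : f.a1 ∈ normalizer A := by
    have := hm (2, false, false) (by simp [genCo])
    rwa [me, emb_a1] at this
  have m4 : f.a2 ∈ normalizer A := by
    have := hm (4, false, false) (by simp [genCo])
    rwa [me, emb_a2] at this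
  have m8 : f.a3 ∈ normalizer A := by
    have := hm (8, false, false) (by simp [genCo])
    rwa [me, emb_a3] at this
  have ms : f.s ∈ normalizer A := by
    have := hm (0, true, false) (by simp [genCo])
    rwa [show f.hs r (0, true, false) = f.s from (f.hs_T (r := r) (0, true)).trans f.es_s.symm] at this
  have mr : r ∈ normalizer A := by
    have := hm (0, false, true) (by simp [genCo])
    rwa [hs_r] at this
  rintro _ ⟨⟨v, b, i⟩, rfl⟩
  exact mul_mem (mul_mem (mul_mem (mul_mem (mul_mem (hpw _ _ m1) (hpw _ _ m2)) (hpw _ _ m4))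
    (hpw _ _ m8)) (hpw _ _ ms)) (hpw _ _ mr)

/-- Transfer computed in coordinates. -/
theorem transfer_coord (hmk : ∀ v, f.Mk v ↔ par v = true) {k : Bool} (hk : IsConj t r ↔ k = true)
    {H : Subgroup G} (χ : ↥H →* C2) {g j : Bool} {e : ℕ} (hle : f.H1 hd ≤ H)
    (hχ : ∀ p, val χ (f.hs r p) = toC2 (ev g j p)) (hcard : Nat.card H = 2 ^ (5 + e))
    {gens : List (Co → Co)} (hgens : ∀ F ∈ gens, ∃ g ∈ H, f.Sim r g F)
    (hgen : ∀ A : Set G, (∀ F ∈ gens, ∀ g, f.Sim r g F → g ∈ normalizer A) → H ≤ normalizer A)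
    {heads : List Co} {orb : Co → List Co} (hok : OrbitsOK gens heads orb k g j (2 ^ e))
    (hodd : Odd (Nat.card {h // h ∈ heads}))
    (hout : ∀ x ∈ H, x ∉ f.H1 hd → x * x = 1 → val χ x ≠ 1 →
      ¬ 32 ∣ Nat.card (H ⊓ centralizer ({x} : Set G) : Subgroup G)) :
    ∃ H : Subgroup G, H.index = 2 := by
  classical
  obtain ⟨hheads, hdis, hcov⟩ := hok
  have hnorm : ∀ h ∈ heads, ∀ x ∈ H, ∀ p ∈ orb h,
      ∃ q ∈ orb h, x * f.hs r p * x⁻¹ = f.hs r q := by
    intro h hh x hx p hp
    have hA : H ≤ normalizer (f.hs r '' {q | q ∈ orb h}) := by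
      refine hgen _ fun F hF y hy => normalizer_of_maps ?_
      rintro _ ⟨q, hq, rfl⟩
      have hcl := List.all_eq_true.1 (List.all_eq_true.1 (hheads h hh).2.2.2.2.2.2.2 q hq) F hF
      exact ⟨F q, List.contains_iff_mem.1 hcl, (hy q).symm⟩
    obtain ⟨q, hq, e⟩ := (mem_set_normalizer_iff.1 (hA hx) _).1 ⟨p, hp, rfl⟩
    exact ⟨q, hq, e.symm⟩
  have hhead : ∀ h ∈ heads, h ∈ orb h := fun h hh =>
    List.mem_of_mem_head? (hheads h hh).2.2.2.2.2.1
  refine exists_index_two_of_classes f.orderOf_t f.T_le f.card_T f.card64 χ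
    (fun h : {h // h ∈ heads} => f.hs r h) hodd (fun h => ⟨?_, ?_, ?_⟩) ?_ ?_
  · exact (f.hs_mark hd hmk hk (hheads h h.2).1).2 (hheads h h.2).2.2.1
  · rw [hχ, (hheads h h.2).2.2.2.1]; decide
  · refine dvd_of_class hcard ((class_le_of_forall (ι := Fin (orb h.1).length)
      (fun i => f.hs r ((orb h.1).get i)) fun x hx => ?_).trans ?_)
    · obtain ⟨q, hq, e⟩ := hnorm h h.2 x hx _ (hhead h h.2)
      obtain ⟨i, hi⟩ := List.mem_iff_get.1 hq
      exact ⟨i, by rw [hi]; exact e⟩
    · rw [Fintype.card_fin]; exact (hheads h h.2).2.2.2.2.1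
  · intro a b x hx he
    obtain ⟨q, hq, e⟩ := hnorm a a.2 x⁻¹ (inv_mem hx) _ (hhead a a.2)
    rw [inv_inv, he] at e
    exact Subtype.ext (hdis a a.2 b b.2 (f.hs_inj hd e ▸ hq))
  · intro x hx hcj hv h32
    have hxx := f.sq_of_conj hcj
    by_cases hx1 : x ∈ f.H1 hd
    · obtain ⟨p, rfl⟩ := hx1
      have hpp : mu p p = Coord.one := f.hs_inj hd (by rw [f.hs_mu hd, hxx, f.hs_one])
      have hev : ev g j p = true := by
        by_contra h
        rw [Bool.not_eq_true] at h
        rw [hχ, h] at hv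
        exact hv rfl
      obtain ⟨h, hh, hp⟩ := hcov p hpp ((f.hs_mark hd hmk hk hpp).1 hcj) hev
      obtain ⟨c, hc, e⟩ := f.conj_of_chain hd hgens (hheads h hh).2.2.2.2.2.1 (hheads h hh).2.2.2.2.2.2.1 p hp
      exact ⟨⟨h, hh⟩, c⁻¹, inv_mem hc, by rw [inv_inv]; exact e⟩
    · exact absurd h32 (hout x hx hx1 hxx hv)

omit hd

theorem RData.of_swap {n : G} {ρ w : Fin 16} (h : f.SwapData n r ρ w) : f.RData r :=
  ⟨h.hr, h.hrs, h.hrr⟩

theorem sim_N {n : G} {ρ w : Fin 16} (h : f.SwapData n r ρ w) : f.Sim r n (Nm w ρ) := by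
  have hd := RData.of_swap f h
  have me : ∀ v, f.hs r (v, false, false) = f.emb v := fun v =>
    (f.hs_T (r := r) (v, false)).trans (f.es_e v).symm
  have mw : f.hs r (w, true, false) = n * f.a1 * n⁻¹ := (f.hs_T (r := r) (w, true)).trans h.hna.symm
  have hns : n * f.s * n⁻¹ = f.emb (app nu w ^^^ 4) := by
    have hsq : n * n * f.a1 * (n * n)⁻¹ = f.emb 4 := by
      rw [← emb_a1, h.hnn, show r * f.emb ρ * f.emb 2 * (r * f.emb ρ)⁻¹ =
        r * (f.emb ρ * f.emb 2 * (f.emb ρ)⁻¹) * r⁻¹ by group, (f.emb_comm ρ 2).eq, mul_inv_cancel_right,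
        h.hr 2]
      rfl
    have e : n * (f.emb w * f.s) * n⁻¹ = f.emb 4 := by
      rw [← hsq, show n * n * f.a1 * (n * n)⁻¹ = n * (n * f.a1 * n⁻¹) * n⁻¹ by group, h.hna]; rfl
    calc n * f.s * n⁻¹ = (n * f.emb w * n⁻¹)⁻¹ * (n * (f.emb w * f.s) * n⁻¹) := by group
      _ = _ := by rw [e, h.hn w h.hw, emb_inv, ← emb_mul]
  refine f.sim_mk hd _ _ _ (fun v => ?_) ?_ ?_
  · by_cases hv : v ∈ ZT
    · rw [if_pos hv, me]; exact h.hn v hv
    · rw [if_neg hv, f.hs_mu hd, mw, me]
      have hd2 : ∀ v : Fin 16, v ∉ ZT → (v ^^^ 2) ∈ ZT ∧ v = (v ^^^ 2) ^^^ 2 := by decide +kernel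
      conv_lhs => rw [(hd2 v hv).2, emb_mul, emb_a1]
      rw [← h.hn _ (hd2 v hv).1]; group
  · rw [hns, me]
  · have hq : f.hs r (app (pure 6) (ρ ^^^ app nu ρ), false, true) = r * (f.emb ρ * f.emb (app nu ρ)) := by
      rw [← emb_mul]
      show f.es _ * r = _
      rw [← f.r_es hd, ← es_e]
    rw [hq, ← h.hn ρ h.hρ]
    have hr' : r = n * n * f.emb ρ := by rw [h.hnn, mul_assoc, f.emb_sq, mul_one]
    calc n * r * n⁻¹ = n * (n * n * f.emb ρ) * n⁻¹ := by rw [← hr']
      _ = n * n * (n * f.emb ρ * n⁻¹) := by group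
      _ = r * (f.emb ρ * (n * f.emb ρ * n⁻¹)) := by rw [h.hnn, mul_assoc]

theorem sq_swap {n : G} {ρ w : Fin 16} (h : f.SwapData n r ρ w) : n * n = f.hs r (qc ρ) := by
  rw [h.hnn, hs, qc, es_e]
  exact f.r_es (RData.of_swap f h) ρ false

/-- The rotated element. -/
theorem exists_rot (hmk : ∀ v, f.Mk v ↔ par v = true) (hd : f.RData r) {k : Bool}
    (hk : IsConj t r ↔ k = true) :
    ∃ a v1, a * a = 1 ∧ f.Sim r a (Am k v1) ∧
      (k = false → v1 ∈ evenZ) ∧ (k = true → v1 ∈ ([2, 4, 11, 13] : List (Fin 16))) := by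
  set a := f.X * r * f.X⁻¹ with ha
  have haa : a * a = 1 := by
    rw [ha, show f.X * r * f.X⁻¹ * (f.X * r * f.X⁻¹) = f.X * (r * r) * f.X⁻¹ by group, hd.invol]; group
  have hai : a⁻¹ = a := inv_eq_of_mul_eq_one_right haa
  have haA : f.Acts a (pure 12) := by
    have h := (f.acts_X.mul hd.acts).mul (f.acts_X.mul f.acts_X)
    rw [← f.X_inv, show comp (comp R (pure 6)) (comp R R) = pure 12 by decide +kernel] at h
    exact h
  have haI : f.Acts a⁻¹ (pure 12) := by rw [hai]; exact haA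
  -- the image of `s`
  have hx : f.Acts (a * f.s * a⁻¹) (7, 2, 4, 14) := by
    have h := (haA.mul f.acts_s).mul haI
    rwa [show comp (comp (pure 12) S) (pure 12) = (7, 2, 4, 14) by decide +kernel] at h
  have hrs' : f.Acts (f.s * r) (7, 2, 4, 14) := by
    have h := f.acts_s.mul hd.acts
    rwa [show comp S (pure 6) = (7, 2, 4, 14) by decide +kernel] at h
  obtain ⟨u, hu⟩ := f.eq_mul_of_acts hx hrs'
  have hu' : a * f.s * a⁻¹ = f.hs r (app (comp S (pure 6)) u, true, true) := by
    rw [hu, show f.hs r (app (comp S (pure 6)) u, true, true) =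
      f.emb (app (comp S (pure 6)) u) * f.s * r from rfl, ← (f.acts_s.mul hd.acts) u]
    group
  set v1 := app (comp S (pure 6)) u
  have hxx : a * f.s * a⁻¹ * (a * f.s * a⁻¹) = 1 := by
    rw [show a * f.s * a⁻¹ * (a * f.s * a⁻¹) = a * (f.s * f.s) * a⁻¹ by group, f.ss]; group
  have hv1 : mu (v1, true, true) (v1, true, true) = Coord.one := f.hs_inj hd (by
    rw [f.hs_mu hd, ← hu', hxx, f.hs_one])
  have hunm : mkb k (v1, true, true) = false := by
    rw [← Bool.not_eq_true, ← f.hs_mark hd hmk hk hv1, ← hu']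
    intro h
    have := isConj_of_conj h
    rw [f.es_s, f.es_mark hmk (by rfl)] at this
    exact absurd this (by decide)
  have hv1' : (k = false → v1 ∈ evenZ) ∧ (k = true → v1 ∈ ([2, 4, 11, 13] : List (Fin 16))) := by
    have hd2 : ∀ k v, mu (v, true, true) (v, true, true) = one → mkb k (v, true, true) = false →
        (k = false → v ∈ evenZ) ∧ (k = true → v ∈ ([2, 4, 11, 13] : List (Fin 16))) := by decide +kernel
    exact hd2 k v1 hv1 hunm
  -- the image of `r`
  have hxr : f.Acts (a * r * a⁻¹) (pure 6) := by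
    have h := (haA.mul hd.acts).mul haI
    rwa [show comp (comp (pure 12) (pure 6)) (pure 12) = pure 6 by decide +kernel] at h
  obtain ⟨u2, hu2⟩ := f.eq_mul_of_acts hxr hd.acts
  have hu2' : a * r * a⁻¹ = f.hs r (app (pure 6) u2, false, true) := by
    rw [hu2, show f.hs r (app (pure 6) u2, false, true) = f.es (app (pure 6) u2, false) * r from rfl,
      ← f.r_es hd, es_e]
  set v2 := app (pure 6) u2
  have hback : a * (a * f.s * a⁻¹) * a⁻¹ = f.s := by
    rw [show a * (a * f.s * a⁻¹) * a⁻¹ = a * a * f.s * (a * a)⁻¹ by group, haa]; group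
  have himg : f.hs r (mu (mu (app (pure 12) v1, false, false) (v1, true, true)) (v2, false, true)) =
      f.hs r (0, true, false) := by
    rw [f.hs_mu hd, f.hs_mu hd, show f.hs r (app (pure 12) v1, false, false) = a * f.emb v1 * a⁻¹ from
      ((f.hs_T (r := r) _).trans (f.es_e _).symm).trans (haA v1).symm, ← hu', ← hu2',
      show f.hs r (0, true, false) = f.s from (f.hs_T (r := r) (0, true)).trans f.es_s.symm,
      show a * f.emb v1 * a⁻¹ * (a * f.s * a⁻¹) * (a * r * a⁻¹) = a * (f.emb v1 * f.s * r) * a⁻¹ by group,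
      show f.emb v1 * f.s * r = a * f.s * a⁻¹ from hu'.symm, hback]
  have hv2 : v2 = bif k then 10 else 0 := by
    have hd3 : ∀ k v1 v2, (k = false → v1 ∈ evenZ) → (k = true → v1 ∈ ([2, 4, 11, 13] : List (Fin 16))) →
        mu (mu (app (pure 12) v1, false, false) (v1, true, true)) (v2, false, true) =
          ((0, true, false) : Co) → v2 = bif k then 10 else 0 := by decide +kernel
    exact hd3 k v1 v2 hv1'.1 hv1'.2 (f.hs_inj hd himg)
  refine ⟨a, v1, haa, f.sim_mk hd _ _ _ (fun v => ?_) hu' ?_, hv1'⟩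
  · rw [haA v]; exact ((f.hs_T (r := r) _).trans (f.es_e _).symm).symm
  · rw [hu2', hv2]

variable (hmk : ∀ v, f.Mk v ↔ par v = true)
include hmk

/-- Marked `r`. -/
theorem swap_marked (hd : f.RData r) (hr : IsConj t r) : ∃ H : Subgroup G, H.index = 2 := by
  obtain ⟨a, v1, haa, hA, -, hv⟩ := f.exists_rot hmk hd (k := true) ⟨fun _ => rfl, fun _ => hr⟩
  have hv1 := hv rfl
  obtain ⟨φ, hφ⟩ := f.exists_ev hd true (v1.val.testBit 0)
  have hnot : a ∉ f.H1 hd := f.not_mem_H1 hd hA fun h =>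
    ⟨(1, false, false), by simp [genCo], A_fresh true v1 h⟩
  obtain ⟨X⟩ := exists_extension φ (g := a) 1 (f.sim_normal hd hA) (by rw [haa]; exact one_mem _) hnot
    (f.sim_val hd hA hφ (inv_A1 v1 hv1)) (by rw [haa]; exact val_one φ)
  have hcard : Nat.card X.K = 2 ^ (5 + 2) := by rw [X.card_eq, f.card_H1 hd]; norm_num
  refine f.transfer_coord hd hmk (k := true) ⟨fun _ => rfl, fun _ => hr⟩ X.χ X.le
    (fun p => (X.val_old _ (f.hs_mem hd p)).trans (hφ p)) hcard (gens := baseMaps ++ [Am true v1]) ?_ ?_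
    (marked_orbits v1 hv1) ?_ ?_
  · intro F hF
    rcases List.mem_append.1 hF with h | h
    · obtain ⟨c, -, rfl⟩ := List.mem_map.1 h
      exact ⟨_, X.le (f.hs_mem hd c), f.sim_cj hd c⟩
    · rw [List.mem_singleton] at h; subst h
      exact ⟨a, X.self, hA⟩
  · intro A hA' x hx
    have h1 := f.H1_le_normalizer hd fun F hF => hA' F (List.mem_append_left _ hF)
    rcases (X.mem x).1 hx with h | h
    · exact h1 h
    · have := mul_mem (h1 h) (hA' _ (by simp) a hA)
      rwa [inv_mul_cancel_right] at this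
  · rw [Nat.card_eq_fintype_card]
    have hlen : ∀ c : Bool, Fintype.card {h // h ∈ ([(1, false, false), (1, true, false),
        (bif c then 0 else 3, false, true)] : List Co)} = 3 := by decide
    rw [show Fintype.card {h // h ∈ ([(1, false, false), (1, true, false), headR v1] : List Co)} = 3
      from hlen _]
    decide
  · intro x hx hx1 hxx hv
    obtain ⟨h, rfl⟩ : ∃ h, x = f.hs r h * a := by
      obtain ⟨h, hh⟩ := ((X.mem x).1 hx).resolve_left hx1
      exact ⟨h, by rw [← hh, inv_mul_cancel_right]⟩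
    have hai : a⁻¹ = a := inv_eq_of_mul_eq_one_right haa
    have hmh : mu h (Am true v1 h) = Coord.one := f.hs_inj hd (by
      rw [f.hs_mu hd, ← hA h, hai, f.hs_one, ← hxx]; group)
    have hev : ev true (v1.val.testBit 0) h = true := by
      by_contra hc
      rw [Bool.not_eq_true] at hc
      rw [X.val_new _ (f.hs_mem hd h), hφ, hc, mul_one] at hv
      exact hv rfl
    have hlen := marked_outside v1 hv1 h hmh hev
    refine not_dvd_of_class hcard ?_
    set L := outerClass v1 h with hL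
    have hLc : ∀ p ∈ L, ∃ k ∈ X.K, k * (f.hs r h * a) * k⁻¹ = f.hs r p * a := by
      intro p hp
      rw [hL, outerClass, List.mem_dedup, List.mem_flatMap] at hp
      obtain ⟨k, -, hp⟩ := hp
      simp only [List.mem_cons, List.not_mem_nil, or_false] at hp
      have hk := X.le (f.hs_mem hd k)
      rcases hp with rfl | rfl
      · refine ⟨_, hk, ?_⟩
        rw [f.hs_mu hd, f.hs_mu hd, ← hA, f.hs_cinv hd]; group
      · refine ⟨_, mul_mem hk X.self, ?_⟩
        rw [f.hs_mu hd, f.hs_mu hd, ← hA, ← hA, f.hs_cinv hd]; group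
    let F : Fin L.length → {y : G // ∃ k ∈ X.K, k * (f.hs r h * a) * k⁻¹ = y} :=
      fun i => ⟨f.hs r (L.get i) * a, hLc _ (L.get_mem i)⟩
    have hF : Function.Injective F := fun i j e =>
      (List.Nodup.get_inj_iff (List.nodup_dedup _)).1 (f.hs_inj hd (mul_right_cancel (congrArg Subtype.val e)))
    calc 2 ^ 2 < L.length := by omega
      _ ≤ _ := (Fintype.card_fin _).symm.le.trans
        ((Nat.card_eq_fintype_card).symm.le.trans (Nat.card_le_card_of_injective F hF))

/-- Unmarked `r`. -/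
theorem swap_unmarked {n : G} {ρ w : Fin 16} (h : f.SwapData n r ρ w) (hr : ¬ IsConj t r) :
    ∃ H : Subgroup G, H.index = 2 := by
  have hd := RData.of_swap f h
  have hk : IsConj t r ↔ false = true := ⟨fun h => absurd h hr, fun h => absurd h (by decide)⟩
  have hN := f.sim_N h
  have hw := oddZ_cases w h.hw h.hwp
  have hnn := f.sq_swap h
  have hq : n * n ∈ f.H1 hd := hnn ▸ f.hs_mem hd _
  have hbase : ∀ {K : Subgroup G}, f.H1 hd ≤ K → ∀ F ∈ baseMaps, ∃ g ∈ K, f.Sim r g F := by
    intro K hK F hF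
    obtain ⟨c, -, rfl⟩ := List.mem_map.1 hF
    exact ⟨_, hK (f.hs_mem hd c), f.sim_cj hd c⟩
  have hmoved : ∀ {x : G} {F : Co → Co}, f.Sim r x F → (∃ p ∈ genCo, F p ≠ p) → x ≠ 1 := by
    rintro x F hx ⟨p, -, hp⟩ rfl
    refine hp (f.hs_inj hd ?_)
    rw [← hx p]; group
  have hpz : ∀ ρ ∈ ZT, ev false (par ρ) (qc ρ) = false := by decide +kernel
  cases hj : par ρ
  swap
  · -- odd
    have hρ := oddZ_cases ρ h.hρ hj
    obtain ⟨φ, hφ⟩ := f.exists_ev hd false true
    have hnot : n ∉ f.H1 hd := f.not_mem_H1 hd hN fun c =>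
      ⟨(1, false, false), by simp [genCo], N_fresh w ρ c⟩
    obtain ⟨X⟩ := exists_extension φ (g := n) 1 (f.sim_normal hd hN) hq hnot
      (f.sim_val hd hN hφ (hj ▸ inv_N w hw ρ h.hρ)) (by
        have := hpz ρ h.hρ
        rw [hj] at this
        rw [hnn, hφ, this]; rfl)
    have hcard : Nat.card X.K = 2 ^ (5 + 2) := by rw [X.card_eq, f.card_H1 hd]; norm_num
    refine f.transfer_coord hd hmk hk X.χ X.le (fun p => (X.val_old _ (f.hs_mem hd p)).trans (hφ p))
      hcard (gens := baseMaps ++ [Nm w ρ]) ?_ ?_ (single_orbits w hw ρ hρ) ?_ ?_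
    · intro F hF
      rcases List.mem_append.1 hF with h' | h'
      · exact hbase X.le F h'
      · rw [List.mem_singleton] at h'; subst h'
        exact ⟨n, X.self, hN⟩
    · intro A hA' x hx
      have h1 := f.H1_le_normalizer hd fun F hF => hA' F (List.mem_append_left _ hF)
      rcases (X.mem x).1 hx with h' | h'
      · exact h1 h'
      · have := mul_mem (h1 h') (hA' _ (by simp) n hN)
        rwa [inv_mul_cancel_right] at this
    · rw [Nat.card_eq_fintype_card]; decide
    · intro x hx hx1 hxx _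
      exfalso
      obtain ⟨c, hc⟩ := ((X.mem x).1 hx).resolve_left hx1
      obtain rfl : x = f.hs r c * n := by rw [← hc, inv_mul_cancel_right]
      exact hmoved (f.sim_comp (f.sim_comp (f.sim_cj hd c) hN) (f.sim_comp (f.sim_cj hd c) hN))
        (single_outside w hw ρ hρ c) hxx
  · -- even
    have hρ := evenZ_cases ρ h.hρ hj
    obtain ⟨a, v1, haa, hA, hv, -⟩ := f.exists_rot hmk hd hk
    have hv1 := hv rfl
    have hai : a⁻¹ = a := inv_eq_of_mul_eq_one_right haa
    obtain ⟨φ, hφ⟩ := f.exists_ev hd false false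
    have hφa := f.sim_val hd hA hφ (inv_A0 v1 hv1)
    have hiN : ∀ p, ev false false (Nm w ρ p) = ev false false p := fun p => by
      have := inv_N w hw ρ h.hρ p
      rwa [hj] at this
    have hφn := f.sim_val hd hN hφ hiN
    have hφq : val φ (n * n) = 1 := by
      have := hpz ρ h.hρ
      rw [hj] at this
      rw [hnn, hφ, this]; rfl
    obtain ⟨X3⟩ := exists_extension φ (g := a) 1 (f.sim_normal hd hA) (by rw [haa]; exact one_mem _)
      (f.not_mem_H1 hd hA fun c => ⟨(1, false, false), by simp [genCo], A_fresh false v1 c⟩)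
      hφa (by rw [haa]; exact val_one φ)
    -- the conjugate
    set b := n * a * n⁻¹ with hb
    have hbb : b * b = 1 := by
      rw [hb, show n * a * n⁻¹ * (n * a * n⁻¹) = n * (a * a) * n⁻¹ by group, haa]; group
    have hbi : b⁻¹ = b := inv_eq_of_mul_eq_one_right hbb
    have hB : f.Sim r b (Bm w ρ v1) := by
      have h' := f.sim_comp hN (f.sim_comp hA (f.sim_comp hN (f.sim_cj hd (cinv (qc ρ)))))
      have e : n * (a * (n * f.hs r (cinv (qc ρ)))) = b := by
        rw [f.hs_cinv hd, ← hnn, hb]; group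
      rw [e] at h'
      exact h'
    have hφb : ∀ p ∈ f.H1 hd, val φ (b * p * b⁻¹) = val φ p := by
      intro p hp
      obtain ⟨p, rfl⟩ := hp
      rw [hB p, hφ, hφ, Bm, hiN, inv_A0 v1 hv1, hiN]
      simp only [cj, ev_mul]
      have e : ∀ q, ev false false (cinv q) = ev false false q := by decide +kernel
      simp only [e]
      cases ev false false (qc ρ) <;> cases ev false false p <;> rfl
    -- the square of `a b`
    obtain ⟨⟨p0, hp0⟩, hp0'⟩ := double_square w hw ρ hρ v1 hv1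
    set v := a * b * (a * b)
    have hvS : f.Sim r v _ := f.sim_comp (f.sim_comp hA hB) (f.sim_comp hA hB)
    obtain ⟨pv, hpv, hpv0⟩ : ∃ p, v = f.hs r p ∧ ev false false p = false := by
      have hsame : ∀ c ∈ genCo, (f.hs r p0)⁻¹ * v * f.hs r c * ((f.hs r p0)⁻¹ * v)⁻¹ = f.hs r c := by
        intro c hc
        rw [show (f.hs r p0)⁻¹ * v * f.hs r c * ((f.hs r p0)⁻¹ * v)⁻¹ =
          (f.hs r p0)⁻¹ * (v * f.hs r c * v⁻¹) * f.hs r p0 by group, hvS c]
        simp only [hp0 c hc]
        rw [← f.sim_cj hd p0 c]; group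
      have me : ∀ u, f.hs r (u, false, false) = f.emb u := fun u =>
        (f.hs_T (r := r) (u, false)).trans (f.es_e u).symm
      have hacts : f.Acts ((f.hs r p0)⁻¹ * v) idA := by
        refine f.acts_mk ?_ ?_ ?_ ?_
        · have := hsame (1, false, false) (by simp [genCo])
          rw [hs_t] at this
          exact this.trans f.emb_one.symm
        · have := hsame (2, false, false) (by simp [genCo])
          rw [me, emb_a1] at this
          exact this.trans f.emb_a1.symm
        · have := hsame (4, false, false) (by simp [genCo])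
          rw [me, emb_a2] at this
          exact this.trans f.emb_a2.symm
        · have := hsame (8, false, false) (by simp [genCo])
          rw [me, emb_a3] at this
          exact this.trans f.emb_a3.symm
      obtain ⟨e, he⟩ := f.eq_emb_of_acts_id hacts
      refine ⟨mu p0 (e, false, false), ?_, hp0' _ fun c hc => ?_⟩
      · rw [f.hs_mu hd, me, ← he]; group
      · refine f.hs_inj hd ?_
        rw [← hvS c, ← f.sim_cj hd]
        rw [f.hs_mu hd, me, ← he]; group
    have hvinv : b * a * b * a = v⁻¹ := by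
      show _ = (a * b * (a * b))⁻¹
      rw [mul_inv_rev, mul_inv_rev, hai, hbi]; group
    have hbab : b * a * b⁻¹ = v⁻¹ * a := by
      rw [hbi, ← hvinv, mul_assoc (b * a * b) a a, haa, mul_one]
    have hv1' : v⁻¹ ∈ f.H1 hd := inv_mem (hpv ▸ f.hs_mem hd pv)
    have hvv : val φ v⁻¹ = 1 := by
      rw [val_inv φ (hpv ▸ f.hs_mem hd pv), hpv, hφ, hpv0]; rfl
    have hBn := f.sim_normal hd hB
    have hb3 : ∀ p ∈ X3.K, b * p * b⁻¹ ∈ X3.K ∧ val X3.χ (b * p * b⁻¹) = val X3.χ p := by
      intro p hp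
      rcases (X3.mem p).1 hp with hp' | hp'
      · exact ⟨X3.le (hBn p hp'), by rw [X3.val_old _ (hBn p hp'), X3.val_old _ hp', hφb p hp']⟩
      · have e : b * p * b⁻¹ = b * (p * a⁻¹) * b⁻¹ * v⁻¹ * a := by
          rw [mul_assoc (b * (p * a⁻¹) * b⁻¹), ← hbab]; group
        have hm := mul_mem (hBn _ hp') hv1'
        refine ⟨?_, ?_⟩
        · rw [e]; exact mul_mem (X3.le hm) X3.self
        · rw [e, X3.val_new _ hm, val_mul φ (hBn _ hp') hv1', hφb _ hp', hvv, mul_one]
          conv_rhs => rw [show p = p * a⁻¹ * a by group]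
          rw [X3.val_new _ hp']
    have hfresh := double_fresh w hw ρ hρ v1 hv1
    have hb_not : b ∉ X3.K := by
      intro hm
      rcases (X3.mem b).1 hm with hm | ⟨c, hc⟩
      · exact f.not_mem_H1 hd hB (fun c => (hfresh c).1) hm
      · obtain ⟨p, -, hp⟩ := (hfresh c).2.1
        refine hp (f.hs_inj hd ?_)
        rw [← hB p, ← f.sim_comp (f.sim_cj hd c) hA p, ← hc]; group
    obtain ⟨X5⟩ := exists_extension X3.χ (g := b) 1 (fun p hp => (hb3 p hp).1)
      (by rw [hbb]; exact one_mem _) hb_not (fun p hp => (hb3 p hp).2) (by rw [hbb]; exact val_one _)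
    have hle5 : f.H1 hd ≤ X5.K := X3.le.trans X5.le
    have hχ5 : ∀ p ∈ f.H1 hd, val X5.χ p = val φ p := fun p hp => by
      rw [X5.val_old _ (X3.le hp), X3.val_old _ hp]
    have ha5 : a ∈ X5.K := X5.le X3.self
    have hva : val X5.χ a = 1 := by
      have := X3.val_new 1 (one_mem _)
      rw [one_mul, val_one, one_mul] at this
      rw [X5.val_old _ X3.self, this]
    have hvb : val X5.χ b = 1 := by
      have := X5.val_new 1 (one_mem _)
      rwa [one_mul, val_one, one_mul] at this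
    have hnb : n * b * n⁻¹ = n * n * a * (n * n)⁻¹ := by rw [hb]; group
    have hn5 : ∀ p ∈ X5.K, n * p * n⁻¹ ∈ X5.K ∧ val X5.χ (n * p * n⁻¹) = val X5.χ p := by
      have hN1 : ∀ p ∈ f.H1 hd, n * p * n⁻¹ ∈ X5.K ∧ val X5.χ (n * p * n⁻¹) = val X5.χ p :=
        fun p hp => ⟨hle5 (f.sim_normal hd hN p hp), by
          rw [hχ5 _ (f.sim_normal hd hN p hp), hχ5 _ hp, hφn p hp]⟩
      have hNa : n * a * n⁻¹ ∈ X5.K ∧ val X5.χ (n * a * n⁻¹) = val X5.χ a :=
        ⟨X5.self, by rw [← hb, hva, hvb]⟩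
      have hNb : n * b * n⁻¹ ∈ X5.K ∧ val X5.χ (n * b * n⁻¹) = val X5.χ b := by
        rw [hnb]
        refine ⟨mul_mem (mul_mem (hle5 hq) ha5) (inv_mem (hle5 hq)), ?_⟩
        rw [val_mul _ (mul_mem (hle5 hq) ha5) (inv_mem (hle5 hq)), val_mul _ (hle5 hq) ha5,
          val_inv _ (hle5 hq), hχ5 _ hq, hφq, hva, hvb]
        rfl
      have hmul : ∀ p q, p ∈ X5.K → q ∈ X5.K →
          (n * p * n⁻¹ ∈ X5.K ∧ val X5.χ (n * p * n⁻¹) = val X5.χ p) →
          (n * q * n⁻¹ ∈ X5.K ∧ val X5.χ (n * q * n⁻¹) = val X5.χ q) →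
          (n * (p * q) * n⁻¹ ∈ X5.K ∧ val X5.χ (n * (p * q) * n⁻¹) = val X5.χ (p * q)) := by
        intro p q hp hq ⟨h1, h2⟩ ⟨h3, h4⟩
        rw [show n * (p * q) * n⁻¹ = n * p * n⁻¹ * (n * q * n⁻¹) by group]
        exact ⟨mul_mem h1 h3, by rw [val_mul _ h1 h3, h2, h4, val_mul _ hp hq]⟩
      have hN3 : ∀ p ∈ X3.K, n * p * n⁻¹ ∈ X5.K ∧ val X5.χ (n * p * n⁻¹) = val X5.χ p := by
        intro p hp
        rcases (X3.mem p).1 hp with hp' | hp'
        · exact hN1 p hp'
        · rw [show p = p * a⁻¹ * a by group]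
          exact hmul _ _ (hle5 hp') ha5 (hN1 _ hp') hNa
      intro p hp
      rcases (X5.mem p).1 hp with hp' | hp'
      · exact hN3 p hp'
      · rw [show p = p * b⁻¹ * b by group]
        exact hmul _ _ (X5.le hp') X5.self (hN3 _ hp') hNb
    -- decomposition
    have hdec : ∀ x ∈ X5.K, ∃ c, ∃ g ∈ ({1, a, b, a * b} : Set G), x = f.hs r c * g := by
      intro x hx
      rcases (X5.mem x).1 hx with hx' | hx'
      · rcases (X3.mem x).1 hx' with hx'' | hx''
        · obtain ⟨c, rfl⟩ := hx''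
          exact ⟨c, 1, by simp, (mul_one _).symm⟩
        · obtain ⟨c, hc⟩ := hx''
          exact ⟨c, a, by simp, by rw [← hc, inv_mul_cancel_right]⟩
      · rcases (X3.mem _).1 hx' with hx'' | hx''
        · obtain ⟨c, hc⟩ := hx''
          exact ⟨c, b, by simp, by rw [← hc, inv_mul_cancel_right]⟩
        · obtain ⟨c, hc⟩ := hx''
          exact ⟨c, a * b, by simp, by rw [← hc]; group⟩
    have hAB := f.sim_comp hA hB
    have hn_not : n ∉ X5.K := by
      intro hm
      obtain ⟨c, g, hg, e⟩ := hdec n hm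
      obtain ⟨h1, h2, h3, h4, h5, h6⟩ := hfresh c
      have key : ∀ (F : Co → Co), f.Sim r g F → (∃ p ∈ genCo, cj c (F p) ≠ Nm w ρ p) → False := by
        rintro F hF ⟨p, -, hp⟩
        exact hp (f.hs_inj hd ((f.sim_comp (f.sim_cj hd c) hF p).symm.trans (e ▸ hN p)))
      rcases hg with h' | h' | h' | h' <;> subst g
      · exact key id (fun p => by simp) h3
      · exact key _ hA h4
      · exact key _ hB h5
      · exact key _ hAB h6
    obtain ⟨X⟩ := exists_extension X5.χ (g := n) 1 (fun p hp => (hn5 p hp).1) (hle5 hq) hn_not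
      (fun p hp => (hn5 p hp).2) (by rw [hχ5 _ hq, hφq])
    have hcard : Nat.card X.K = 2 ^ (5 + 4) := by
      rw [X.card_eq, X5.card_eq, X3.card_eq, f.card_H1 hd]; norm_num
    have hleX : f.H1 hd ≤ X.K := hle5.trans X.le
    refine f.transfer_coord hd hmk hk X.χ hleX
      (fun p => by rw [X.val_old _ (hle5 (f.hs_mem hd p)), hχ5 _ (f.hs_mem hd p), hφ]) hcard
      (gens := baseMaps ++ [Nm w ρ, Am false v1]) ?_ ?_ (double_orbits w hw ρ hρ v1 hv1) ?_ ?_
    · intro F hF
      rcases List.mem_append.1 hF with h' | h'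
      · exact hbase hleX F h'
      · simp only [List.mem_cons, List.not_mem_nil, or_false] at h'
        rcases h' with rfl | rfl
        · exact ⟨n, X.self, hN⟩
        · exact ⟨a, X.le ha5, hA⟩
    · intro A hA' x hx
      have h1 := f.H1_le_normalizer hd fun F hF => hA' F (List.mem_append_left _ hF)
      have hn' := hA' _ (by simp) n hN
      have ha' := hA' _ (by simp) a hA
      have hb' : b ∈ normalizer A := mul_mem (mul_mem hn' ha') (inv_mem hn')
      have h5' : ∀ y ∈ X5.K, y ∈ normalizer A := by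
        intro y hy
        obtain ⟨c, g, hg, rfl⟩ := hdec y hy
        refine mul_mem (h1 (f.hs_mem hd c)) ?_
        rcases hg with h' | h' | h' | h' <;> subst g
        exacts [one_mem _, ha', hb', mul_mem ha' hb']
      rcases (X.mem x).1 hx with h' | h'
      · exact h5' x h'
      · have := mul_mem (h5' _ h') hn'
        rwa [inv_mul_cancel_right] at this
    · rw [Nat.card_eq_fintype_card]; decide
    · intro x hx hx1 hxx hv' _
      have hxK : x ∈ X.K := hx
      obtain ⟨c, g, hev, hgS, hxe⟩ : ∃ c g, ev false false c = true ∧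
          (∃ F ∈ outerMaps w ρ v1, f.Sim r g F) ∧ x = f.hs r c * g := by
        have hvn : val X.χ n = 1 := by
          have := X.val_new 1 (one_mem _)
          rwa [one_mul, val_one, one_mul] at this
        have hgv : ∀ g ∈ ({1, a, b, a * b} : Set G), g ∈ X5.K ∧ val X5.χ g = 1 := by
          rintro g (rfl | rfl | rfl | rfl)
          exacts [⟨one_mem _, val_one _⟩, ⟨ha5, hva⟩, ⟨X5.self, hvb⟩,
            ⟨mul_mem ha5 X5.self, by rw [val_mul _ ha5 X5.self, hva, hvb, mul_one]⟩]
        have hc : ∀ c g (i : Bool), g ∈ ({1, a, b, a * b} : Set G) → x = f.hs r c * g * pw n i →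
            ev false false c = true := by
          intro c g i hg he
          by_contra hc
          rw [Bool.not_eq_true] at hc
          refine hv' ?_
          obtain ⟨hgm, hg1⟩ := hgv g hg
          have hm : f.hs r c * g ∈ X5.K := mul_mem (hle5 (f.hs_mem hd c)) hgm
          have hv5 : val X5.χ (f.hs r c * g) = 1 := by
            rw [val_mul _ (hle5 (f.hs_mem hd c)) hgm, hχ5 _ (f.hs_mem hd c), hφ, hc, hg1]; rfl
          cases i
          · rw [he]; show val X.χ (f.hs r c * g * 1) = 1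
            rw [mul_one, X.val_old _ hm, hv5]
          · rw [he]; show val X.χ (f.hs r c * g * n) = 1
            rw [X.val_new _ hm, hv5, mul_one]
        rcases (X.mem x).1 hxK with h' | h'
        · obtain ⟨c, g, hg, he⟩ := hdec x h'
          have hev := hc c g false hg (by rw [he]; exact (mul_one _).symm)
          rcases hg with h' | h' | h' | h' <;> subst g
          · exact absurd (by rw [he, mul_one]; exact f.hs_mem hd c) hx1
          · exact ⟨c, a, hev, ⟨_, by simp [outerMaps], hA⟩, he⟩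
          · exact ⟨c, b, hev, ⟨_, by simp [outerMaps], hB⟩, he⟩
          · exact ⟨c, a * b, hev, ⟨_, by simp [outerMaps], hAB⟩, he⟩
        · obtain ⟨c, g, hg, he⟩ := hdec _ h'
          have hxe : x = f.hs r c * g * n := by rw [← he, inv_mul_cancel_right]
          have hev := hc c g true hg hxe
          rcases hg with h' | h' | h' | h' <;> subst g
          · exact ⟨c, n, hev, ⟨_, by simp [outerMaps], hN⟩, by rw [hxe, mul_one]⟩
          · exact ⟨c, a * n, hev, ⟨_, by simp [outerMaps], f.sim_comp hA hN⟩, by rw [hxe, mul_assoc]⟩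
          · exact ⟨c, b * n, hev, ⟨_, by simp [outerMaps], f.sim_comp hB hN⟩, by rw [hxe, mul_assoc]⟩
          · exact ⟨c, a * (b * n), hev, ⟨_, by simp [outerMaps], f.sim_comp hA (f.sim_comp hB hN)⟩,
              by rw [hxe]; group⟩
      obtain ⟨F, hF, hgF⟩ := hgS
      rw [hxe] at hxx
      obtain ⟨p, hp, hpne⟩ := List.any_eq_true.1
        (List.all_eq_true.1 (double_outside w hw ρ hρ v1 hv1 c hev) F hF)
      exact hmoved (f.sim_comp (f.sim_comp (f.sim_cj hd c) hgF) (f.sim_comp (f.sim_cj hd c) hgF))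
        ⟨p, hp, bne_iff_ne.1 hpne⟩ hxx

/-- Four central conjugates with `E` not normal in `N(T)`. -/
theorem swap_case (hsw : ∃ g ∈ f.NT, ¬ f.Fx g) : ∃ H : Subgroup G, H.index = 2 := by
  obtain ⟨n, r', ρ, w, h⟩ := f.exists_swap hmk hsw
  by_cases hr : IsConj t r'
  · exact f.swap_marked hmk (RData.of_swap f h) hr
  · exact f.swap_unmarked hmk h hr

end Frame

end CfsgLib.Characterizations.TwoTimesSymmetric
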