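import Cfsg.Agent.Lib.Characterizations.TwoTimesSymmetric.Pair
import Cfsg.Agent.Lib.Characterizations.TwoTimesSymmetric.Swap

/-!
# A subgroup of index two from a frame
-/

set_option autoImplicit false
set_option linter.unusedSectionVars false
set_option maxRecDepth 4000

namespace CfsgLib.Characterizations.TwoTimesSymmetric

open Subgroup CfsgLib.Characterizations.TwoTimesSymmetric.Count

namespace Frame

variable {G : Type*} [Group G] [Finite G] {t : G} (f : Frame t)

/-- Four central conjugates. -/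
theorem four (hA : ∀ v ∈ ZT, f.Mk v ↔ (v = 1 ∨ v = 7 ∨ v = 8 ∨ v = 14)) :
    ∃ H : Subgroup G, H.index = 2 := by
  have hmk : ∀ v, f.Mk v ↔ par v = true := f.mk_of_ZT (fun v hv => (hA v hv).trans (by
      have : ∀ v ∈ ZT, (v = 1 ∨ v = 7 ∨ v = 8 ∨ v = 14) ↔ par v = true := by decide +kernel
      exact this v hv))
    (fun v => by
      have : ∀ v, par (app R v) = par v := by decide +kernel
      rw [this v])
  by_cases hsw : ∃ g ∈ f.NT, ¬ f.Fx g
  · exact f.swap_case hmk hsw
  by_contra hG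
  push Not at hsw
  have hmk' := f.dual_hmk hmk
  have hns' : ∀ g ∈ f.dual.NT, f.dual.Fx g := fun g hg =>
    f.Fx_dual (f.dual_NT ▸ hg) (hsw g (f.dual_NT ▸ hg))
  obtain ⟨z, hz⟩ := f.exists_type hmk hsw
  obtain ⟨z', hz'⟩ := f.dual.exists_type hmk' hns'
  cases z <;> cases z'
  · exact f.not_both_I hmk hsw hG hz hz'
  · exact f.mixed hmk hsw hG hz hz'
  · exact f.dual.mixed hmk' hns' hG hz' (f.dd_hasQ hz)
  · obtain ⟨n, -, -, hnd, hnm⟩ := f.exists_pure_mark hmk hsw hG hz'
    obtain ⟨m, -, hmd, -, hmm⟩ := f.dual.exists_pure_mark hmk' hns' hG (f.dd_hasQ hz)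
    exact f.dual_d_unmarked hmk hG hz' hnm hnd m hmm hmd

include f in
/-- A frame gives a subgroup of index two. -/
theorem index_two : ∃ H : Subgroup G, H.index = 2 := by
  by_contra hG
  rcases f.patterns hG with h | h | h | h
  · exact hG (f.pair h)
  · exact hG (f.four h)
  · refine hG (f.twist.four fun v hv => ?_)
    have key : ∀ v ∈ ZT, ((v &&& 14) ^^^ (bif par v then 1 else 0) : Fin 16) ∈ ZT ∧
        ((((v &&& 14) ^^^ (bif par v then 1 else 0) : Fin 16) = 1 ∨
          ((v &&& 14) ^^^ (bif par v then 1 else 0) : Fin 16) = 7 ∨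
          ((v &&& 14) ^^^ (bif par v then 1 else 0) : Fin 16) = 9 ∨
          ((v &&& 14) ^^^ (bif par v then 1 else 0) : Fin 16) = 15) ↔
          (v = 1 ∨ v = 7 ∨ v = 8 ∨ v = 14)) := by decide +kernel
    show IsConj t _ ↔ _
    rw [f.twist_emb]
    exact (h _ (key v hv).1).trans (key v hv).2
  · exact f.not_three h

end Frame

end CfsgLib.Characterizations.TwoTimesSymmetric
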