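import Cfsg.Agent.Lib.Characterizations.TwoTimesSymmetric.Frame

/-!
# A frame in a centralizer isomorphic to `Z₂ × Sₙ`, `n = 6, 7`
-/

set_option autoImplicit false
set_option linter.unusedSectionVars false
set_option linter.style.haveILetI false
set_option maxRecDepth 4000
set_option maxHeartbeats 1000000

namespace CfsgLib.Characterizations.TwoTimesSymmetric

open Subgroup Equiv

namespace Model

/-- A product of chosen generators. -/
def pr {n : ℕ} (A B C : Perm (Fin n)) (b : Bool × Bool × Bool) : Perm (Fin n) :=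
  pw A b.1 * pw B b.2.1 * pw C b.2.2

/-- Four points determine the elements commuting with three involutions. -/
def Points {n : ℕ} (A B C : Perm (Fin n)) (p0 p1 p2 p3 : Fin n) : Prop :=
  (∀ i, ∃ b, pr A B C b p0 = i ∨ pr A B C b p1 = i ∨ pr A B C b p2 = i ∨ pr A B C b p3 = i) ∧
    ∀ x0, (∀ b, pr A B C b p0 = p0 ↔ pr A B C b x0 = x0) →
    ∀ x1, (∀ b, (pr A B C b p1 = p1 ↔ pr A B C b x1 = x1) ∧ (pr A B C b p0 = p1 ↔ pr A B C b x0 = x1)) →
    ∀ x2, (∀ b, (pr A B C b p2 = p2 ↔ pr A B C b x2 = x2) ∧ (pr A B C b p0 = p2 ↔ pr A B C b x0 = x2) ∧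
      (pr A B C b p1 = p2 ↔ pr A B C b x1 = x2)) →
    ∀ x3, (∀ b, (pr A B C b p3 = p3 ↔ pr A B C b x3 = x3) ∧ (pr A B C b p0 = p3 ↔ pr A B C b x0 = x3) ∧
      (pr A B C b p1 = p3 ↔ pr A B C b x1 = x3) ∧ (pr A B C b p2 = p3 ↔ pr A B C b x2 = x3)) →
    ∃ c, pr A B C c p0 = x0 ∧ pr A B C c p1 = x1 ∧ pr A B C c p2 = x2 ∧ pr A B C c p3 = x3

set_option synthInstance.maxSize 4096 in
instance {n : ℕ} (A B C : Perm (Fin n)) (p0 p1 p2 p3 : Fin n) : Decidable (Points A B C p0 p1 p2 p3) := by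
  unfold Points; infer_instance

theorem exists_pr {n : ℕ} {A B C : Perm (Fin n)} {p0 p1 p2 p3 : Fin n} (h : Points A B C p0 p1 p2 p3)
    (hAB : Commute A B) (hAC : Commute A C) (hBC : Commute B C) {g : Perm (Fin n)}
    (hA : Commute g A) (hB : Commute g B) (hC : Commute g C) : ∃ b, g = pr A B C b := by
  have hp : ∀ (x y : Perm (Fin n)) (b : Bool), Commute x y → Commute x (pw y b) := fun x y b hxy => by
    cases b; exacts [Commute.one_right x, hxy]
  have hcomm : ∀ x, Commute x A → Commute x B → Commute x C → ∀ b p, x (pr A B C b p) = pr A B C b (x p) :=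
    fun x h1 h2 h3 b p => by
      have := ((hp x A b.1 h1).mul_right (hp x B b.2.1 h2)).mul_right (hp x C b.2.2 h3)
      exact congrArg (fun q : Perm (Fin n) => q p) this.eq
  have hiff : ∀ b p q, pr A B C b p = q ↔ pr A B C b (g p) = g q := fun b p q => by
    rw [← hcomm g hA hB hC]; exact g.injective.eq_iff.symm
  obtain ⟨hgen, hval⟩ := h
  obtain ⟨c, e0, e1, e2, e3⟩ := hval (g p0) (fun b => hiff b _ _) (g p1) (fun b => ⟨hiff b _ _, hiff b _ _⟩)
    (g p2) (fun b => ⟨hiff b _ _, hiff b _ _, hiff b _ _⟩) (g p3)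
    (fun b => ⟨hiff b _ _, hiff b _ _, hiff b _ _, hiff b _ _⟩)
  have hcA : Commute (pr A B C c) A := (((hp A A c.1 (Commute.refl A)).mul_right (hp A B c.2.1 hAB)).mul_right
    (hp A C c.2.2 hAC)).symm
  have hcB : Commute (pr A B C c) B := (((hp B A c.1 hAB.symm).mul_right (hp B B c.2.1 (Commute.refl B))).mul_right
    (hp B C c.2.2 hBC)).symm
  have hcC : Commute (pr A B C c) C := (((hp C A c.1 hAC.symm).mul_right (hp C B c.2.1 hBC.symm)).mul_right
    (hp C C c.2.2 (Commute.refl C))).symm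
  refine ⟨c, Equiv.ext fun i => ?_⟩
  obtain ⟨b, h | h | h | h⟩ := hgen i <;> rw [← h, hcomm g hA hB hC, hcomm _ hcA hcB hcC]
  exacts [by rw [e0], by rw [e1], by rw [e2], by rw [e3]]

theorem cycleType_of_sq {n : ℕ} {σ : Perm (Fin n)} (h : σ * σ = 1) :
    σ.cycleType = Multiset.replicate (σ.support.card / 2) 2 := by
  haveI : Fact (Nat.Prime 2) := ⟨Nat.prime_two⟩
  have h' := Perm.cycleType_of_pow_prime_eq_one (p := 2) (by rw [sq, h] : σ ^ 2 = 1)
  conv_rhs => rw [← Perm.sum_cycleType σ, h', Multiset.sum_replicate, smul_eq_mul,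
    Nat.mul_div_cancel _ two_pos]
  exact h'

theorem isConj_of_support {n : ℕ} {σ τ : Perm (Fin n)} (hσ : σ * σ = 1) (hτ : τ * τ = 1)
    (h : σ.support.card / 2 = τ.support.card / 2) : IsConj σ τ := by
  rw [Perm.isConj_iff_cycleType_eq, cycleType_of_sq hσ, cycleType_of_sq hτ, h]

/-- The numerical facts about the chosen permutations. -/
structure Facts {n : ℕ} (a1 a2 a3 s X X' : Perm (Fin n)) : Prop where
  rel : a1 * a1 = 1 ∧ a2 * a2 = 1 ∧ a3 * a3 = 1 ∧ a1 * a2 = a2 * a1 ∧ a1 * a3 = a3 * a1 ∧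
    a2 * a3 = a3 * a2 ∧ s * s = 1 ∧ s * a1 * s = a2 ∧ s * a3 = a3 * s
  relX : X * X * X = 1 ∧ X * a1 = a2 * X ∧ X * a2 = a3 * X
  relX' : X' * X' * X' = 1 ∧ X' * (s * a3) = s * a1 * a2 * a3 * X' ∧
    X' * (s * a1 * a2 * a3) = a1 * a2 * a3 * X'
  relB : s * a3 * (s * a1 * a2 * a3) = s * a1 * a2 * a3 * (s * a3) ∧
    s * a3 * (a1 * a2 * a3) = a1 * a2 * a3 * (s * a3) ∧
    s * a1 * a2 * a3 * (a1 * a2 * a3) = a1 * a2 * a3 * (s * a1 * a2 * a3)
  sgn1 : Perm.sign a1 = -1
  sgns : Perm.sign s = 1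
  free : ∀ b1 b2 b3 : Bool, pw a1 b1 * pw a2 b2 * pw a3 b3 = 1 → b1 = false ∧ b2 = false ∧ b3 = false
  sup : a3.support.card ≠ (a1 * a2 * a3).support.card
  ptsE : ∃ p0 p1 p2 p3, Points a1 a2 a3 p0 p1 p2 p3
  ptsE' : ∃ p0 p1 p2 p3, Points (s * a3) (s * a1 * a2 * a3) (a1 * a2 * a3) p0 p1 p2 p3
  reps : ∀ k, 2 * k ≤ n → ∃ b1 b3 : Bool, (pw (a1 * a2) b1 * pw a3 b3).support.card / 2 = k
  cls : Nat.card {σ : Perm (Fin n) // IsConj (a1 * a2) σ} % 4 = 1

/-- The frame determined by an isomorphism and suitable permutations. -/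
theorem exists_frame {G : Type*} [Group G] [Finite G] {t : G} (ht : orderOf t = 2) {n : ℕ}
    (e : ↥(centralizer ({t} : Set G)) ≃* C2 × Perm (Fin n)) (hn : 3 ≤ n)
    (h32 : 32 ∣ 2 * n.factorial) (h64 : ¬ 64 ∣ 2 * n.factorial)
    {a1 a2 a3 s X X' : Perm (Fin n)} (F : Facts a1 a2 a3 s X X') : Nonempty (Frame t) := by
  obtain ⟨hr1, hr2, hr3, hc12, hc13, hc23, hss, hs1, hs3⟩ := F.rel
  obtain ⟨hX3, hX1, hX2⟩ := F.relX
  obtain ⟨hX'3, hX'1, hX'2⟩ := F.relX'
  obtain ⟨hB12, hB13, hB23⟩ := F.relB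
  let ι : C2 × Perm (Fin n) →* G := (centralizer ({t} : Set G)).subtype.comp e.symm.toMonoidHom
  have ιinj : Function.Injective ι := fun p q h => e.symm.injective (Subtype.ext h)
  have ιmem : ∀ p, ι p ∈ centralizer ({t} : Set G) := fun p => (e.symm p).2
  have ιsurj : ∀ x ∈ centralizer ({t} : Set G), ∃ p, ι p = x := fun x hx => ⟨e ⟨x, hx⟩, by simp [ι]⟩
  have ιcomm : ∀ p q, Commute (ι p) (ι q) → Commute p q := fun p q h =>
    ιinj (by rw [map_mul, map_mul]; exact h.eq)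
  have htt : t * t = 1 := by rw [← sq, ← ht, pow_orderOf_eq_one]
  -- `t` is the central involution
  obtain ⟨⟨ε, τ⟩, hτ⟩ := ιsurj t (mem_centralizer_singleton_iff.2 rfl)
  have hτc : τ ∈ Subgroup.center (Perm (Fin n)) := Subgroup.mem_center_iff.2 fun q => by
    have h := ιcomm ((1, q) : C2 × Perm (Fin n)) (ε, τ) (by
      rw [hτ]; exact mem_centralizer_singleton_iff.1 (ιmem _))
    exact congrArg Prod.snd h.eq
  have hτ1 : τ = 1 := by
    refine Equiv.ext fun i => ?_
    by_contra hne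
    obtain ⟨j, hj1, hj2⟩ : ∃ j, j ≠ i ∧ j ≠ τ i := by
      by_contra hcon
      push Not at hcon
      have hsub : (Finset.univ : Finset (Fin n)) ⊆ {i, τ i} := fun j _ => by
        rw [Finset.mem_insert, Finset.mem_singleton]
        exact or_iff_not_imp_left.2 (hcon j)
      have := (Finset.card_le_card hsub).trans Finset.card_le_two
      rw [Finset.card_univ, Fintype.card_fin] at this
      omega
    have h := congrArg (fun q : Perm (Fin n) => q i) (Subgroup.mem_center_iff.1 hτc (Equiv.swap (τ i) j))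
    simp only [Perm.coe_mul, Function.comp_apply, Equiv.swap_apply_left] at h
    rw [Perm.one_apply] at hne
    rw [Equiv.swap_apply_of_ne_of_ne (fun h' => hne h'.symm) (Ne.symm hj1)] at h
    exact hj2 h
  subst hτ1
  obtain rfl : ε = C2.one' := C2.eq_of_ne fun h => by
    rw [h] at hτ
    have : t = 1 := hτ.symm.trans (map_one ι)
    rw [this, orderOf_one] at ht
    omega
  let L : Perm (Fin n) →* G := ι.comp (MonoidHom.inr C2 (Perm (Fin n)))
  have Linj : Function.Injective L := fun p q h => congrArg Prod.snd (ιinj h)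
  have Lmem : ∀ p, L p ∈ centralizer ({t} : Set G) := fun p => ιmem _
  have hL : ∀ (b : Bool) (p : Perm (Fin n)), pw t b * L p = ι (bif b then C2.one' else 1, p) := fun b p => by
    show pw t b * ι (1, p) = _
    cases b
    · exact one_mul _
    · show t * _ = _
      rw [← hτ, ← map_mul, Prod.mk_mul_mk, mul_one, one_mul]; rfl
  have Lpw : ∀ p b, pw (L p) b = L (pw p b) := fun p b => by
    cases b; exacts [(map_one L).symm, rfl]
  have hconj : ∀ x p q : Perm (Fin n), x * p = q * x → L x * L p * (L x)⁻¹ = L q := fun x p q h => by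
    rw [← map_mul, h, map_mul, mul_inv_cancel_right]
  have hcube : ∀ x : Perm (Fin n), x * x * x = 1 → L x ^ 3 = 1 := fun x h => by
    rw [pow_three, ← map_mul, ← map_mul, ← mul_assoc, h, map_one]
  let sgnC : Perm (Fin n) →* C2 :=
    { toFun := fun p => if Perm.sign p = 1 then 1 else C2.one'
      map_one' := by simp
      map_mul' := fun a b => by
        rw [map_mul]
        rcases Int.units_eq_one_or (Perm.sign a) with h | h <;>
          rcases Int.units_eq_one_or (Perm.sign b) with h' | h' <;> rw [h, h'] <;> decide }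
  let ψ : ↥(centralizer ({t} : Set G)) →* C2 :=
    sgnC.comp ((MonoidHom.snd C2 (Perm (Fin n))).comp e.toMonoidHom)
  let θ : ↥(centralizer ({t} : Set G)) →* C2 :=
    ((MonoidHom.fst C2 (Perm (Fin n))).comp e.toMonoidHom) * ψ
  have he : ∀ p (h : ι p ∈ centralizer ({t} : Set G)), e ⟨ι p, h⟩ = p := fun p h => e.apply_symm_apply p
  have het : e ⟨t, mem_centralizer_singleton_iff.2 rfl⟩ = (C2.one', 1) := by
    refine (congrArg e (Subtype.ext hτ.symm)).trans (he (C2.one', 1) (ιmem _))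
  have hψ : ∀ p (h : L p ∈ centralizer ({t} : Set G)), ψ ⟨L p, h⟩ = sgnC p := fun p h => by
    exact congrArg sgnC (congrArg Prod.snd (he (1, p) h))
  have hθ : ∀ p (h : L p ∈ centralizer ({t} : Set G)), θ ⟨L p, h⟩ = sgnC p := fun p h => by
    exact (congrArg₂ (· * ·) (congrArg Prod.fst (he (1, p) h)) (hψ p h)).trans (one_mul _)
  have hcent : ∀ {A B C : Perm (Fin n)}, (∃ p0 p1 p2 p3, Points A B C p0 p1 p2 p3) → A * B = B * A →
      A * C = C * A → B * C = C * B →
      ∀ g ∈ centralizer ({t} : Set G), Commute g (L A) → Commute g (L B) → Commute g (L C) →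
        ∃ b0 b1 b2 b3 : Bool, g = pw t b0 * pw (L A) b1 * pw (L B) b2 * pw (L C) b3 := by
    intro A B C ⟨p0, p1, p2, p3, hP⟩ hAB hAC hBC g hg h1 h2 h3
    obtain ⟨⟨ε, σ⟩, rfl⟩ := ιsurj g hg
    obtain ⟨b, hb⟩ := exists_pr hP hAB hAC hBC (g := σ) (congrArg Prod.snd (ιcomm _ ((1, A) : C2 × Perm (Fin n)) h1).eq)
      (congrArg Prod.snd (ιcomm _ ((1, B) : C2 × Perm (Fin n)) h2).eq)
      (congrArg Prod.snd (ιcomm _ ((1, C) : C2 × Perm (Fin n)) h3).eq)
    refine ⟨decide (ε = C2.one'), b.1, b.2.1, b.2.2, ?_⟩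
    rw [Lpw, Lpw, Lpw, mul_assoc, mul_assoc, ← map_mul, ← map_mul, ← mul_assoc (pw A b.1), hL, hb]
    rcases C2.cases ε with rfl | rfl <;> rfl
  refine ⟨{
    a1 := L a1, a2 := L a2, a3 := L a3, s := L s, X := L X, X' := L X'
    tt := htt
    a1_mem := Lmem _, a2_mem := Lmem _, a3_mem := Lmem _, s_mem := Lmem _, X_mem := Lmem _
    X'_mem := Lmem _
    sq1 := by rw [← map_mul, hr1, map_one]
    sq2 := by rw [← map_mul, hr2, map_one]
    sq3 := by rw [← map_mul, hr3, map_one]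
    c12 := Commute.map hc12 L
    c13 := Commute.map hc13 L
    c23 := Commute.map hc23 L
    ss := by rw [← map_mul, hss, map_one]
    s1 := by rw [← map_mul, ← map_mul, hs1]
    s3 := Commute.map hs3 L
    X3 := hcube X hX3
    X1 := hconj _ _ _ hX1
    X2 := hconj _ _ _ hX2
    X'3 := hcube X' hX'3
    X'1 := by simpa only [map_mul] using hconj _ _ _ hX'1
    X'2 := by simpa only [map_mul] using hconj _ _ _ hX'2
    θ := θ
    ψ := ψ
    θt := ?_
    θ1 := ?_
    θs := ?_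
    ψt := ?_
    ψ1 := ?_
    ψs := ?_
    inj := ?_
    sep := ?_
    centE := fun g hg h1 h2 h3 => hcent F.ptsE hc12 hc13 hc23 g hg h1 h2 h3
    centE' := ?_
    invol := ?_
    card32 := ?_
    card64 := ?_
    clsz := ?_ }⟩
  · show (e ⟨t, _⟩).1 * sgnC (e ⟨t, _⟩).2 = _
    rw [het]
    simp [sgnC]
  · rw [hθ]; simp [sgnC, F.sgn1]
  · rw [hθ]; simp [sgnC, F.sgns]
  · show sgnC (e ⟨t, _⟩).2 = _
    rw [het]
    exact map_one sgnC
  · rw [hψ]; simp [sgnC, F.sgn1]
  · rw [hψ]; simp [sgnC, F.sgns]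
  · intro b0 b1 b2 b3 h
    rw [Lpw, Lpw, Lpw, mul_assoc, mul_assoc, ← map_mul, ← map_mul, ← mul_assoc (pw a1 b1), hL] at h
    have h' := ιinj (h.trans (map_one ι).symm)
    obtain ⟨e1, e2, e3⟩ := F.free b1 b2 b3 (congrArg Prod.snd h')
    refine ⟨?_, e1, e2, e3⟩
    cases b0
    · rfl
    · exact absurd (congrArg Prod.fst h') C2.ne_one
  · intro g hg h
    obtain ⟨⟨ε, σ⟩, rfl⟩ := ιsurj g hg
    rw [← map_mul, ← map_mul] at h
    have h' : σ * a3 * σ⁻¹ = a1 * a2 * a3 := congrArg Prod.snd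
      (ιinj (a₁ := (ε, σ) * (1, a3) * (ε, σ)⁻¹) (a₂ := (1, a1 * a2 * a3)) (by
        rw [map_mul, map_mul, map_inv]; exact h))
    exact F.sup (by rw [← h', Perm.card_support_conj])
  · simpa only [map_mul] using fun g hg h1 h2 h3 =>
      hcent F.ptsE' hB12 hB13 hB23 g hg h1 h2 h3
  · intro x hx hxx
    obtain ⟨⟨ε, σ⟩, rfl⟩ := ιsurj x hx
    have hσ : σ * σ = 1 := congrArg Prod.snd (ιinj (a₁ := (ε, σ) * (ε, σ)) (a₂ := 1) (by
      rw [map_mul, map_one]; exact hxx))
    obtain ⟨b1, b3, hk⟩ := F.reps (σ.support.card / 2) (by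
      have h := Finset.card_le_univ σ.support
      rw [Fintype.card_fin] at h
      omega)
    have hc3 : Commute (a1 * a2) a3 := Commute.mul_left hc13 hc23
    have hy : pw (a1 * a2) b1 * pw a3 b3 * (pw (a1 * a2) b1 * pw a3 b3) = 1 := by
      rw [Commute.mul_mul_mul_comm (pw_comm hc3 b1 b3).symm, ← pw_xor (by
        rw [Commute.mul_mul_mul_comm (Commute.symm hc12), hr1, hr2, one_mul]), ← pw_xor hr3]
      simp [pw]
    obtain ⟨π, hπ⟩ := isConj_iff.1 (isConj_of_support hσ hy hk.symm)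
    refine ⟨ι (1, π), ιmem _, decide (ε = C2.one'), b1, b3, ?_⟩
    rw [← map_inv, ← map_mul, ← map_mul, ← map_mul L a1 a2, Lpw, Lpw, mul_assoc (pw t _), ← map_mul L, hL, ← hπ]
    refine congrArg ι (Prod.ext ?_ rfl)
    show 1 * ε * 1⁻¹ = _
    rcases C2.cases ε with rfl | rfl <;> rfl
  · rw [Nat.card_congr e.toEquiv, Nat.card_prod, Nat.card_eq_fintype_card (α := C2),
      Nat.card_eq_fintype_card, Fintype.card_perm, Fintype.card_fin]
    exact h32
  · rw [Nat.card_congr e.toEquiv, Nat.card_prod, Nat.card_eq_fintype_card (α := C2),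
      Nat.card_eq_fintype_card, Fintype.card_perm, Fintype.card_fin]
    exact h64
  · refine Eq.trans (congrArg (· % 4) (Nat.card_eq_of_bijective
      (fun q : {σ : Perm (Fin n) // IsConj (a1 * a2) σ} =>
        (⟨L q.1, by
          obtain ⟨π, hπ⟩ := isConj_iff.1 q.2
          exact ⟨L π, Lmem _, by rw [← hπ]; simp [map_mul]⟩⟩ :
          {x : G // ∃ c ∈ centralizer ({t} : Set G), c * (L a1 * L a2) * c⁻¹ = x})) ⟨?_, ?_⟩).symm) F.cls
    · intro p q h
      have h' : L p.1 = L q.1 := congrArg (fun z : {x : G // ∃ c ∈ centralizer ({t} : Set G),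
        c * (L a1 * L a2) * c⁻¹ = x} => z.1) h
      exact Subtype.ext (Linj h')
    · rintro ⟨x, c, hc, rfl⟩
      obtain ⟨⟨ε, π⟩, rfl⟩ := ιsurj c hc
      refine ⟨⟨π * (a1 * a2) * π⁻¹, isConj_iff.2 ⟨π, rfl⟩⟩, Subtype.ext ?_⟩
      show ι (1, π * (a1 * a2) * π⁻¹) = ι (ε, π) * (L a1 * L a2) * (ι (ε, π))⁻¹
      rw [← map_mul L, ← map_inv ι]
      show _ = ι (ε, π) * ι (1, a1 * a2) * ι (ε, π)⁻¹
      rw [← map_mul, ← map_mul]
      refine congrArg ι (Prod.ext ?_ rfl)
      show 1 = ε * 1 * ε⁻¹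
      rw [mul_one, mul_inv_cancel]

theorem cls_card {n : ℕ} {σ : Perm (Fin n)} (h : σ * σ = 1) (hs : σ.support.card = 4) (hn : 4 ≤ n)
    {k : ℕ} (hk : k * ((n - 4).factorial * 8) = n.factorial) :
    Nat.card {τ : Perm (Fin n) // IsConj σ τ} = k := by
  have hc := Perm.card_isConj_mul_eq σ
  rw [cycleType_of_sq h, hs, Fintype.card_fin] at hc
  have e : (Multiset.replicate (4 / 2) 2).sum = 4 ∧ (Multiset.replicate (4 / 2) 2).prod = 4 ∧
      (∏ m ∈ (Multiset.replicate (4 / 2) 2).toFinset,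
        ((Multiset.replicate (4 / 2) 2).count m).factorial) = 2 := by decide
  rw [e.1, e.2.1, e.2.2, mul_assoc ((n - 4).factorial), ← hk] at hc
  exact Nat.eq_of_mul_eq_mul_right (Nat.mul_pos (Nat.factorial_pos _) (by norm_num)) hc

theorem facts_six : Facts (n := 6) (swap 0 1) (swap 2 3) (swap 4 5) (swap 0 2 * swap 1 3)
    (swap 0 2 * swap 2 4 * (swap 1 3 * swap 3 5)) (swap 2 3 * swap 3 1) where
  rel := by decide +kernel
  relX := by decide +kernel
  relX' := by decide +kernel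
  relB := by decide +kernel
  sgn1 := Perm.sign_swap (by decide)
  sgns := by rw [map_mul, Perm.sign_swap (by decide), Perm.sign_swap (by decide)]; rfl
  free := by decide +kernel
  sup := by decide +kernel
  ptsE := ⟨0, 2, 4, 4, by decide +kernel⟩
  ptsE' := ⟨0, 4, 4, 4, by decide +kernel⟩
  reps := by
    have h : ∀ k : Fin 4, ∃ b1 b3 : Bool,
        (pw ((swap 0 1 : Perm (Fin 6)) * swap 2 3) b1 * pw (swap 4 5) b3).support.card / 2 = k.val := by
      decide +kernel
    exact fun k hk => h ⟨k, by omega⟩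
  cls := by
    rw [cls_card (k := 45) (by decide +kernel) (by decide +kernel) (by norm_num) (by decide)]

theorem facts_seven : Facts (n := 7) (swap 0 1) (swap 2 3) (swap 4 5) (swap 0 2 * swap 1 3)
    (swap 0 2 * swap 2 4 * (swap 1 3 * swap 3 5)) (swap 2 3 * swap 3 1) where
  rel := by decide +kernel
  relX := by decide +kernel
  relX' := by decide +kernel
  relB := by decide +kernel
  sgn1 := Perm.sign_swap (by decide)
  sgns := by rw [map_mul, Perm.sign_swap (by decide), Perm.sign_swap (by decide)]; rfl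
  free := by decide +kernel
  sup := by decide +kernel
  ptsE := ⟨0, 2, 4, 6, by decide +kernel⟩
  ptsE' := ⟨0, 4, 6, 6, by decide +kernel⟩
  reps := by
    have h : ∀ k : Fin 4, ∃ b1 b3 : Bool,
        (pw ((swap 0 1 : Perm (Fin 7)) * swap 2 3) b1 * pw (swap 4 5) b3).support.card / 2 = k.val := by
      decide +kernel
    exact fun k hk => h ⟨k, by omega⟩
  cls := by
    rw [cls_card (k := 105) (by decide +kernel) (by decide +kernel) (by norm_num) (by decide)]

end Model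

end CfsgLib.Characterizations.TwoTimesSymmetric
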