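import Cfsg.Agent.Lib.Characterizations.TwoTimesSymmetric.Quotient

/-!
# Four central conjugates, `E` normal in `N(T)`
-/

set_option autoImplicit false
set_option linter.unusedSectionVars false
set_option linter.style.haveILetI false
set_option maxRecDepth 4000
set_option maxHeartbeats 1000000

namespace CfsgLib.Characterizations.TwoTimesSymmetric

open Subgroup CfsgLib.Characterizations.TwoTimesSymmetric.Count

/-- The index of `S`. -/
def iS : Idx := (false, 0, 3)

/-- The index of the map fixing the even vectors and sending `t` to `t u`. -/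
def iU : Idx := (true, 1, 0)

/-- The index of the map fixing the even vectors and sending `t` to `t d`. -/
def iD : Idx := (true, 0, 0)

/-- The index of the product of `iU` and `S`. -/
def iSU : Idx := (true, 1, 3)

theorem idx_values : mkQ true iSU = (8, 13, 11, 1) ∧ mkQ true iU = pure 9 ∧ mkQ true iD = pure 15 ∧
    mkQ false iD = pure 15 ∧ mkQ true iS = S ∧ mkQ false iS = S ∧ comp (8, 13, 11, 1) S = pure 9 ∧
    mkQ false (false, 1, 0) = (8, 4, 2, 1) := by decide +kernel

theorem sigma_T : (Good true iS ∧ chr false iS = true) ∧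
    ∀ a, chr false a = true → comp (mkQ true a) (mkQ true a) = idA → Bad true a ∨
      ∃ r ∈ [iS] ++ [iSU], ∃ b, comp (mkQ true b) (mkQ true a) = comp (mkQ true r) (mkQ true b) := by
  decide +kernel

set_option synthInstance.maxSize 1024 in
theorem signu_T : (∀ r ∈ [iS, iU, iD], Good true r ∧ chr true r = true) ∧
    (∀ r ∈ [iS, iU, iD], ∀ r' ∈ [iS, iU, iD], ∀ b,
      comp (mkQ true b) (mkQ true r) = comp (mkQ true r') (mkQ true b) → r = r') ∧
    ∀ a, chr true a = true → comp (mkQ true a) (mkQ true a) = idA → Bad true a ∨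
      ∃ r ∈ [iS, iU, iD] ++ [], ∃ b, comp (mkQ true b) (mkQ true a) = comp (mkQ true r) (mkQ true b) := by
  decide +kernel

theorem signu_I : (Good false iS ∧ chr true iS = true) ∧ Bad false (false, 1, 0) ∧
    ∀ a, chr true a = true → comp (mkQ false a) (mkQ false a) = idA → Bad false a ∨
      ∃ r ∈ [iS] ++ [iD], ∃ b, comp (mkQ false b) (mkQ false a) = comp (mkQ false r) (mkQ false b) := by
  decide +kernel

set_option synthInstance.maxSize 1024 in
theorem I_eight : ∀ a, mkQ false a ∈ cands → (mkQ false a).1 = 8 →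
    mkQ false a = (8, 2, 4, 1) ∨ mkQ false a = (8, 4, 2, 1) := by decide +kernel

theorem fourteen_cases : ∀ L ∈ cands, L.1 = 14 → pure 15 = L ∨ pure 15 = comp L S := by decide +kernel

theorem fourteen_cases' : ∀ L ∈ cands, L.1 = 14 → L = pure 15 ∨ L = (14, 11, 13, 7) := by decide +kernel

theorem eight_cases : ∀ M ∈ cands, M.1 = 8 → ∃ z, zOf z = M ∨ zOf z = comp M S ∨
    zOf z = comp M (pure 15) ∨ zOf z = comp (comp M S) (pure 15) := by decide +kernel

namespace Frame

variable {G : Type*} [Group G] [Finite G] {t : G} (f : Frame t)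
variable (hmk : ∀ v, f.Mk v ↔ par v = true)

/-- An element inducing `x ↦ x + par x · d` squares into `⟨d⟩`. -/
theorem pure_d_sq {y : G} (hy : f.Acts y (pure 15)) : y * y = f.emb 0 ∨ y * y = f.emb 15 := by
  obtain ⟨ρ, hρ⟩ := f.eq_emb_of_acts_id (g := y * y) (by
    have h := hy.mul hy
    rwa [show comp (pure 15) (pure 15) = idA by decide +kernel] at h)
  obtain ⟨w, hw⟩ := f.eq_mul_of_acts (g := f.X * y * f.X * f.X) (h := y) (L := pure 15) (by
    have h := ((f.acts_X.mul hy).mul f.acts_X).mul f.acts_X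
    rwa [show comp (comp (comp R (pure 15)) R) R = pure 15 by decide +kernel] at h) hy
  have hx3 : f.X * (f.X * f.X) = 1 := by rw [← pow_three]; exact f.X3
  have e1 : f.X * (y * y) * f.X⁻¹ = f.X * y * f.X * f.X * (f.X * y * f.X * f.X) := by
    rw [f.X_inv]
    calc f.X * (y * y) * (f.X * f.X) = f.X * y * 1 * y * (f.X * f.X) := by group
      _ = f.X * y * (f.X * (f.X * f.X)) * y * (f.X * f.X) := by rw [hx3]
      _ = _ := by group
  have e2 : y * f.emb w * (y * f.emb w) = y * f.emb w * y⁻¹ * (y * y) * f.emb w := by group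
  rw [hρ, f.acts_X ρ, hw, e2, hy w, hρ, ← emb_mul, ← emb_mul] at e1
  have hfix : app (pure 15) ρ = ρ := f.emb_inj (by rw [← hy ρ, ← hρ]; group)
  have hd : ∀ ρ w : Fin 16, app (pure 15) ρ = ρ → app R ρ = app (pure 15) w ^^^ ρ ^^^ w →
      ρ = 0 ∨ ρ = 15 := by decide +kernel
  rw [hρ]
  rcases hd ρ w hfix (f.emb_inj e1) with h | h <;> rw [h] <;> simp

theorem real_dd {L : Act} (h : f.Real L) : f.dual.dual.Real (comp S (comp L S)) := by
  obtain ⟨g, hg⟩ := h
  refine ⟨g, f.dd_acts.2 ?_⟩
  convert hg using 2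
  refine act_ext fun v => ?_
  simp only [app_comp, app_S]

theorem dd_hasQ (h : f.HasQ true) : f.dual.dual.HasQ true := by
  have h1 := f.real_dd h.1
  have h2 := f.real_dd h.2
  rw [show comp S (comp (pure 15) S) = pure 15 by decide +kernel] at h1
  rw [show comp S (comp (zOf true) S) = zOf true by decide +kernel] at h2
  exact ⟨h1, h2⟩

include hmk

theorem exists_type (hns : ∀ g ∈ f.NT, f.Fx g) : ∃ z, f.HasQ z := by
  have key : ∀ v ∈ ZT, par v = true → v ≠ 1 → ∃ L, f.Real L ∧ L ∈ cands ∧ L.1 = v := by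
    intro v hv hp hv1
    obtain ⟨n, hn, hnT⟩ := f.exists_norm hv ((hmk v).2 hp)
    obtain ⟨L, hL⟩ := f.acts_of_norm (hns n (f.mem_NT.2 hnT))
    have h1 : L.1 = v := f.emb_inj (by
      rw [← hn, ← (app_basis L).1, ← hL 1, emb_one])
    exact ⟨L, ⟨n, hL⟩, f.nt_act hmk (f.mem_NT.2 hnT) hL (h1 ▸ hv1), h1⟩
  obtain ⟨L, hL, hLc, hL1⟩ := key 14 (by decide) (by decide) (by decide)
  obtain ⟨M, hM, hMc, hM1⟩ := key 8 (by decide) (by decide) (by decide)
  have hS : f.Real S := ⟨_, f.acts_s⟩
  have hd : f.Real (pure 15) := by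
    rcases fourteen_cases L hLc hL1 with h | h <;> rw [h]
    exacts [hL, f.real_comp hL hS]
  obtain ⟨z, h | h | h | h⟩ := eight_cases M hMc hM1 <;> refine ⟨z, hd, ?_⟩ <;> rw [h]
  exacts [hM, f.real_comp hM hS, f.real_comp hM hd, f.real_comp (f.real_comp hM hS) hd]

variable (hns : ∀ g ∈ f.NT, f.Fx g) (hG : ¬ ∃ H : Subgroup G, H.index = 2)
include hns hG

/-- The mark which is pure in both frames. -/
theorem exists_pure_mark (hdT : f.dual.HasQ true) :
    ∃ n ∈ f.NT, f.Acts n (pure 15) ∧ f.dual.Acts n (pure 9) ∧ IsConj t n := by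
  have hmk' := f.dual_hmk hmk
  obtain ⟨x, hx, hxa⟩ : ∃ x, IsConj t x ∧ f.dual.Acts x (mkQ true iSU) := by
    by_contra h
    refine hG (f.dual.transfer_NE hmk' hdT false [iS] [iSU] ?_ ?_ sigma_T.2 ?_ ?_ ?_)
    · intro r hr; rw [List.mem_singleton.1 hr]; exact sigma_T.1
    · intro r hr r' hr' _ _; rw [List.mem_singleton.1 hr, List.mem_singleton.1 hr']
    · intro r hr y hy hya
      exact h ⟨y, hy, by rwa [List.mem_singleton.1 hr] at hya⟩
    · rw [Nat.card_eq_fintype_card]; decide
    · intro r hr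
      refine ⟨f.dual.es (1, true), (f.dual.es_mark hmk' (by decide +kernel)).2 (by decide), ?_⟩
      rw [List.mem_singleton.1 hr, idx_values.2.2.2.2.1]
      have h' := (f.dual.acts_emb 1).mul f.dual.acts_s
      rw [idA_comp] at h'
      exact h'
  rw [idx_values.1] at hxa
  have hxN : x ∈ f.NT := f.dual_NT ▸ f.dual.mem_NT_of_acts hxa (by decide +kernel)
  obtain ⟨L, hL⟩ := f.acts_of_norm (hns x hxN)
  have h1 : L.1 = 14 := f.emb_inj (by
    rw [← (app_basis L).1]
    refine (hL 1).symm.trans ((congrArg (fun y => x * y * x⁻¹)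
      (f.emb_one.trans f.dual.emb_one.symm)).trans ((hxa 1).trans ?_))
    rw [show app (8, 13, 11, 1) 1 = 8 by decide +kernel, f.dual_emb_ZT (by decide)]
    rfl)
  have hLc := f.nt_act hmk hxN hL (by rw [h1]; decide)
  rcases fourteen_cases' L hLc h1 with rfl | rfl
  · have h10 : Commute x (f.emb 10) :=
      mul_inv_eq_iff_eq_mul.1 ((hL 10).trans (by rw [show app (pure 15) 10 = 10 by decide +kernel]))
    refine ⟨x * f.emb 10, mul_mem hxN (f.T_le_NT (f.emb_mem_T _)), ?_, ?_, ?_⟩
    · have h := hL.mul (f.acts_emb 10)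
      rwa [comp_idA] at h
    · have h := hxa.mul f.dual.acts_s
      rwa [dual_s, idx_values.2.2.2.2.2.2.1] at h
    · exact (f.mul_unmarked hmk (f.emb_sq 10) h10
        (fun h => absurd ((hmk 10).1 h) (by decide))).2 hx
  · exfalso
    have hxx := f.sq_of_conj hx
    have hb1 : f.es (8, true) = f.dual.emb 2 := by rw [dual_emb]; rfl
    have himg : x * f.es (2, true) * x⁻¹ =
        f.es (esm (11, false) (esm (7, false) (δ 13))) := by
      rw [show ((2, true) : Fin 16 × Bool) = esm (2, false) (esm (8, false) (8, true)) by decide +kernel,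
        ← es_es, ← es_es, hb1, ← es_e, ← es_e, ← es_es, ← es_es,
        show f.es (δ 13) = f.dual.emb 13 from (f.dual_emb 13).symm,
        show x * (f.emb 2 * (f.emb 8 * f.dual.emb 2)) * x⁻¹ = x * f.emb 2 * x⁻¹ *
          ((x * f.emb 8 * x⁻¹) * (x * f.dual.emb 2 * x⁻¹)) by group, hL 2, hL 8, hxa 2, ← es_e, ← es_e]
      rfl
    have hy2 : x * f.es (2, true) * (x * f.es (2, true)) = f.emb 9 := by
      calc x * f.es (2, true) * (x * f.es (2, true))
          = x * f.es (2, true) * x⁻¹ * (x * x) * f.es (2, true) := by group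
        _ = f.emb 9 := by
          rw [himg, hxx, mul_one, es_es, es_e]
          congr 1
    have hya : f.Acts (x * f.es (2, true)) (pure 15) := by
      have h := hL.mul ((f.acts_emb 2).mul f.acts_s)
      rwa [show comp (14, 11, 13, 7) (comp idA S) = pure 15 by decide +kernel] at h
    rcases f.pure_d_sq hya with h | h <;> rw [hy2] at h <;> exact absurd (f.emb_inj h) (by decide)

omit hns

/-- Both pure actions cannot be marked. -/
theorem dual_d_unmarked (hdT : f.dual.HasQ true) {n : G} (hn : IsConj t n)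
    (hna : f.dual.Acts n (pure 9)) : ∀ y, IsConj t y → ¬ f.dual.Acts y (pure 15) := by
  intro y hy hya
  have hmk' := f.dual_hmk hmk
  refine hG (f.dual.transfer_NE hmk' hdT true [iS, iU, iD] [] signu_T.1 signu_T.2.1 signu_T.2.2
    (fun r hr => absurd hr List.not_mem_nil) (by rw [Nat.card_eq_fintype_card]; decide) fun r hr => ?_)
  simp only [List.mem_cons, List.not_mem_nil, or_false] at hr
  rcases hr with rfl | rfl | rfl
  · refine ⟨f.dual.es (1, true), (f.dual.es_mark hmk' (by decide +kernel)).2 (by decide), ?_⟩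
    rw [idx_values.2.2.2.2.1]
    have h' := (f.dual.acts_emb 1).mul f.dual.acts_s
    rw [idA_comp] at h'
    exact h'
  · exact ⟨n, hn, idx_values.2.1 ▸ hna⟩
  · exact ⟨y, hy, idx_values.2.2.1 ▸ hya⟩

include hns

/-- The two frames are not both of the second type. -/
theorem not_both_I (hI : f.HasQ false) (hdI : f.dual.HasQ false) : False := by
  have hmk' := f.dual_hmk hmk
  obtain ⟨x, hx, hxa⟩ : ∃ x, IsConj t x ∧ f.Acts x (mkQ false iD) := by
    by_contra h
    refine hG (f.transfer_NE hmk hI true [iS] [iD] ?_ ?_ signu_I.2.2 ?_ ?_ ?_)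
    · intro r hr; rw [List.mem_singleton.1 hr]; exact signu_I.1
    · intro r hr r' hr' _ _; rw [List.mem_singleton.1 hr, List.mem_singleton.1 hr']
    · intro r hr y hy hya
      exact h ⟨y, hy, by rwa [List.mem_singleton.1 hr] at hya⟩
    · rw [Nat.card_eq_fintype_card]; decide
    · intro r hr
      refine ⟨f.es (1, true), (f.es_mark hmk (by decide +kernel)).2 (by decide), ?_⟩
      rw [List.mem_singleton.1 hr, idx_values.2.2.2.2.2.1]
      have h' := (f.acts_emb 1).mul f.acts_s
      rw [idA_comp] at h'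
      exact h'
  rw [idx_values.2.2.2.1] at hxa
  have hxN : x ∈ f.NT := f.mem_NT_of_acts hxa (by decide +kernel)
  obtain ⟨L, hL⟩ := f.dual.acts_of_norm (f.Fx_dual hxN (hns x hxN))
  have h1 : L.1 = 8 := f.dual.emb_inj (by
    rw [← (app_basis L).1]
    refine (hL 1).symm.trans ((congrArg (fun y => x * y * x⁻¹)
      (f.dual.emb_one.trans f.emb_one.symm)).trans ((hxa 1).trans ?_))
    rw [show app (pure 15) 1 = 14 by decide +kernel, f.dual_emb_ZT (by decide)]
    rfl)
  have hLc := f.dual.nt_act hmk' (f.dual_NT.symm ▸ hxN) hL (by rw [h1]; decide)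
  obtain ⟨a, rfl⟩ := f.dual.exists_idx hmk' hdI hL
  have h10 : Commute x (f.emb 10) :=
    mul_inv_eq_iff_eq_mul.1 ((hxa 10).trans (by rw [show app (pure 15) 10 = 10 by decide +kernel]))
  obtain ⟨y, hy, hya⟩ : ∃ y, IsConj t y ∧ f.dual.Acts y (8, 4, 2, 1) := by
    rcases I_eight a hLc h1 with e | e <;> rw [e] at hL
    · refine ⟨x * f.emb 10, (f.mul_unmarked hmk (f.emb_sq 10) h10
        (fun h => absurd ((hmk 10).1 h) (by decide))).2 hx, ?_⟩
      have h := hL.mul f.dual.acts_s
      rwa [dual_s, show comp (8, 2, 4, 1) S = (8, 4, 2, 1) by decide +kernel] at h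
    · exact ⟨x, hx, hL⟩
  rw [← idx_values.2.2.2.2.2.2.2] at hya
  exact (f.dual.coset_lemma hmk' hdI hy hya).1 signu_I.2.1

end Frame

end CfsgLib.Characterizations.TwoTimesSymmetric
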