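import Cfsg.Agent.Lib.Characterizations.TwoTimesSymmetric.Fusion

/-!
# The normalizer of the Sylow subgroup of the centralizer
-/

set_option autoImplicit false
set_option linter.unusedSectionVars false
set_option linter.style.haveILetI false
set_option maxRecDepth 4000

namespace CfsgLib.Characterizations.TwoTimesSymmetric

open Subgroup CfsgLib.Characterizations.TwoTimesSymmetric.Count

/-- The coordinates of the dual frame in the Sylow subgroup. -/
def δ (v : Fin 16) : Fin 16 × Bool :=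
  Frame.esm (Frame.esm (Frame.esm (bif v.val.testBit 0 then (1, false) else (0, false))
    (bif v.val.testBit 1 then (8, true) else (0, false)))
    (bif v.val.testBit 2 then (14, true) else (0, false)))
    (bif v.val.testBit 3 then (14, false) else (0, false))

/-- The change of coordinates on the centre given by the dual frame. -/
def φ (v : Fin 16) : Fin 16 := bif v.val.testBit 3 then v ^^^ 6 else v

theorem δ_ZT : ∀ v ∈ ZT, δ v = (φ v, false) := by decide +kernel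

theorem φ_φ : ∀ v ∈ ZT, φ (φ v) = v ∧ φ v ∈ ZT := by decide +kernel

theorem δ_E' : ∀ v, (δ v).1 ∈ ZT := by decide +kernel

theorem δ_surj : ∀ p : Fin 16 × Bool, p.1 ∈ ZT → ∃ v, δ v = p := by decide +kernel

namespace Frame

variable {G : Type*} [Group G] {t : G} (f : Frame t)

theorem dual_emb (v : Fin 16) : f.dual.emb v = f.es (δ v) := by
  show pw t _ * pw (f.s * f.a3) _ * pw (f.s * f.a1 * f.a2 * f.a3) _ * pw (f.a1 * f.a2 * f.a3) _ = _
  rw [es_b1, es_b2, es_b3,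
    show ∀ b, pw t b = f.es (bif b then (1, false) else (0, false)) from fun b => by
      cases b; exacts [f.es_one, f.es_t]]
  simp only [pw_es, es_es]
  rfl

theorem dual_emb_ZT {v : Fin 16} (hv : v ∈ ZT) : f.dual.emb v = f.emb (φ v) := by
  rw [dual_emb, δ_ZT v hv]; exact (f.es_e _).symm

theorem dual_s : f.dual.s = f.emb 10 := by
  show f.a1 * f.a3 = _
  rw [← emb_a1, ← emb_a3, ← emb_mul]; rfl

theorem mem_T_iff {x : G} : x ∈ f.T ↔ ∃ p, x = f.es p := by
  refine ⟨?_, fun ⟨p, hp⟩ => hp ▸ f.es_mem_T p⟩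
  rintro ⟨v, rfl | rfl⟩
  · exact ⟨(v, false), f.es_e v⟩
  · exact ⟨(v, true), rfl⟩

theorem emb_z6_comm {g : G} (hn : ∀ x ∈ f.T, g * x * g⁻¹ ∈ f.T) :
    g * f.emb 6 * g⁻¹ = f.emb 6 := by
  have hxm : f.emb 2 * f.s ∈ f.T := ⟨2, Or.inr rfl⟩
  have hx2 : f.emb 2 * f.s * (f.emb 2 * f.s) = f.emb 6 := by
    rw [es_mul]; rfl
  rcases f.T_sq (hn _ hxm) with e | e
  · exfalso
    rw [show g * (f.emb 2 * f.s) * g⁻¹ * (g * (f.emb 2 * f.s) * g⁻¹)
      = g * (f.emb 2 * f.s * (f.emb 2 * f.s)) * g⁻¹ by group, hx2, conj_eq_one_iff] at e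
    exact absurd (f.emb_inj (e.trans f.emb_zero.symm)) (by decide)
  · rw [← hx2] at e ⊢
    calc g * (f.emb 2 * f.s * (f.emb 2 * f.s)) * g⁻¹
        = g * (f.emb 2 * f.s) * g⁻¹ * (g * (f.emb 2 * f.s) * g⁻¹) := by group
      _ = _ := e

theorem commute_es_iff {p q : Fin 16 × Bool} :
    Commute (f.es p) (f.es q) ↔ esm p q = esm q p := by
  unfold Commute SemiconjBy
  rw [es_es, es_es]
  exact ⟨f.es_inj, congrArg _⟩

theorem commute_emb_ZT {v : Fin 16} (hv : v ∈ ZT) {x : G} (hx : x ∈ f.T) : Commute (f.emb v) x := by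
  obtain ⟨p, rfl⟩ := f.mem_T_iff.1 hx
  rw [f.es_e v, commute_es_iff]
  have : ∀ v ∈ ZT, ∀ p, esm (v, false) p = esm p (v, false) := by decide +kernel
  exact this v hv p

/-- The normalizer of `T`. -/
def NT : Subgroup G := normalizer (f.T : Set G)

theorem mem_NT {g : G} : g ∈ f.NT ↔ ∀ x, x ∈ f.T ↔ g * x * g⁻¹ ∈ f.T := mem_normalizer_iff

theorem NT_maps {g : G} (hg : g ∈ f.NT) : ∀ x ∈ f.T, g * x * g⁻¹ ∈ f.T := fun x hx =>
  (f.mem_NT.1 hg x).1 hx

theorem T_le_NT : f.T ≤ f.NT := Subgroup.le_normalizer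

/-- The normalizer preserves the centre of `T`. -/
theorem NT_ZT {g : G} (hg : g ∈ f.NT) {v : Fin 16} (hv : v ∈ ZT) :
    ∃ w ∈ ZT, g * f.emb v * g⁻¹ = f.emb w := by
  obtain ⟨⟨w, b⟩, hp⟩ := f.mem_T_iff.1 (f.NT_maps hg _ (f.emb_mem_T v))
  have hc : ∀ q, esm (w, b) q = esm q (w, b) := fun q => by
    refine f.commute_es_iff.1 ?_
    rw [← hp]
    obtain ⟨r, hr⟩ := f.mem_T_iff.1 (f.NT_maps (inv_mem hg) _ (f.es_mem_T q))
    have h := (f.commute_emb_ZT hv (f.es_mem_T r)).eq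
    have e : f.es q = g * f.es r * g⁻¹ := by rw [← hr]; group
    rw [e]
    show _ = _
    calc g * f.emb v * g⁻¹ * (g * f.es r * g⁻¹) = g * (f.emb v * f.es r) * g⁻¹ := by group
      _ = g * (f.es r * f.emb v) * g⁻¹ := by rw [h]
      _ = _ := by group
  have key : ∀ p : Fin 16 × Bool, esm p (2, false) = esm (2, false) p → esm p (0, true) = esm (0, true) p →
      p.1 ∈ ZT ∧ p.2 = false := by decide +kernel
  obtain ⟨h1, h2⟩ := key _ (hc _) (hc _)
  obtain rfl : b = false := h2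
  exact ⟨w, h1, hp.trans (f.es_e w).symm⟩

theorem NT_six {g : G} (hg : g ∈ f.NT) : g * f.emb 6 * g⁻¹ = f.emb 6 := f.emb_z6_comm (f.NT_maps hg)

theorem NT_fix_t {g : G} [Finite G] (hg : g ∈ f.NT) (h : g * t * g⁻¹ = t) : g ∈ f.T :=
  f.mem_T_of_norm (mem_centralizer_singleton_iff.2 (mul_inv_eq_iff_eq_mul.1 h)) (f.NT_maps hg)

/-- An element fixing a central conjugate of `t` lies in `T`. -/
theorem NT_fix [Finite G] {g : G} (hg : g ∈ f.NT) {v : Fin 16} (hv : v ∈ ZT) (hm : f.Mk v)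
    (h : g * f.emb v * g⁻¹ = f.emb v) : g ∈ f.T := by
  obtain ⟨n, hn, hnT⟩ := f.exists_norm hv hm
  have hn' : n ∈ f.NT := f.mem_NT.2 hnT
  have h1 : n⁻¹ * g * n ∈ f.T := f.NT_fix_t (mul_mem (mul_mem (inv_mem hn') hg) hn') (by
    calc n⁻¹ * g * n * t * (n⁻¹ * g * n)⁻¹ = n⁻¹ * (g * (n * t * n⁻¹) * g⁻¹) * n := by group
      _ = n⁻¹ * (n * t * n⁻¹) * n := by rw [hn, h]
      _ = t := by group)
  have := (hnT _).1 h1
  rwa [show n * (n⁻¹ * g * n) * n⁻¹ = g by group] at this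

theorem NT_mark {g : G} (hg : g ∈ f.NT) {v : Fin 16} (hv : v ∈ ZT) (hm : f.Mk v) :
    ∃ w ∈ ZT, f.Mk w ∧ g * f.emb v * g⁻¹ = f.emb w := by
  obtain ⟨w, hw, he⟩ := f.NT_ZT hg hv
  refine ⟨w, hw, ?_, he⟩
  show IsConj t (f.emb w)
  rw [← he]
  exact isConj_conj hm

theorem not_mk_zero : ¬ f.Mk 0 := fun h => by
  obtain ⟨g, hg⟩ := isConj_iff.1 h
  rw [emb_zero, conj_eq_one_iff] at hg
  exact absurd (f.emb_inj ((f.emb_zero.trans hg.symm).trans f.emb_one.symm)) (by decide)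

theorem not_mk_six [Finite G] : ¬ f.Mk 6 := fun h => by
  obtain ⟨n, hn, hnT⟩ := f.exists_norm (by decide) h
  have h6 := f.NT_six (f.mem_NT.2 hnT)
  have : t = f.emb 6 := mul_left_cancel (mul_right_cancel (hn.trans h6.symm))
  exact absurd (f.emb_inj (f.emb_one.trans this)) (by decide)

theorem mk_one : f.Mk 1 := by
  show IsConj t (f.emb 1)
  rw [emb_one]

/-- `g` normalises `E`. -/
def Fx (g : G) : Prop := ∀ v, ∃ w, g * f.emb v * g⁻¹ = f.emb w

/-- An element of `N(T)` either normalises `E` or sends `a₁` out of `E`. -/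
theorem Fx_or (g : G) (hg : g ∈ f.NT) :
    f.Fx g ∨ ∃ w ∈ ZT, g * f.a1 * g⁻¹ = f.es (w, true) := by
  obtain ⟨⟨w, b⟩, hp⟩ := f.mem_T_iff.1 (f.NT_maps hg _ (f.emb_mem_T 2))
  rw [emb_a1] at hp
  cases b
  · left
    intro v
    have hd : ∀ v : Fin 16, (v ∈ ZT ∨ (2 ^^^ v) ∈ ZT) := by decide +kernel
    rcases hd v with h | h
    · obtain ⟨u, -, hu⟩ := f.NT_ZT hg h
      exact ⟨u, hu⟩
    · obtain ⟨u, -, hu⟩ := f.NT_ZT hg h
      refine ⟨w ^^^ u, ?_⟩
      rw [emb_mul, f.es_e w, ← hp, ← hu, show f.emb v = f.emb 2 * f.emb (2 ^^^ v) by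
        rw [← emb_mul, show (2 : Fin 16) ^^^ (2 ^^^ v) = v by clear hu h; revert v; decide +kernel], emb_a1]
      group
  · right
    refine ⟨w, ?_, hp⟩
    have h : f.es (w, true) * f.es (w, true) = 1 := by
      rw [← hp, show g * f.a1 * g⁻¹ * (g * f.a1 * g⁻¹) = g * (f.a1 * f.a1) * g⁻¹ by group, f.sq1]
      group
    rw [es_es] at h
    have hd : ∀ w : Fin 16, esm (w, true) (w, true) = (0, false) → w ∈ ZT := by decide +kernel
    exact hd w (f.es_inj (h.trans f.es_one))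

/-- The square of an element of `N(T)` normalises `E`. -/
theorem Fx_sq (g : G) (hg : g ∈ f.NT) : f.Fx (g * g) := by
  rcases f.Fx_or g hg with h | ⟨w, hw, he⟩
  · intro v
    obtain ⟨u, hu⟩ := h v
    obtain ⟨u', hu'⟩ := h u
    exact ⟨u', by rw [← hu', ← hu]; group⟩
  rcases f.Fx_or (g * g) (mul_mem hg hg) with h | ⟨u, hu, he2⟩
  · exact h
  exfalso
  obtain ⟨⟨p, b⟩, hp⟩ := f.mem_T_iff.1 (f.NT_maps hg _ f.s_mem_T)
  obtain ⟨q, hq, hqe⟩ := f.NT_ZT hg hw
  cases b
  · -- the image of `s` lies in `E`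
    have : g * g * f.a1 * (g * g)⁻¹ = f.es (q ^^^ p, false) := by
      rw [show g * g * f.a1 * (g * g)⁻¹ = g * (g * f.a1 * g⁻¹) * g⁻¹ by group, he, es, pw, cond_true,
        show g * (f.emb w * f.s) * g⁻¹ = g * f.emb w * g⁻¹ * (g * f.s * g⁻¹) by group, hqe, hp,
        ← es_e, ← es_e, emb_mul]
    exact Bool.false_ne_true (congrArg Prod.snd (f.es_inj (this.symm.trans he2)))
  · have hp2 : f.es (p, true) * f.es (p, true) = 1 := by
      rw [← hp, show g * f.s * g⁻¹ * (g * f.s * g⁻¹) = g * (f.s * f.s) * g⁻¹ by group, f.ss]; group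
    rw [es_es] at hp2
    have hd : ∀ p : Fin 16, esm (p, true) (p, true) = (0, false) → p ∈ ZT := by decide +kernel
    have hd' : ∀ p ∈ ZT, ∀ w ∈ ZT, esm (w, true) (p, true) = esm (p, true) (w, true) := by decide +kernel
    have hc := f.commute_es_iff.2 (hd' p (hd p (f.es_inj (hp2.trans f.es_one))) w hw)
    rw [← he, ← hp] at hc
    have : Commute f.a1 f.s := by
      show _ = _
      have h := hc.eq
      simpa [mul_assoc] using congrArg (fun y => g⁻¹ * y * g) h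
    have h4 : f.a2 = f.a1 := by rw [← f.s1, ← this.eq, mul_assoc, f.ss, mul_one]
    exact absurd (f.emb_inj (f.emb_a2.trans (h4.trans f.emb_a1.symm))) (by decide)

/-- An element of `N(T)` normalising `E` commutes with the action of `s`. -/
theorem acts_comm {g : G} [Finite G] (hg : g ∈ f.NT) {L : Act} (hL : f.Acts g L) :
    comp L S = comp S L := by
  obtain ⟨⟨p, b⟩, hp⟩ := f.mem_T_iff.1 (f.NT_maps hg _ f.s_mem_T)
  cases b
  · exfalso
    obtain ⟨M, hM⟩ := hL.inv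
    refine f.s_ne (app M p) ?_
    rw [← hM p, f.es_e p, ← hp]; group
  · have h1 : f.Acts (g * f.s) (comp L S) := hL.mul f.acts_s
    have h2 : f.Acts (g * f.s) (comp (comp idA S) L) := by
      have : g * f.s = f.emb p * f.s * g := by
        rw [show f.emb p * f.s = f.es (p, true) from rfl, ← hp]; group
      rw [this]
      exact ((f.acts_emb p).mul f.acts_s).mul hL
    exact (h1.eq h2).trans (by rw [show comp idA S = S by decide +kernel])

theorem dual_T : f.dual.T = f.T := by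
  ext x
  rw [f.dual.mem_T_iff, mem_T_iff]
  have key : ∀ v b, f.dual.es (v, b) = f.es (esm (δ v) (bif b then (10, false) else (0, false))) :=
    fun v b => by
      show f.dual.emb v * pw f.dual.s b = _
      rw [dual_emb, dual_s, es_e, pw_es, es_es]
  constructor
  · rintro ⟨⟨v, b⟩, rfl⟩
    exact ⟨_, key v b⟩
  · rintro ⟨p, rfl⟩
    have hd : ∀ p : Fin 16 × Bool, ∃ v b, esm (δ v) (bif b then (10, false) else (0, false)) = p := by
      decide +kernel
    obtain ⟨v, b, e⟩ := hd p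
    exact ⟨(v, b), by rw [key, e]⟩

theorem dual_NT : f.dual.NT = f.NT := by rw [NT, NT, dual_T]

theorem dual_Mk {v : Fin 16} (hv : v ∈ ZT) : f.dual.Mk v ↔ f.Mk (φ v) := by
  show IsConj t _ ↔ IsConj t _
  rw [dual_emb_ZT f hv]

theorem twist_emb (v : Fin 16) : f.twist.emb v = f.emb ((v &&& 14) ^^^ (bif par v then 1 else 0)) := by
  show pw t _ * pw (t * f.a1) _ * pw (t * f.a2) _ * pw (t * f.a3) _ = _
  rw [f.ta1, f.ta2, f.ta3, f.pw_t]
  simp only [← emb_pw, ← emb_mul]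
  congr 1
  revert v; decide +kernel

end Frame

end CfsgLib.Characterizations.TwoTimesSymmetric
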