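import Cfsg.Agent.Lib.Characterizations.TwoTimesSymmetric.Elem

/-!
# Two central conjugates: `t` is an odd permutation of its conjugacy class
-/

set_option autoImplicit false
set_option linter.unusedSectionVars false
set_option linter.style.haveILetI false
set_option maxRecDepth 4000

namespace CfsgLib.Characterizations.TwoTimesSymmetric

open Subgroup CfsgLib.Characterizations.TwoTimesSymmetric.Count

namespace Frame

variable {G : Type*} [Group G] [Finite G] {t : G} (f : Frame t)

include f in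
/-- The index of the centralizer is divisible by four as soon as `128` divides the order. -/
theorem four_dvd_index (h : 128 ∣ Nat.card G) : 4 ∣ (centralizer ({t} : Set G)).index := by
  obtain ⟨k, hk⟩ := f.card32
  rw [← (centralizer ({t} : Set G)).card_mul_index, hk, mul_assoc,
    show (128 : ℕ) = 32 * 4 from rfl, Nat.mul_dvd_mul_iff_left (by norm_num)] at h
  refine Nat.Coprime.dvd_of_dvd_mul_left ?_ h
  have h2 : Nat.Coprime 2 k := (Nat.Prime.coprime_iff_not_dvd Nat.prime_two).2 fun h2 => f.card64 (by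
    rw [hk, show (64 : ℕ) = 32 * 2 from rfl]; exact Nat.mul_dvd_mul_left _ h2)
  have := h2.pow_left 2
  norm_num at this
  exact this

/-- Two central conjugates. -/
theorem pair (hA : ∀ v ∈ ZT, f.Mk v ↔ (v = 1 ∨ v = 7)) : ∃ H : Subgroup G, H.index = 2 := by
  classical
  have hmk : ∀ v, f.Mk v ↔ (v = 1 ∨ v = 7 ∨ v = 11 ∨ v = 13) := f.mk_of_ZT
    (fun v hv => (hA v hv).trans (by
      have : ∀ v ∈ ZT, (v = 1 ∨ v = 7) ↔ (v = 1 ∨ v = 7 ∨ v = 11 ∨ v = 13) := by decide +kernel
      exact this v hv))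
    (by decide +kernel)
  -- an element of `N(E)` moving `t`
  obtain ⟨n, hn, hnT⟩ := f.exists_norm (v := 7) (by decide) ((hA 7 (by decide)).2 (Or.inr rfl))
  have hnN : n ∈ f.NT := f.mem_NT.2 hnT
  have hmove : ∃ g ∈ f.NE, ∃ v : Fin 16, v ≠ 1 ∧ g * t * g⁻¹ = f.emb v := by
    by_cases hF : f.Fx n
    · exact ⟨n, f.mem_NE_of_Fx hF, 7, by decide, hn⟩
    · have hk := f.conj_X'_mem_NE hnN hF
      obtain ⟨v, hv⟩ := (mem_normalizer_iff.1 hk _).1 (f.emb_mem_E 1)
      rw [emb_one] at hv
      refine ⟨_, hk, v, ?_, hv⟩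
      rintro rfl
      rw [emb_one] at hv
      have h7 : f.X' * f.emb 7 * f.X'⁻¹ = f.emb 7 := by
        rw [← hn]
        calc f.X' * (n * t * n⁻¹) * f.X'⁻¹
            = n * (n⁻¹ * f.X' * n * t * (n⁻¹ * f.X' * n)⁻¹) * n⁻¹ := by group
          _ = n * t * n⁻¹ := by rw [hv]
      have e : f.emb 7 = f.dual.emb 7 := (f.dual_emb_ZT (v := 7) (by decide)).symm
      rw [e] at h7
      exact absurd (f.dual.emb_inj ((f.dual.acts_X 7).symm.trans h7)) (by decide +kernel)
  obtain ⟨g, hg, v, hv1, hgv⟩ := hmove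
  have hv : v = 7 ∨ v = 11 ∨ v = 13 :=
    ((hmk v).1 (isConj_iff.2 ⟨g, hgv⟩)).resolve_left hv1
  have horb : Nat.card {w : Fin 16 // ∃ g ∈ f.NE, g * t * g⁻¹ = f.emb w} = 4 := by
    rw [Nat.card_congr (Equiv.subtypeEquivRight (q := fun w => w = 1 ∨ w = 7 ∨ w = 11 ∨ w = 13)
      fun w => ⟨fun ⟨g, _, e⟩ => (hmk w).1 (isConj_iff.2 ⟨g, e⟩), fun hw => ?_⟩)]
    · rw [Nat.card_eq_fintype_card]; rfl
    have hX : ∀ u, (∃ g ∈ f.NE, g * t * g⁻¹ = f.emb u) →
        ∃ g ∈ f.NE, g * t * g⁻¹ = f.emb (app R u) := fun u ⟨k, hk, e⟩ => by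
      refine ⟨f.X * k, mul_mem f.X_mem_NE hk, ?_⟩
      rw [← f.acts_X u, ← e]; group
    have hb : ∃ k ∈ f.NE, k * t * k⁻¹ = f.emb v := ⟨g, hg, hgv⟩
    rcases hw with rfl | hw
    · exact ⟨1, one_mem _, by rw [emb_one]; group⟩
    have hd : ∀ v w : Fin 16, (v = 7 ∨ v = 11 ∨ v = 13) → (w = 7 ∨ w = 11 ∨ w = 13) →
        w = v ∨ w = app R v ∨ w = app R (app R v) := by decide +kernel
    rcases hd v w hv hw with rfl | rfl | rfl
    · exact hb
    · exact hX _ hb
    · exact hX _ (hX _ hb)
  have h128 : 128 ∣ Nat.card G := by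
    have := f.card_NE_dvd
    rw [horb] at this
    exact this.trans (Subgroup.card_subgroup_dvd_card _)
  have h4 := f.four_dvd_index h128
  -- the permutation action
  let Ω := {x : G // IsConj t x}
  let π : G →* Equiv.Perm Ω :=
    { toFun := fun g =>
        { toFun := fun x => ⟨g * x * g⁻¹, isConj_conj x.2⟩
          invFun := fun x => ⟨g⁻¹ * x * g⁻¹⁻¹, isConj_conj x.2⟩
          left_inv := fun x => Subtype.ext (by simp [mul_assoc])
          right_inv := fun x => Subtype.ext (by simp [mul_assoc]) }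
      map_one' := Equiv.ext fun x => Subtype.ext (by simp)
      map_mul' := fun a b => Equiv.ext fun x => Subtype.ext (by simp [mul_assoc]) }
  haveI := Fintype.ofFinite Ω
  have hπ : π t ^ 2 = 1 := by rw [← map_pow, sq, f.tt, map_one]
  have hcardΩ : Nat.card Ω = (centralizer ({t} : Set G)).index := by
    rw [Subgroup.index_eq_card]
    refine (Nat.card_eq_of_bijective (fun c : G ⧸ centralizer ({t} : Set G) =>
      (⟨c.out * t * c.out⁻¹, isConj_iff.2 ⟨_, rfl⟩⟩ : Ω)) ⟨fun a b h => ?_, fun x => ?_⟩).symm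
    · have h' : a.out * t * a.out⁻¹ = b.out * t * b.out⁻¹ := congrArg Subtype.val h
      rw [← QuotientGroup.out_eq' a, ← QuotientGroup.out_eq' b, QuotientGroup.eq]
      refine mem_centralizer_singleton_iff.2 (mul_inv_eq_iff_eq_mul.1 ?_)
      calc a.out⁻¹ * b.out * t * (a.out⁻¹ * b.out)⁻¹
          = a.out⁻¹ * (b.out * t * b.out⁻¹) * a.out := by group
        _ = t := by rw [← h']; group
    · obtain ⟨g, hg⟩ := isConj_iff.1 x.2
      refine ⟨QuotientGroup.mk g, Subtype.ext ?_⟩
      obtain ⟨k, hk⟩ := QuotientGroup.mk_out_eq_mul (centralizer ({t} : Set G)) g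
      show _ * t * _ = _
      rw [hk, show g * (k : G) * t * (g * k)⁻¹ = g * ((k : G) * t * (k : G)⁻¹) * g⁻¹ by group,
        conj_t (t := t) k.2, hg]
  have hzc : ∀ x : G, IsConj t x → x ∈ centralizer ({t} : Set G) → x ≠ t →
      ∃ c ∈ centralizer ({t} : Set G), c * (f.a1 * f.a2) * c⁻¹ = t * x := fun x hx hxC hne => by
    obtain ⟨c, hc, v, hv, e⟩ := f.invol_cases hxC (f.sq_of_conj hx)
    have hm : f.Mk v := by
      show IsConj t _
      rw [← e]; exact isConj_conj hx
    rcases (hA v hv).1 hm with rfl | rfl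
    · exfalso
      refine hne ?_
      rw [emb_one] at e
      have := congrArg (fun y => c⁻¹ * y * c) e
      simp only [mul_assoc, inv_mul_cancel_left, inv_mul_cancel, mul_one] at this
      rw [this, ← mul_assoc]
      have h2 := conj_t (t := t) (inv_mem hc)
      rwa [inv_inv] at h2
    · refine ⟨c⁻¹, inv_mem hc, ?_⟩
      have e' : x = c⁻¹ * f.emb 7 * c⁻¹⁻¹ := by rw [← e]; group
      rw [show (7 : Fin 16) = 1 ^^^ 6 from rfl, ← t_mul, emb_z] at e'
      rw [e', ← mul_assoc c⁻¹ t, ← (tcomm (inv_mem hc)).eq]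
      simp only [mul_assoc]
      rw [← mul_assoc t t, f.tt, one_mul]
  have hfix : Nat.card (Function.fixedPoints (π t)) % 4 = 2 := by
    let Z := {x : G // ∃ c ∈ centralizer ({t} : Set G), c * (f.a1 * f.a2) * c⁻¹ = x}
    have hmem : ∀ x : Ω, x ∈ Function.fixedPoints (π t) ↔ (x : G) ∈ centralizer ({t} : Set G) := fun x => by
      rw [mem_centralizer_singleton_iff]
      exact ⟨fun h => (mul_inv_eq_iff_eq_mul.1 (congrArg Subtype.val h)).symm,
        fun h => Subtype.ext (mul_inv_eq_iff_eq_mul.2 h.symm)⟩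
    have htz : ∀ z : Z, IsConj t (t * (z : G)) ∧ t * (z : G) ∈ centralizer ({t} : Set G) ∧
        t * (z : G) ≠ t := fun z => by
      obtain ⟨c, hc, e⟩ := z.2
      have e' : t * (z : G) = c * f.emb 7 * c⁻¹ := by
        rw [show (7 : Fin 16) = 1 ^^^ 6 from rfl, ← t_mul, emb_z, ← mul_assoc c t, ← (tcomm hc).eq,
          ← e]
        simp only [mul_assoc]
      refine ⟨?_, ?_, fun h => ?_⟩
      · rw [e']; exact isConj_conj ((hA 7 (by decide)).2 (Or.inr rfl))
      · rw [e']; exact mul_mem (mul_mem hc (f.emb_mem_C 7)) (inv_mem hc)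
      · have hz1 : (z : G) = 1 := mul_left_cancel (h.trans (mul_one t).symm)
        rw [hz1, conj_eq_one_iff, ← emb_z] at e
        exact absurd (f.emb_inj (e.trans f.emb_zero.symm)) (by decide)
    rw [← Nat.card_eq_of_bijective (fun o : Option Z => (o.elim (⟨⟨t, IsConj.refl t⟩, (hmem _).2 f.t_mem⟩ :
        Function.fixedPoints (π t)) fun z => ⟨⟨t * z, (htz z).1⟩, (hmem _).2 (htz z).2.1⟩))]
    rotate_left
    · constructor
      · intro a b h
        have h' := congrArg (fun q : Function.fixedPoints (π t) => ((q.1 : Ω) : G)) h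
        rcases a with _ | a <;> rcases b with _ | b
        · rfl
        · exact absurd h'.symm (htz b).2.2
        · exact absurd h' (htz a).2.2
        · exact congrArg some (Subtype.ext (mul_left_cancel h'))
      · rintro ⟨⟨x, hx⟩, hf⟩
        by_cases he : x = t
        · exact ⟨none, Subtype.ext (Subtype.ext he.symm)⟩
        · refine ⟨some ⟨t * x, hzc x hx ((hmem _).1 hf) he⟩, Subtype.ext (Subtype.ext ?_)⟩
          show t * (t * x) = x
          rw [← mul_assoc, f.tt, one_mul]
    rw [Finite.card_option]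
    have : Nat.card Z % 4 = 1 := f.clsz
    show (Nat.card Z + 1) % 4 = 2
    omega
  let V : G →* C2 :=
    { toFun := fun g => if Equiv.Perm.sign (π g) = 1 then 1 else C2.one'
      map_one' := by simp
      map_mul' := fun a b => by
        rw [map_mul, map_mul]
        rcases Int.units_eq_one_or (Equiv.Perm.sign (π a)) with h | h <;>
          rcases Int.units_eq_one_or (Equiv.Perm.sign (π b)) with h' | h' <;> rw [h, h'] <;> decide }
  refine exists_index_two V (g := t) ?_
  show (if Equiv.Perm.sign (π t) = 1 then (1 : C2) else C2.one') ≠ 1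
  rw [Equiv.Perm.sign_of_pow_two_eq_one hπ, if_neg]
  · decide
  rw [← Nat.card_eq_fintype_card, ← Nat.card_eq_fintype_card, hcardΩ]
  have hle : Nat.card (Function.fixedPoints (π t)) ≤ Nat.card Ω :=
    Nat.card_le_card_of_injective _ Subtype.val_injective
  rw [hcardΩ] at hle
  set N := (centralizer ({t} : Set G)).index
  set M := Nat.card (Function.fixedPoints (π t))
  obtain ⟨a, ha⟩ := h4
  have : (N - M) / 2 % 2 = 1 := by omega
  rw [← Nat.mod_add_div ((N - M) / 2) 2, this, pow_add, pow_mul]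
  simp

end Frame

end CfsgLib.Characterizations.TwoTimesSymmetric
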