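import Cfsg.Agent.Lib.Characterizations.TwoTimesSymmetric.Four

/-!
# The normalizer of `E` when `t` has eight conjugates in `E` under it
-/

set_option autoImplicit false
set_option linter.unusedSectionVars false
set_option linter.style.haveILetI false
set_option maxRecDepth 4000
set_option maxHeartbeats 2000000

namespace CfsgLib.Characterizations.TwoTimesSymmetric

open Subgroup CfsgLib.Characterizations.TwoTimesSymmetric.Count

/-- The two possibilities for the regular normal part. -/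
def zOf (b : Bool) : Act := bif b then pure 6 else (8, 4, 2, 1)

/-- Indices of the actions in `N(E)`. -/
abbrev Idx := Bool × Fin 4 × Fin 6

/-- The first factor. -/
def dPart (i : Bool) : Act := bif i then pure 15 else idA

/-- The second factor. -/
def zPart (Z : Act) : Fin 4 → Act := ![idA, Z, comp R (comp Z (comp R R)), comp (comp R R) (comp Z R)]

/-- The third factor. -/
def pPart : Fin 6 → Act := ![idA, R, comp R R, S, comp S R, comp S (comp R R)]

/-- The action with a given index. -/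
def mkQ (z : Bool) (a : Idx) : Act := comp (dPart a.1) (comp (zPart (zOf z) a.2.1) (pPart a.2.2))

/-- Odd permutations. -/
def sg (k : Fin 6) : Bool := decide (3 ≤ k.val)

/-- The two characters. -/
def chr (k : Bool) (a : Idx) : Bool := xor (k && a.1) (sg a.2.2)

theorem mkQ_inj : ∀ z a b, mkQ z a = mkQ z b → a = b := by decide +kernel

theorem step_d : ∀ z i b, ∃ c, mkQ z c = comp (dPart i) (mkQ z b) ∧
    ∀ k, chr k c = xor (chr k (i, 0, 0)) (chr k b) := by decide +kernel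

theorem step_z : ∀ z j b, ∃ c, mkQ z c = comp (zPart (zOf z) j) (mkQ z b) ∧
    ∀ k, chr k c = xor (chr k (false, j, 0)) (chr k b) := by decide +kernel

theorem step_p : ∀ z l b, ∃ c, mkQ z c = comp (pPart l) (mkQ z b) ∧
    ∀ k, chr k c = xor (chr k (false, 0, l)) (chr k b) := by decide +kernel

theorem mkQ_mul (z : Bool) (a b : Idx) : ∃ c, mkQ z c = comp (mkQ z a) (mkQ z b) ∧
    ∀ k, chr k c = xor (chr k a) (chr k b) := by
  obtain ⟨i, j, l⟩ := a
  obtain ⟨c1, e1, h1⟩ := step_p z l b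
  obtain ⟨c2, e2, h2⟩ := step_z z j c1
  obtain ⟨c3, e3, h3⟩ := step_d z i c2
  refine ⟨c3, ?_, fun k => ?_⟩
  · show mkQ z c3 = comp (comp (dPart i) (comp (zPart (zOf z) j) (pPart l))) (mkQ z b)
    rw [e3, e2, e1, comp_assoc, comp_assoc]
  · rw [h3, h2, h1]
    simp only [chr, show sg 0 = false from rfl]
    cases k <;> cases i <;> simp

theorem pPart_surj : ∀ L ∈ perms, ∃ l, pPart l = L := by
  intro L hL
  simp only [perms, List.mem_cons, List.not_mem_nil, or_false] at hL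
  rcases hL with h | h | h | h | h | h
  exacts [⟨0, h.symm⟩, ⟨1, h.symm⟩, ⟨2, h.symm⟩, ⟨3, h.symm⟩, ⟨4, h.symm⟩, ⟨5, h.symm⟩]

theorem mkQ_transitive : ∀ z v, par v = true → ∃ i j, app (mkQ z (i, j, 0)) 1 = v := by decide +kernel

/-- Number of actions commuting with a given one. -/
def cnt (z : Bool) (a : Idx) : ℕ :=
  (Finset.univ.filter fun b : Idx => comp (mkQ z b) (mkQ z a) = comp (mkQ z a) (mkQ z b)).card

/-- Number of even fixed vectors. -/
def kz (z : Bool) (a : Idx) : ℕ :=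
  (Finset.univ.filter fun v : Fin 16 => app (mkQ z a) v = v ∧ par v = false).card

/-- A class with centralizer of full two-part. -/
def Good (z : Bool) (a : Idx) : Prop :=
  ∃ e ∈ [0, 1, 2, 3, 4], kz z a = 2 ^ e ∧ 2 ^ (5 + e) ∣ 16 * cnt z a

/-- An action without marks. -/
def Bad (z : Bool) (a : Idx) : Prop :=
  ∃ e ∈ [0, 1, 2, 3, 4], kz z a = 2 ^ e ∧ 2 ^ (6 + e) ∣ 16 * cnt z a

instance (z : Bool) (a : Idx) : Decidable (Good z a) := by unfold Good; infer_instance
instance (z : Bool) (a : Idx) : Decidable (Bad z a) := by unfold Bad; infer_instance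

theorem arith_two {m C e k : ℕ} (hC : C ≠ 0) (h : 2 ^ (5 + k + e) ∣ m * C) (h64 : ¬ 64 ∣ C) :
    2 ^ (k + e) ∣ m := by
  obtain ⟨a, o, ho, rfl⟩ := Nat.exists_eq_two_pow_mul_odd hC
  have ha : a ≤ 5 := by
    by_contra ha
    exact h64 (dvd_mul_of_dvd_left (pow_dvd_pow 2 (show 6 ≤ a by omega)) o)
  rw [← mul_assoc] at h
  have h1 : 2 ^ (5 + k + e) ∣ m * 2 ^ a :=
    Nat.Coprime.dvd_of_dvd_mul_right ((Nat.coprime_two_left.2 ho).pow_left _) h
  have h2 : 2 ^ 5 * 2 ^ (k + e) ∣ 2 ^ 5 * m := by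
    rw [← pow_add, show 5 + (k + e) = 5 + k + e by omega, mul_comm _ m]
    exact h1.trans (Nat.mul_dvd_mul_left m (pow_dvd_pow 2 ha))
  exact (Nat.mul_dvd_mul_iff_left (by norm_num)).1 h2

namespace Frame

variable {G : Type*} [Group G] [Finite G] {t : G} (f : Frame t)

/-- The action is induced by some element. -/
def Real (L : Act) : Prop := ∃ g, f.Acts g L

/-- The actions with indices `z` are realised in `N(E)`. -/
def HasQ (z : Bool) : Prop := f.Real (pure 15) ∧ f.Real (zOf z)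

theorem real_comp {L M : Act} : f.Real L → f.Real M → f.Real (comp L M) :=
  fun ⟨g, hg⟩ ⟨h, hh⟩ => ⟨g * h, hg.mul hh⟩

variable {z : Bool}

theorem real_mkQ (hQ : f.HasQ z) (a : Idx) : f.Real (mkQ z a) := by
  have hR : f.Real R := ⟨_, f.acts_X⟩
  have hS : f.Real S := ⟨_, f.acts_s⟩
  have h1 : f.Real idA := ⟨_, f.acts_one⟩
  obtain ⟨i, j, l⟩ := a
  refine f.real_comp ?_ (f.real_comp ?_ ?_)
  · cases i
    exacts [h1, hQ.1]
  · fin_cases j
    exacts [h1, hQ.2, f.real_comp hR (f.real_comp hQ.2 (f.real_comp hR hR)),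
      f.real_comp (f.real_comp hR hR) (f.real_comp hQ.2 hR)]
  · fin_cases l
    exacts [h1, hR, f.real_comp hR hR, hS, f.real_comp hS hR, f.real_comp hS (f.real_comp hR hR)]

variable (hmk : ∀ v, f.Mk v ↔ par v = true) (hQ : f.HasQ z)
include hmk hQ

/-- All actions have an index. -/
theorem exists_idx {g : G} {L : Act} (hL : f.Acts g L) : ∃ a, L = mkQ z a := by
  have hv : par (app L 1) = true := (hmk _).1 (by
    show IsConj t _
    rw [← hL 1]
    exact isConj_conj f.mk_one)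
  obtain ⟨i, j, e⟩ := mkQ_transitive z _ hv
  obtain ⟨h, hh⟩ := f.real_mkQ hQ (i, j, 0)
  obtain ⟨M, hM⟩ := hh.inv
  have hfix : h⁻¹ * g * t * (h⁻¹ * g)⁻¹ = t := by
    calc h⁻¹ * g * t * (h⁻¹ * g)⁻¹ = h⁻¹ * (g * t * g⁻¹) * h := by group
      _ = h⁻¹ * f.emb (app L 1) * h := by rw [← hL 1, emb_one]
      _ = h⁻¹ * (h * f.emb 1 * h⁻¹) * h := by rw [hh 1, e]
      _ = t := by rw [emb_one]; group
  obtain ⟨l, hl⟩ := pPart_surj _ (f.perms_of_fix
    (mem_centralizer_singleton_iff.2 (mul_inv_eq_iff_eq_mul.1 hfix)) (hM.mul hL))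
  refine ⟨(i, j, l), hL.eq ?_⟩
  have h2 := hh.mul (hM.mul hL)
  rw [mul_inv_cancel_left, ← hl] at h2
  show f.Acts g (comp (dPart i) (comp (zPart (zOf z) j) (pPart l)))
  rw [← comp_assoc]
  convert h2 using 2
  show _ = comp (dPart i) (comp (zPart (zOf z) j) (pPart 0))
  rw [show pPart 0 = idA from rfl, comp_idA]

theorem exists_idx' {g : G} (hg : g ∈ f.NE) : ∃ a, f.Acts g (mkQ z a) := by
  obtain ⟨L, hL⟩ := f.exists_acts hg
  obtain ⟨a, rfl⟩ := f.exists_idx hmk hQ hL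
  exact ⟨a, hL⟩

/-- The characters of `N(E)`. -/
theorem exists_chr (k : Bool) : ∃ χ : ↥f.NE →* C2,
    ∀ g a, f.Acts g (mkQ z a) → val χ g = toC2 (chr k a) := by
  choose I hI using fun g : f.NE => f.exists_idx' hmk hQ g.2
  let χ : ↥f.NE →* C2 := MonoidHom.mk' (fun g => toC2 (chr k (I g))) fun a b => by
    obtain ⟨c, hc, hk⟩ := mkQ_mul z (I a) (I b)
    have h := (hI a).mul (hI b)
    rw [← hc] at h
    rw [mkQ_inj z _ _ ((hI (a * b)).eq h), hk, toC2_xor]
  refine ⟨χ, fun g a ha => ?_⟩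
  rw [val_of_mem χ (f.mem_NE_of_acts ha)]
  show toC2 (chr k (I ⟨g, _⟩)) = _
  rw [mkQ_inj z _ _ ((hI ⟨g, f.mem_NE_of_acts ha⟩).eq ha)]

/-- The preimage of the centralizer of an action. -/
def preC (a : Idx) : Subgroup G where
  carrier := {g | ∃ b, f.Acts g (mkQ z b) ∧ comp (mkQ z b) (mkQ z a) = comp (mkQ z a) (mkQ z b)}
  one_mem' := by
    obtain ⟨b, hb⟩ := f.exists_idx hmk hQ f.acts_one
    exact ⟨b, hb ▸ f.acts_one, by rw [← hb, idA_comp, comp_idA]⟩
  mul_mem' := by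
    rintro g h ⟨b, hb, eb⟩ ⟨c, hc, ec⟩
    obtain ⟨d, hd⟩ := f.exists_idx hmk hQ (hb.mul hc)
    refine ⟨d, hd ▸ hb.mul hc, ?_⟩
    rw [← hd, comp_assoc, ec, ← comp_assoc, eb, comp_assoc]
  inv_mem' := by
    rintro g ⟨b, hb, eb⟩
    obtain ⟨M, hM⟩ := hb.inv
    obtain ⟨c, rfl⟩ := f.exists_idx hmk hQ hM
    refine ⟨c, hM, ?_⟩
    have h1 : comp (mkQ z b) (mkQ z c) = idA :=
      (mul_inv_cancel g ▸ hb.mul hM : f.Acts 1 _).eq f.acts_one
    have h2 : comp (mkQ z c) (mkQ z b) = idA :=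
      (inv_mul_cancel g ▸ hM.mul hb : f.Acts 1 _).eq f.acts_one
    calc comp (mkQ z c) (mkQ z a)
        = comp (mkQ z c) (comp (comp (mkQ z a) (mkQ z b)) (mkQ z c)) := by
          rw [comp_assoc, h1, comp_idA]
      _ = comp (comp (mkQ z c) (mkQ z b)) (comp (mkQ z a) (mkQ z c)) := by
          rw [← eb]; simp only [comp_assoc]
      _ = comp (mkQ z a) (mkQ z c) := by rw [h2, idA_comp]

theorem preC_le (a : Idx) : f.preC hmk hQ a ≤ f.NE := fun _ ⟨_, hb, _⟩ => f.mem_NE_of_acts hb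

theorem card_preC (a : Idx) : Nat.card (f.preC hmk hQ a) = 16 * cnt z a := by
  choose h hh using fun b : Idx => f.real_mkQ hQ b
  let F : Fin 16 × {b : Idx // comp (mkQ z b) (mkQ z a) = comp (mkQ z a) (mkQ z b)} →
      f.preC hmk hQ a := fun p => ⟨h p.2.1 * f.emb p.1, p.2.1,
        comp_idA (mkQ z p.2.1) ▸ (hh _).mul (f.acts_emb _), p.2.2⟩
  have hF : Function.Bijective F := by
    refine ⟨fun ⟨v, b, hb⟩ ⟨w, c, hc⟩ e => ?_, ?_⟩
    · have e' : h b * f.emb v = h c * f.emb w := congrArg Subtype.val e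
      have hbc : b = c := mkQ_inj z _ _ (by
        have h1 := (hh b).mul (f.acts_emb v)
        have h2 := (hh c).mul (f.acts_emb w)
        rw [e', comp_idA] at h1
        rw [comp_idA] at h2
        exact h1.eq h2)
      subst hbc
      rw [f.emb_inj (mul_left_cancel e')]
    · rintro ⟨g, b, hb, eb⟩
      obtain ⟨v, hv⟩ := f.eq_mul_of_acts hb (hh b)
      exact ⟨(v, ⟨b, eb⟩), Subtype.ext hv.symm⟩
  rw [← Nat.card_eq_of_bijective F hF, Nat.card_prod, Nat.card_eq_fintype_card, Fintype.card_fin,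
    Nat.card_eq_fintype_card, Fintype.card_subtype]
  rfl

/-- A mark acting as `mkQ z a` and its conjugates under the preimage of the centralizer. -/
theorem class_bound {a : Idx} {x : G} (hx : IsConj t x) (hxa : f.Acts x (mkQ z a)) :
    (∀ y, IsConj t y → f.Acts y (mkQ z a) → ∃ w : Fin 16,
      (app (mkQ z a) w = w ∧ par w = false) ∧ y = x * f.emb w) := by
  intro y hy hya
  obtain ⟨w, rfl⟩ := f.eq_mul_of_acts hya hxa
  have hc : app (mkQ z a) w = w := by
    have h1 := f.sq_of_conj hy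
    have h2 := f.sq_of_conj hx
    refine f.emb_inj ?_
    rw [← hxa w]
    have : x * f.emb w * x⁻¹ * f.emb w = 1 := by
      rw [inv_eq_of_mul_eq_one_right h2, mul_assoc (x * f.emb w)]
      exact h1
    rw [mul_eq_one_iff_eq_inv.1 this, emb_inv]
  refine ⟨w, ⟨hc, Bool.eq_false_iff.2 fun hp => ?_⟩, rfl⟩
  have hcom : Commute x (f.emb w) := mul_inv_eq_iff_eq_mul.1 ((hxa w).trans (by rw [hc]))
  exact (f.mul_mark_iff hmk hx (f.emb_sq w) hcom).1 hy ((hmk w).2 hp)

theorem coset_lemma {a : Idx} {x : G} (hx : IsConj t x) (hxa : f.Acts x (mkQ z a)) :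
    ¬ Bad z a ∧ (Good z a → 32 ∣ Nat.card (f.NE ⊓ centralizer ({x} : Set G) : Subgroup G) ∧
      ∀ y, IsConj t y → f.Acts y (mkQ z a) → ∃ h ∈ f.NE, h⁻¹ * x * h = y) := by
  classical
  set K := f.preC hmk hQ a with hKdef
  have hcl : ∀ k ∈ K, ∃ w : {w : Fin 16 // app (mkQ z a) w = w ∧ par w = false},
      k * x * k⁻¹ = x * f.emb w.1 := by
    rintro k ⟨b, hb, eb⟩
    obtain ⟨M, hM⟩ := hb.inv
    have h1 : comp (mkQ z b) M = idA := (mul_inv_cancel k ▸ hb.mul hM : f.Acts 1 _).eq f.acts_one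
    have h := (hb.mul hxa).mul hM
    rw [eb, comp_assoc, h1, comp_idA] at h
    obtain ⟨w, hw, e⟩ := f.class_bound hmk hQ hx hxa _ (isConj_conj hx) h
    exact ⟨⟨w, hw⟩, e⟩
  have hm := class_le_of_forall (H := K) (x := x) _ hcl
  rw [Fintype.card_subtype] at hm
  have e := card_eq_class_mul K x
  rw [f.card_preC hmk hQ a] at e
  have h64 : ¬ 64 ∣ Nat.card (K ⊓ centralizer ({x} : Set G) : Subgroup G) :=
    f.no_sixty_four hx inf_le_right
  set m := Nat.card {y : G // ∃ k ∈ K, k * x * k⁻¹ = y}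
  have hm0 : 0 < m := Nat.card_pos_iff.2 ⟨⟨⟨x, 1, one_mem K, by group⟩⟩, inferInstance⟩
  refine ⟨?_, ?_⟩
  · rintro ⟨i, -, hk, hd⟩
    rw [e] at hd
    have h := Nat.le_of_dvd hm0 (arith_two (k := 1) (e := i) Nat.card_pos.ne' (by
      rwa [show 5 + 1 + i = 6 + i by omega]) h64)
    rw [pow_add] at h
    change m ≤ kz z a at hm
    omega
  · rintro ⟨i, -, hk, hd⟩
    rw [e] at hd
    have h := Nat.le_of_dvd hm0 (arith_two (k := 0) (e := i) Nat.card_pos.ne' (by
      rwa [show 5 + 0 + i = 5 + i by omega]) h64)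
    have hmk' : m = kz z a := le_antisymm hm (by rw [hk]; simpa using h)
    refine ⟨?_, fun y hy hya => ?_⟩
    · refine dvd_trans ?_ (Subgroup.card_dvd_of_le (inf_le_inf_right _ (f.preC_le hmk hQ a)))
      rw [hmk', hk, pow_add, mul_comm (2 ^ 5)] at hd
      exact (Nat.mul_dvd_mul_iff_left (pow_pos two_pos i)).1 hd
    · obtain ⟨w, hw, rfl⟩ := f.class_bound hmk hQ hx hxa y hy hya
      choose F hF using fun c : {y : G // ∃ k ∈ K, k * x * k⁻¹ = y} => hcl _ c.2.choose_spec.1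
      have hFi : Function.Injective F := fun c d h => Subtype.ext (by
        rw [← c.2.choose_spec.2, ← d.2.choose_spec.2, hF, hF, h])
      obtain ⟨c, hc⟩ := ((Nat.bijective_iff_injective_and_card F).2 ⟨hFi, by
        rw [Nat.card_eq_fintype_card (α := {w : Fin 16 // _}), Fintype.card_subtype]
        exact hmk'⟩).2 ⟨w, hw⟩
      refine ⟨c.2.choose⁻¹, inv_mem (f.preC_le hmk hQ a c.2.choose_spec.1), ?_⟩
      rw [inv_inv, hF c, hc]

/-- Transfer into `N(E)`. -/
theorem transfer_NE (k : Bool) (reps dead : List Idx)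
    (hgood : ∀ r ∈ reps, Good z r ∧ chr k r = true)
    (hnc : ∀ r ∈ reps, ∀ r' ∈ reps, ∀ b, comp (mkQ z b) (mkQ z r) = comp (mkQ z r') (mkQ z b) → r = r')
    (hcov : ∀ a, chr k a = true → comp (mkQ z a) (mkQ z a) = idA →
      Bad z a ∨ ∃ r ∈ reps ++ dead, ∃ b, comp (mkQ z b) (mkQ z a) = comp (mkQ z r) (mkQ z b))
    (hdead : ∀ r ∈ dead, ∀ y, IsConj t y → ¬ f.Acts y (mkQ z r))
    (hodd : Odd (Nat.card {r // r ∈ reps}))
    (hmarked : ∀ r ∈ reps, ∃ x, IsConj t x ∧ f.Acts x (mkQ z r)) :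
    ∃ H : Subgroup G, H.index = 2 := by
  classical
  obtain ⟨χ, hχ⟩ := f.exists_chr hmk hQ k
  choose x hx hxa using fun r : {r // r ∈ reps} => hmarked r r.2
  refine exists_index_two_of_classes f.orderOf_t f.T_le f.card_T f.card64 χ x hodd
    (fun r => ⟨hx r, ?_, ?_⟩) ?_ ?_
  · rw [hχ _ _ (hxa r), (hgood r r.2).2]; decide
  · exact ((f.coset_lemma hmk hQ (hx r) (hxa r)).2 (hgood r r.2).1).1
  · intro i j h hh e
    obtain ⟨b, hb⟩ := f.exists_idx' hmk hQ (inv_mem hh)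
    refine Subtype.ext (hnc i i.2 j j.2 b ?_)
    have h1 := hb.mul (hxa i)
    have h2 := (hxa j).mul hb
    rw [show x j * h⁻¹ = h⁻¹ * x i by rw [← e]; group] at h2
    exact h1.eq h2
  · intro y hy hcj hv _
    obtain ⟨a, ha⟩ := f.exists_idx' hmk hQ hy
    have hca : chr k a = true := by
      by_contra h
      rw [hχ _ _ ha, Bool.not_eq_true _ |>.mp h] at hv
      exact hv rfl
    have hsq : comp (mkQ z a) (mkQ z a) = idA := by
      have h := ha.mul ha
      rw [f.sq_of_conj hcj] at h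
      exact h.eq f.acts_one
    rcases hcov a hca hsq with hb | ⟨r, hr, b, hb⟩
    · exact absurd hb (f.coset_lemma hmk hQ hcj ha).1
    obtain ⟨g, hg⟩ := f.real_mkQ hQ b
    obtain ⟨M, hM⟩ := hg.inv
    have h1 : comp (mkQ z b) M = idA := (mul_inv_cancel g ▸ hg.mul hM : f.Acts 1 _).eq f.acts_one
    have h := (hg.mul ha).mul hM
    rw [hb, comp_assoc, h1, comp_idA] at h
    rcases List.mem_append.1 hr with hr | hr
    swap
    · exact absurd h (hdead r hr _ (isConj_conj hcj))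
    obtain ⟨c, hc, e⟩ := ((f.coset_lemma hmk hQ (hx ⟨r, hr⟩) (hxa ⟨r, hr⟩)).2 (hgood r hr).1).2 _
      (isConj_conj hcj) h
    refine ⟨⟨r, hr⟩, c * g, mul_mem hc (f.mem_NE_of_acts hg), ?_⟩
    rw [show (c * g)⁻¹ * x ⟨r, hr⟩ * (c * g) = g⁻¹ * (c⁻¹ * x ⟨r, hr⟩ * c) * g by group, e]
    group

end Frame

end CfsgLib.Characterizations.TwoTimesSymmetric
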