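import Cfsg.Agent.Lib.Characterizations.TwoTimesSymmetric.Normal

/-!
# Reduction to four central conjugates
-/

set_option autoImplicit false
set_option linter.unusedSectionVars false
set_option linter.style.haveILetI false
set_option maxRecDepth 4000
set_option maxHeartbeats 1000000

namespace CfsgLib.Characterizations.TwoTimesSymmetric

open Subgroup CfsgLib.Characterizations.TwoTimesSymmetric.Count

/-- The product of a word in `L`, `R` and `S`. -/
def wordAct (L : Act) : List (Fin 3) → Act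
  | [] => idA
  | i :: w => comp (![L, R, S] i) (wordAct L w)

/-- The image of `t` together with the failure to permute the generators. -/
def Escapes (L : Act) (ws : List (List (Fin 3))) : Prop :=
  ∃ w ∈ ws, (wordAct L w).1 = 1 ∧ wordAct L w ∉ perms

instance (L : Act) (ws : List (List (Fin 3))) : Decidable (Escapes L ws) := by
  unfold Escapes; infer_instance

/-- The words used for elements of order three. -/
def words3 : List (List (Fin 3)) :=
  [[0,1,0,0], [0,0,1,0], [0,1,2,0,1,0], [0,0,1,0,1,1,0], [0,1,1,0,1,0,0], [0,1,0,2,0,1,0]]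

theorem order3_cases : ∀ p ∈ ZT, ∀ q : Fin 16, ∀ r ∈ ZT, p ≠ 1 →
    comp (p, q, q ^^^ 6, r) (comp (p, q, q ^^^ 6, r) (p, q, q ^^^ 6, r)) = idA →
    comp (p, q, q ^^^ 6, r) S = comp S (p, q, q ^^^ 6, r) →
    Escapes (p, q, q ^^^ 6, r) words3 ∨ (p = 14 ∧ r = 9) ∨ (p = 15 ∧ r = 7) := by
  decide +kernel

namespace Frame

variable {G : Type*} [Group G] {t : G} (f : Frame t)

theorem not_escapes [Finite G] {g : G} {L : Act} (hL : f.Acts g L) (ws : List (List (Fin 3))) :
    ¬ Escapes L ws := by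
  rintro ⟨w, -, h1, h2⟩
  have hw : ∀ w : List (Fin 3), ∃ x, f.Acts x (wordAct L w) := fun w => by
    induction w with
    | nil => exact ⟨1, f.acts_one⟩
    | cons i w ih =>
      obtain ⟨x, hx⟩ := ih
      fin_cases i
      · exact ⟨_, hL.mul hx⟩
      · exact ⟨_, f.acts_X.mul hx⟩
      · exact ⟨_, f.acts_s.mul hx⟩
  obtain ⟨x, hx⟩ := hw w
  have : x * t * x⁻¹ = t := by
    have h := hx 1
    rwa [(app_basis _).1, h1, emb_one] at h
  exact h2 (f.perms_of_fix (mem_centralizer_singleton_iff.2 (mul_inv_eq_iff_eq_mul.1 this)) hx)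

theorem centralizer_class {v : Fin 16} (hv : v ∈ ZT) :
    32 ∣ Nat.card (centralizer ({t} : Set G) ⊓ centralizer ({f.emb v} : Set G) : Subgroup G) := by
  rw [← f.card_T]
  refine Subgroup.card_dvd_of_le fun x hx => ⟨f.T_le hx, mem_centralizer_singleton_iff.2 ?_⟩
  exact (f.commute_emb_ZT hv hx).symm.eq

include f in
theorem sq_of_conj {x : G} (hx : IsConj t x) : x * x = 1 := by
  obtain ⟨g, rfl⟩ := isConj_iff.1 hx
  rw [show g * t * g⁻¹ * (g * t * g⁻¹) = g * (t * t) * g⁻¹ by group, f.tt]; group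

include f in
theorem orderOf_t : orderOf t = 2 := by
  haveI : Fact (Nat.Prime 2) := ⟨Nat.prime_two⟩
  refine orderOf_eq_prime (by rw [sq]; exact f.tt) fun h => ?_
  exact absurd (f.emb_inj (f.emb_one.trans (h.trans f.emb_zero.symm))) (by decide)

/-- Transfer from the centralizer. -/
theorem transfer_centralizer [Finite G] (χ : ↥(centralizer ({t} : Set G)) →* C2) (c : Fin 16 → Bool)
    (hχ : ∀ v, val χ (f.emb v) = toC2 (c v))
    (hodd : Odd (Nat.card {v : Fin 16 // v ∈ ZT ∧ f.Mk v ∧ c v = true})) :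
    ∃ H : Subgroup G, H.index = 2 := by
  refine exists_index_two_of_classes f.orderOf_t f.T_le f.card_T f.card64 χ
    (fun v : {v : Fin 16 // v ∈ ZT ∧ f.Mk v ∧ c v = true} => f.emb v) hodd
    (fun v => ⟨v.2.2.1, by rw [hχ, v.2.2.2]; decide, f.centralizer_class v.2.1⟩) ?_ ?_
  · intro v w h hh e
    refine Subtype.ext (f.ZT_unique v.2.1 w.2.1 (inv_mem hh) ?_)
    rw [inv_inv]; exact e
  · intro x hx hcj hv _
    obtain ⟨g, hg, v, hv', e⟩ := f.invol_cases hx (f.sq_of_conj hcj)
    have hcv : c v = true := by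
      by_contra hc
      rw [Bool.not_eq_true] at hc
      refine hv ?_
      rw [← val_conj' χ hg x, e, hχ, hc]; rfl
    refine ⟨⟨v, hv', ?_, hcv⟩, g, hg, ?_⟩
    · show IsConj t _
      rw [← e]; exact isConj_conj hcj
    · show g⁻¹ * f.emb v * g = x
      rw [← e]; group

theorem val_third (χ : ↥(centralizer ({t} : Set G)) →* C2) (hχ : χ = f.θ * f.ψ) (v : Fin 16) :
    val χ (f.emb v) = toC2 (v.val.testBit 0) := by
  subst hχ
  rw [val_of_mem _ (f.emb_mem_C v), MonoidHom.mul_apply, ← val_of_mem f.θ (f.emb_mem_C v),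
    ← val_of_mem f.ψ (f.emb_mem_C v)]
  show f.th _ * f.ps _ = _
  rw [th_emb, ps_emb, ← toC2_xor]
  congr 1
  unfold par par'
  cases v.val.testBit 0 <;> cases v.val.testBit 1 <;> cases v.val.testBit 2 <;> cases v.val.testBit 3 <;> rfl



/-- Unless `G` has a subgroup of index two the marks form one of four patterns. -/
theorem patterns [Finite G] (hG : ¬ ∃ H : Subgroup G, H.index = 2) :
    (∀ v ∈ ZT, f.Mk v ↔ (v = 1 ∨ v = 7)) ∨
    (∀ v ∈ ZT, f.Mk v ↔ (v = 1 ∨ v = 7 ∨ v = 8 ∨ v = 14)) ∨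
    (∀ v ∈ ZT, f.Mk v ↔ (v = 1 ∨ v = 7 ∨ v = 9 ∨ v = 15)) ∨
    (3 ∣ Nat.card {v : Fin 16 // v ∈ ZT ∧ f.Mk v}) := by
  classical
  have h1 : ¬ Odd (Nat.card {v : Fin 16 // v ∈ ZT ∧ f.Mk v ∧ par v = true}) :=
    fun h => hG (f.transfer_centralizer f.θ par f.th_emb h)
  have h2 : ¬ Odd (Nat.card {v : Fin 16 // v ∈ ZT ∧ f.Mk v ∧ par' v = true}) :=
    fun h => hG (f.transfer_centralizer f.ψ par' f.ps_emb h)
  have h3 : ¬ Odd (Nat.card {v : Fin 16 // v ∈ ZT ∧ f.Mk v ∧ v.val.testBit 0 = true}) :=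
    fun h => hG (f.transfer_centralizer _ (fun v => v.val.testBit 0) (f.val_third _ rfl) h)
  let m : Fin 16 → Bool := fun v => decide (f.Mk v)
  have hm : ∀ v, f.Mk v ↔ m v = true := fun v => by simp [m]
  have e : ∀ c : Fin 16 → Bool, Nat.card {v : Fin 16 // v ∈ ZT ∧ f.Mk v ∧ c v = true} =
      (ZT.filter fun v => m v && c v).length := fun c => by
    rw [Nat.card_congr (Equiv.subtypeEquivRight (q := fun v => v ∈ ZT.filter fun v => m v && c v)
      fun v => by simp [hm, and_assoc]), Nat.card_eq_fintype_card]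
    rw [Fintype.card_of_subtype (ZT.filter fun v => m v && c v).toFinset (fun v => List.mem_toFinset),
      List.toFinset_card_of_nodup ((by decide : ZT.Nodup).filter _)]
  rw [e] at h1 h2 h3
  rw [Nat.not_odd_iff_even] at h1 h2 h3
  have e3 : Nat.card {v : Fin 16 // v ∈ ZT ∧ f.Mk v} = (ZT.filter fun v => m v && true).length := by
    rw [← e fun _ => true]
    exact Nat.card_congr (Equiv.subtypeEquivRight fun v => by simp)
  rw [e3]
  have key : ∀ b7 b8 b9 b14 b15 : Bool,
      let m' : Fin 16 → Bool := fun v => decide (v = 1) || (decide (v = 7) && b7) ||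
        (decide (v = 8) && b8) || (decide (v = 9) && b9) || (decide (v = 14) && b14) ||
        (decide (v = 15) && b15)
      Even (ZT.filter fun v => m' v && par v).length →
      Even (ZT.filter fun v => m' v && par' v).length →
      Even (ZT.filter fun v => m' v && v.val.testBit 0).length →
      (∀ v ∈ ZT, m' v = (decide (v = 1) || decide (v = 7))) ∨
      (∀ v ∈ ZT, m' v = (decide (v = 1) || decide (v = 7) || decide (v = 8) || decide (v = 14))) ∨
      (∀ v ∈ ZT, m' v = (decide (v = 1) || decide (v = 7) || decide (v = 9) || decide (v = 15))) ∨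
      3 ∣ (ZT.filter fun v => m' v && true).length := by
    simp only [Nat.even_iff]
    decide +kernel
  have hz0 : m 0 = false := by simp [m, f.not_mk_zero]
  have hz6 : m 6 = false := by simp [m, f.not_mk_six]
  have ho : m 1 = true := by simp [m, f.mk_one]
  have hagree : ∀ v ∈ ZT, m v = (decide (v = 1) || (decide (v = 7) && m 7) ||
        (decide (v = 8) && m 8) || (decide (v = 9) && m 9) || (decide (v = 14) && m 14) ||
        (decide (v = 15) && m 15)) := by
    intro v hv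
    simp only [ZT, List.mem_cons, List.not_mem_nil, or_false] at hv
    rcases hv with rfl | rfl | rfl | rfl | rfl | rfl | rfl | rfl <;>
      simp +decide [hz0, hz6, ho]
  have hf : ∀ c : Fin 16 → Bool, (ZT.filter fun v => m v && c v) =
      (ZT.filter fun v => (decide (v = 1) || (decide (v = 7) && m 7) ||
        (decide (v = 8) && m 8) || (decide (v = 9) && m 9) || (decide (v = 14) && m 14) ||
        (decide (v = 15) && m 15)) && c v) := fun c =>
    List.filter_congr fun v hv => by rw [hagree v hv]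
  rw [hf] at h1 h2 h3 ⊢
  rcases key (m 7) (m 8) (m 9) (m 14) (m 15) h1 h2 h3 with h | h | h | h
  · exact Or.inl fun v hv => by rw [hm, hagree v hv]; have := h v hv; simp only at this; rw [this]; simp
  · exact Or.inr (Or.inl fun v hv => by rw [hm, hagree v hv]; have := h v hv; simp only at this; rw [this]; simp [or_assoc])
  · exact Or.inr (Or.inr (Or.inl fun v hv => by rw [hm, hagree v hv]; have := h v hv; simp only at this; rw [this]; simp [or_assoc]))
  · exact Or.inr (Or.inr (Or.inr h))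

theorem mk_iff_orbit [Finite G] {v : Fin 16} (hv : v ∈ ZT) :
    f.Mk v ↔ ∃ n : f.NT, (n : G) * t * (n : G)⁻¹ = f.emb v := by
  refine ⟨fun h => ?_, fun ⟨n, hn⟩ => isConj_iff.2 ⟨n, hn⟩⟩
  obtain ⟨n, hn, hnT⟩ := f.exists_norm hv h
  exact ⟨⟨n, f.mem_NT.2 hnT⟩, hn⟩

/-- The order of the normalizer. -/
theorem card_NT [Finite G] :
    Nat.card f.NT = 32 * Nat.card {v : Fin 16 // v ∈ ZT ∧ f.Mk v} := by
  have hlab : ∀ n : f.NT, ∃ v, v ∈ ZT ∧ f.Mk v ∧ (n : G) * t * (n : G)⁻¹ = f.emb v := fun n => by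
    obtain ⟨w, hw, hm, e⟩ := f.NT_mark n.2 (v := 1) (by decide) f.mk_one
    rw [emb_one] at e
    exact ⟨w, hw, hm, e⟩
  let F : f.NT ⧸ f.T.subgroupOf f.NT → {v : Fin 16 // v ∈ ZT ∧ f.Mk v} := fun q =>
    ⟨(hlab q.out).choose, (hlab q.out).choose_spec.1, (hlab q.out).choose_spec.2.1⟩
  have hout : ∀ n : f.NT, ((QuotientGroup.mk n : f.NT ⧸ f.T.subgroupOf f.NT).out : G) * t *
      ((QuotientGroup.mk n : f.NT ⧸ f.T.subgroupOf f.NT).out : G)⁻¹ = (n : G) * t * (n : G)⁻¹ := fun n => by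
    obtain ⟨k, hk⟩ := QuotientGroup.mk_out_eq_mul (f.T.subgroupOf f.NT) n
    rw [hk, Subgroup.coe_mul, show (n : G) * ((k : f.NT) : G) * t * ((n : G) * ((k : f.NT) : G))⁻¹ =
      (n : G) * (((k : f.NT) : G) * t * ((k : f.NT) : G)⁻¹) * (n : G)⁻¹ by group,
      conj_t (t := t) (show ((k : f.NT) : G) ∈ centralizer ({t} : Set G) from f.T_le k.2)]
  have hF : Function.Bijective F := by
    constructor
    · intro a b h
      have e1 := (hlab a.out).choose_spec.2.2
      have e2 := (hlab b.out).choose_spec.2.2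
      have h' : f.emb (hlab a.out).choose = f.emb (hlab b.out).choose :=
        congrArg (fun q => f.emb q.1) h
      rw [← e1, ← e2] at h'
      rw [← QuotientGroup.out_eq' a, ← QuotientGroup.out_eq' b, QuotientGroup.eq]
      refine f.NT_fix_t (mul_mem (inv_mem a.out.2) b.out.2) ?_
      calc (a.out : G)⁻¹ * b.out * t * ((a.out : G)⁻¹ * b.out)⁻¹
          = (a.out : G)⁻¹ * ((b.out : G) * t * (b.out : G)⁻¹) * a.out := by group
        _ = t := by rw [← h']; group
    · rintro ⟨v, hv, hm⟩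
      obtain ⟨n, hn⟩ := (f.mk_iff_orbit hv).1 hm
      refine ⟨QuotientGroup.mk n, Subtype.ext (f.emb_inj ?_)⟩
      exact (hlab _).choose_spec.2.2.symm.trans ((hout n).trans hn)
  rw [Subgroup.card_eq_card_quotient_mul_card_subgroup (f.T.subgroupOf f.NT),
    Nat.card_congr (Subgroup.subgroupOfEquivOfLe f.T_le_NT).toEquiv, card_T,
    Nat.card_eq_of_bijective F hF, mul_comm]

/-- An element of order three in the normalizer acts on `E` with exceptional values. -/
theorem order3_values [Finite G] {h : G} (hh : h ∈ f.NT) (h3 : h ^ 3 = 1) (hT : h ∉ f.T) :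
    (h * t * h⁻¹ = f.emb 14 ∧ h * f.a3 * h⁻¹ = f.emb 9) ∨
      (h * t * h⁻¹ = f.emb 15 ∧ h * f.a3 * h⁻¹ = f.emb 7) := by
  have hfx : f.Fx h := by
    have h4 : h = h * h * (h * h) := by
      calc h = h ^ 3 * h := by rw [h3, one_mul]
        _ = _ := by rw [pow_three]; group
    rw [h4]
    exact f.Fx_sq _ (mul_mem hh hh)
  obtain ⟨⟨p, q, q', r⟩, hL⟩ := f.acts_of_norm hfx
  obtain ⟨b1, b2, b3, b4⟩ := app_basis (p, q, q', r)
  obtain ⟨p', hp', hpe⟩ := f.NT_ZT hh (v := 1) (by decide)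
  obtain ⟨r', hr', hre⟩ := f.NT_ZT hh (v := 8) (by decide)
  have ep : p = p' := b1.symm.trans (f.emb_inj ((hL 1).symm.trans hpe))
  have er : r = r' := b4.symm.trans (f.emb_inj ((hL 8).symm.trans hre))
  have hq : q' = q ^^^ 6 := by
    have h6 : h * f.emb 2 * h⁻¹ * (h * f.emb 4 * h⁻¹) = f.emb 6 := by
      rw [← f.NT_six hh, show h * f.emb 2 * h⁻¹ * (h * f.emb 4 * h⁻¹) = h * (f.emb 2 * f.emb 4) * h⁻¹ by
        group, ← emb_mul]
      rfl
    rw [hL 2, hL 4, ← emb_mul, b2, b3] at h6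
    have hd : ∀ a b : Fin 16, a ^^^ b = 6 → b = a ^^^ 6 := by decide +kernel
    exact hd _ _ (f.emb_inj h6)
  subst hq
  have hp1 : p ≠ 1 := fun e => hT (f.NT_fix_t hh (by
    have := hL 1
    rwa [b1, show (p, q, q ^^^ 6, r).1 = 1 from e, emb_one] at this))
  have hcube : comp (p, q, q ^^^ 6, r) (comp (p, q, q ^^^ 6, r) (p, q, q ^^^ 6, r)) = idA := by
    have h' := hL.mul (hL.mul hL)
    rw [show h * (h * h) = 1 by rw [← h3, pow_three]] at h'
    exact h'.eq f.acts_one
  rcases order3_cases p (ep ▸ hp') q r (er ▸ hr') hp1 hcube (f.acts_comm hh hL) with e | ⟨e1, e2⟩ | ⟨e1, e2⟩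
  · exact absurd e (f.not_escapes hL _)
  all_goals subst e1 e2
  · left
    exact ⟨by have := hL 1; rwa [b1, emb_one] at this, by have := hL 8; rwa [b4, emb_a3] at this⟩
  · right
    exact ⟨by have := hL 1; rwa [b1, emb_one] at this, by have := hL 8; rwa [b4, emb_a3] at this⟩

/-- The number of central conjugates is not divisible by three. -/
theorem not_three [Finite G] : ¬ 3 ∣ Nat.card {v : Fin 16 // v ∈ ZT ∧ f.Mk v} := by
  intro h3
  haveI : Fact (Nat.Prime 3) := ⟨Nat.prime_three⟩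
  obtain ⟨g, hg⟩ := exists_prime_orderOf_dvd_card' (G := f.NT) 3 (by
    rw [f.card_NT]; exact dvd_mul_of_dvd_right h3 _)
  have hg3 : (g : G) ^ 3 = 1 := by
    rw [← Subgroup.coe_pow, ← hg, pow_orderOf_eq_one]; rfl
  have hgT : (g : G) ∉ f.T := fun hT => by
    have hd : orderOf g ∣ 32 := by
      rw [← Subgroup.orderOf_coe, ← f.card_T]
      exact Subgroup.orderOf_dvd_natCard _ hT
    rw [hg] at hd
    norm_num at hd
  have hA := f.order3_values g.2 hg3 hgT
  have hB := f.dual.order3_values (h := (g : G)) (f.dual_NT.symm ▸ g.2) hg3 (f.dual_T.symm ▸ hgT)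
  rw [f.dual_emb_ZT (v := 14) (by decide), f.dual_emb_ZT (v := 15) (by decide)] at hB
  rcases hA with ⟨e, -⟩ | ⟨e, -⟩ <;> rcases hB with ⟨e', -⟩ | ⟨e', -⟩ <;>
    rw [e] at e' <;> exact absurd (f.emb_inj e') (by decide +kernel)

end Frame

end CfsgLib.Characterizations.TwoTimesSymmetric
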